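import Cfsg.Agent.Lib.Glaub.QC
import Cfsg.Agent.Lib.Quad.Comp
import Cfsg.Agent.Lib.Amalg.Syl

/-!
# Glaub/FS1: partners of arbitrary quadratic elements (a Jacobson-Morozov theorem)
-/

set_option autoImplicit false
set_option linter.unusedSectionVars false

namespace Cfsg.Lib.Glaub.FS

open Module LinearMap Cfsg.Lib.Quad Cfsg.Lib.Root Cfsg.Lib.Transfer Cfsg.Lib.Glaub.QC

variable {p : ℕ} [Fact p.Prime] {M : Type*} [AddCommGroup M] [Module (ZMod p) M] [Finite M]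
  {Y H D R : Subgroup (End (ZMod p) M)ˣ} {x y z u v w u' v' g f : End (ZMod p) M} {a b : (End (ZMod p) M)ˣ}

/-- general partners -/
structure Gp (Y : Subgroup (End (ZMod p) M)ˣ) (v u : End (ZMod p) M) : Prop where
  l : Q Y v
  r : Q Y u
  vuv : v * u * v = v
  uvu : u * v * u = u

theorem gm_ex (h : g ∈ gm H) : ∃ σ ∈ H, σ.1 = g := h

theorem q_of (hx : x * x = 0) (h : 1 + x ∈ gm H) : Q H x := ⟨hx, mem_of_smul hx one_ne_zero (by simpa using h)⟩

theorem Q.one_add (h : Q H x) : 1 + x ∈ gm H := by simpa using h.mem 1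

theorem gp_of (h : Pp Y v u) (h1 : 1 + v ∈ gm H) (h2 : 1 + u ∈ gm H) : Gp H v u :=
  ⟨q_of h.l.q.sq h1, q_of h.r.q.sq h2, h.vuv, h.uvu⟩

theorem q_cj (hx : Q Y x) (hg : g ∈ gm Y) (e : g * x = y * g) : Q Y y :=
  let ⟨_, _, a, b⟩ := exists_inv hg; eq_conj e b ▸ hx.conj hg a

theorem Gp.symm (h : Gp Y v u) : Gp Y u v := ⟨h.r, h.l, h.uvu, h.vuv⟩

theorem Gp.cj (h : Gp Y v u) (hg : g ∈ gm Y) (e : g * v = v' * g) (e' : g * u = u' * g) : Gp Y v' u' := by
  obtain ⟨g', -, a, b⟩ := exists_inv hg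
  have c : ∀ t, g' * (g * t) = t := fun t => by rw [← mul_assoc, a, one_mul]
  refine ⟨q_cj h.l hg e, q_cj h.r hg e', ?_, ?_⟩ <;> rw [eq_conj e b, eq_conj e' b] <;>
    simp only [mul_assoc, c, (tri_s h.vuv).2, (tri_s h.uvu).2]

theorem Gp.smul (h : Gp Y v u) {c : ZMod p} (hc : c ≠ 0) : Gp Y (c • v) (c⁻¹ • u) :=
  ⟨h.l.smul _, h.r.smul _, by simp [h.vuv, smul_smul, hc], by simp [h.uvu, smul_smul, hc]⟩

theorem Gp.sm (h : Gp Y v u) : v * v = 0 ∧ u * u = 0 ∧ (∀ t, v * (v * t) = 0) ∧ (∀ t, u * (u * t) = 0) ∧ v * (u * v) = v ∧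
    u * (v * u) = u ∧ (∀ t, v * (u * (v * t)) = v * t) ∧ ∀ t, u * (v * (u * t)) = u * t :=
  ⟨h.l.sq, h.r.sq, sq_s h.l.sq, sq_s h.r.sq, (tri_s h.vuv).1, (tri_s h.uvu).1, (tri_s h.vuv).2, (tri_s h.uvu).2⟩

theorem Gp.nn_mul' (h : Gp Y v u) : nn v u * v = -u * nn v u := by
  simp [nn, mul_add, add_mul, mul_sub, sub_mul, mul_assoc, h.sm]

theorem Gp.nn_mem (h : Gp Y v u) : nn v u ∈ gm Y := by
  convert mul_mem (mul_mem (Q.one_add h.l) (Q.one_add h.r.neg)) (Q.one_add h.l) using 1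
  simp [nn, mul_add, add_mul, mul_assoc, h.sm]; abel

theorem Gp.inv_mem (h : Gp Y v u) : 1 - 2 • (v * u + u * v) ∈ gm Y := by
  convert mul_mem h.nn_mem h.nn_mem using 1
  simp [nn, two_mul, mul_add, add_mul, mul_sub, sub_mul, mul_assoc, h.sm]; abel

theorem Gp.zz (h : Gp Y v u) : (1 - 2 • (v * u + u * v)) * (1 - 2 • (v * u + u * v)) = 1 := by
  simp [two_mul, mul_add, add_mul, mul_sub, sub_mul, mul_assoc, h.sm]; abel

theorem uw_cube (h : x ∈ uw v) (h' : y ∈ uw v) (h'' : z ∈ uw v) : x * (y * z) = 0 := LinearMap.ext fun m => by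
  obtain ⟨n, hn⟩ := h'.2.2 (z m) (DFunLike.congr_fun h''.1 m)
  rw [End.mul_apply, End.mul_apply, ← hn]
  exact DFunLike.congr_fun h.2.1 n

theorem uw_one_mul (h : f - 1 ∈ uw v) (h' : g - 1 ∈ uw v) : f * g - 1 ∈ uw v := by
  convert add_mem (add_mem (uw_mul (Submodule.mul_mem_mul h h')) h) h' using 1
  noncomm_ring

theorem uw_one_pow (h : f - 1 ∈ uw v) (n : ℕ) : f ^ n - 1 ∈ uw v := by
  induction n with
  | zero => simp
  | succ n ih => rw [pow_succ]; exact uw_one_mul ih h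

theorem pow_p_of (hp : 5 ≤ p) (h : x ^ 3 = 0) : (1 + x) ^ p = 1 := by
  obtain ⟨r, hr⟩ := (Commute.one_left x).exists_add_pow_prime_eq (Fact.out : p.Prime)
  rw [hr, pow_eq_zero_of_le (by omega) h, ← map_natCast (algebraMap (ZMod p) _), ZMod.natCast_self]; simp

/-- the unipotent radical attached to `v` -/
def Ug (H : Subgroup (End (ZMod p) M)ˣ) (v : End (ZMod p) M) : Subgroup (End (ZMod p) M)ˣ where
  carrier := {g | g ∈ H ∧ g.1 - 1 ∈ uw v}
  one_mem' := ⟨one_mem _, by simp⟩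
  mul_mem' h h' := ⟨mul_mem h.1 h'.1, uw_one_mul h.2 h'.2⟩
  inv_mem' {g} h := ⟨inv_mem h.1, by
    rw [Units.inv_eq_of_mul_eq_one_right (u := g) (a := 1 - (g.1 - 1) + (g.1 - 1) * (g.1 - 1)) (by
      linear_combination (norm := noncomm_ring) uw_cube h.2 h.2 h.2)]
    convert add_mem (neg_mem h.2) (uw_mul (Submodule.mul_mem_mul h.2 h.2)) using 1
    abel⟩

theorem mem_gm_Ug (h : g ∈ gm H) (h' : g - 1 ∈ uw v) : g ∈ gm (Ug H v) :=
  let ⟨σ, a, e⟩ := h; ⟨σ, ⟨a, by rwa [show σ.1 = g from e]⟩, e⟩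

theorem gm_Ug (h : g ∈ gm (Ug H v)) : g ∈ gm H ∧ g - 1 ∈ uw v :=
  let ⟨σ, a, e⟩ := h; ⟨⟨σ, a.1, e⟩, (show σ.1 = g from e) ▸ a.2⟩

theorem Ug_le : Ug H v ≤ H := fun _ h => h.1

theorem Ug_p (hp : 5 ≤ p) : IsPGroup p (Ug H v) := Amalg.isPGroup_iff_mem.2 fun g h => ⟨1, Units.ext (by
  have := pow_p_of hp (x := g.1 - 1) (by rw [pow_three]; exact uw_cube h.2 h.2 h.2)
  simpa using this)⟩

theorem uw_comm (h : g - 1 ∈ uw v) : g * v = v ∧ v * g = v :=
  ⟨by simpa [sub_mul, sub_eq_zero] using h.2.1, by simpa [mul_sub, sub_eq_zero] using h.1⟩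

theorem cx_mul' : cx a (x * y) = cx a x * cx a y := by simp [cx, mul_assoc]
theorem cx_add : cx a (x + y) = cx a x + cx a y := by simp [cx, mul_add, add_mul]
theorem cx_sub : cx a (x - y) = cx a x - cx a y := by simp [cx, mul_sub, sub_mul]
theorem cx_smul (c : ZMod p) : cx a (c • x) = c • cx a x := by simp [cx]
theorem cx_id : cx a (1 : End (ZMod p) M) = 1 := by simp [cx]
theorem cx_zero : cx a (0 : End (ZMod p) M) = 0 := by simp [cx]
theorem cx_val : cx a b.1 = (a * b * a⁻¹).1 := by simp [cx]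
theorem cx_eq_zero : cx a x = 0 ↔ x = 0 := by rw [← cx_inv, cx_zero, eq_comm]

theorem uw_cx (h : x ∈ uw v) : cx a x ∈ uw (cx a v) := ⟨by rw [← cx_mul', h.1, cx_zero], by rw [← cx_mul', h.2.1, cx_zero],
  fun m hm => by
    have : v ((a⁻¹).1 m) = 0 := by simpa [cx, ← End.mul_apply (a⁻¹).1 a.1] using congrArg (a⁻¹).1 (mem_ker.1 hm)
    obtain ⟨n, hn⟩ := h.2.2 _ this
    exact ⟨a.1 n, by simp [cx, ← hn, ← End.mul_apply (a⁻¹).1 a.1]⟩⟩

theorem uw_eq (h1 : range v = range w) (h2 : ker v = ker w) : uw v ≤ uw w := fun _ h =>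
  ⟨le_r h2.le h.1, le_l h1.ge h.2.1, fun m hm => h1 ▸ h.2.2 m (h2 ▸ hm)⟩

theorem conj_Ug (ha : a ∈ Subgroup.normalizer (H : Set (End (ZMod p) M)ˣ)) (hb : b ∈ Ug H v) : a * b * a⁻¹ ∈ Ug H (cx a v) :=
  ⟨(Subgroup.mem_normalizer_iff.1 ha b).1 hb.1, by rw [← cx_val, ← cx_id (a := a), ← cx_sub]; exact uw_cx hb.2⟩

theorem norm_Ug (ha : a ∈ Subgroup.normalizer (H : Set (End (ZMod p) M)ˣ)) (h1 : range (cx a v) = range v) (h2 : ker (cx a v) = ker v) :
    a ∈ Subgroup.normalizer (Ug H v : Set (End (ZMod p) M)ˣ) :=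
  mem_normalizer_of_cj_le (cj_le_iff.2 fun _ hb => let h := conj_Ug ha hb; ⟨h.1, uw_eq h1 h2 h.2⟩)

variable (hp : 5 ≤ p)
include hp

theorem Gp.cj_of_eq (h : Gp Y v u) (h' : Gp Y v u') (e : v * u + u * v = v * u' + u' * v) :
    ∃ g ∈ gm (Ug Y v), g * u = u' * g := by
  obtain ⟨c, hc⟩ : ∃ c, c = v * u - v * u' := ⟨_, rfl⟩
  have hc' : c = u' * v - u * v := by rw [hc, sub_eq_sub_iff_add_eq_add, e, add_comm]
  have c1 : c * v = 0 := by simp [hc', sub_mul, mul_assoc, h.sm]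
  have c2 : v * c = 0 := by simp [hc, mul_sub, h.sm]
  have c3 : c * c = 0 := by nth_rw 2 [hc]; simp [mul_sub, ← mul_assoc, c1]
  have c4 : (1 + c) * u = u' * (1 + c) := by
    nth_rw 2 [hc]; rw [hc']; simp [mul_add, add_mul, mul_sub, sub_mul, mul_assoc, h.sm, h'.sm]
  have c5 : c * (u * v) = c := by rw [hc']; simp [sub_mul, mul_assoc, h.sm]
  have c6 : u' = (1 + c) * u * (1 - c) := by rw [c4]; simp [mul_add, add_mul, mul_sub, mul_assoc, c3]
  have k : ∀ a : ZMod p, a ≠ 0 → (1 + c) * (1 + (a⁻¹ * a⁻¹) • (u * c * u)) ∈ gm Y := fun a ha => by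
    refine mem_of_mul (h.smul ha).nn_mem (?_ : _ = nn (a • v) (a⁻¹ • u')) (h'.smul ha).nn_mem
    simp only [nn, smul_mul_smul_comm, mul_inv_cancel₀ ha, inv_mul_cancel₀ ha, one_smul, ← e]
    rw [c6]
    simp [mul_add, add_mul, mul_sub, mul_assoc, h.sm, c1, c5, smul_smul, ha, show ∀ t, c * (v * t) = 0 from fun t => by
      rw [← mul_assoc, c1, zero_mul]]
    module
  have b : u * c * u * (u * c * u) = 0 := by simp [mul_assoc, h.sm]
  have h2 := two_ne' hp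
  have h3 : (1 + c) * (1 + u * c * u) ∈ gm Y := by simpa using k 1 one_ne_zero
  have h4 := mem_of_smul b (c := (2 : ZMod p)⁻¹ * 2⁻¹ - 1) (fun e => by
    have : ((3 : ℕ) : ZMod p) = 0 := by field_simp at e; linear_combination -e
    have := Nat.le_of_dvd three_pos ((ZMod.natCast_eq_zero_iff 3 p).1 this); omega)
    (mem_of_mul' h3 (by rw [mul_assoc, add_mul 1 (u * c * u), one_mul, mul_add (u * c * u), mul_smul_comm, b]; simp [sub_smul, add_assoc]) (k 2 h2)) (-1)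
  refine ⟨1 + c, mem_gm_Ug ?_ (by
    rw [add_sub_cancel_left]; exact ⟨c2, c1, fun m _ => ⟨(u - u') m, by simp [hc]⟩⟩), c4⟩
  convert mul_mem h3 h4 using 1
  rw [mul_assoc, add_mul 1 (u * c * u), one_mul, mul_add (u * c * u), mul_smul_comm, b]; simp

theorem Gp.cj_partner (h : Gp Y v u) (h' : Gp Y v u') : ∃ g ∈ gm (Ug Y v), g * u = u' * g := by
  obtain ⟨d, hd⟩ : ∃ d, d = v * (u - u') + (u - u') * v := ⟨_, rfl⟩
  obtain ⟨z, hz⟩ : ∃ z, z = 1 - 2 • (v * u + u * v) := ⟨_, rfl⟩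
  have d1 : v * d = 0 := by simp [hd, mul_add, mul_sub, sub_mul, h.sm, h'.sm]
  have d2 : d * v = 0 := by simp [hd, add_mul, mul_sub, sub_mul, mul_assoc, h.sm, h'.sm]
  have z1 : z * v = -v := by simp [hz, two_mul, add_mul, sub_mul, mul_assoc, h.sm]
  have z2 : v * z = -v := by simp [hz, two_mul, mul_add, mul_sub, h.sm]
  have z3 : z * z = 1 := hz ▸ h.zz
  obtain ⟨n, hn⟩ : ∃ n, n = z * (2 • d) := ⟨_, rfl⟩
  have n1 : v * n = 0 := by simp [hn, ← mul_assoc, z2, two_mul, mul_add, d1]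
  have n2 : n * v = 0 := by simp [hn, mul_assoc, d2]
  have n4 : n ∈ uw v := ⟨n1, n2, fun m hm => ⟨-(2 • (u - u') m), by
    have := fun t => DFunLike.congr_fun z1 t
    simp only [End.mul_apply, LinearMap.neg_apply] at this
    simp only [hn, hd, End.mul_apply, LinearMap.smul_apply, LinearMap.add_apply, mem_ker.1 hm, map_zero, add_zero, map_nsmul, this,
      map_neg, smul_neg]⟩⟩
  have e : 1 - 2 • (v * u' + u' * v) = z * (1 + n) := by
    rw [hn, mul_add, ← mul_assoc, z3, hz, hd]; simp only [mul_sub, sub_mul, mul_one, one_mul]; abel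
  have m1 : 1 + n ∈ gm (Ug Y v) := mem_gm_Ug (mem_of_mul' (hz ▸ h.inv_mem) e.symm h'.inv_mem) (by rwa [add_sub_cancel_left])
  have m2 : (1 + n) ^ p = 1 := pow_p_of hp (by rw [pow_three]; exact uw_cube n4 n4 n4)
  have m3 : (1 + n) * z * (1 + n) = z := by
    have : z * (1 + n) * (z * (1 + n)) = 1 := e ▸ h'.zz
    have := congrArg (z * ·) this
    simpa only [← mul_assoc, z3, one_mul, mul_one] using this
  obtain ⟨m, hm⟩ : Odd p := (Fact.out : p.Prime).odd_of_ne_two (by omega)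
  have m4 : ∀ j, (1 + n) ^ j * z * (1 + n) ^ j = z := fun j => by
    induction j with
    | zero => simp
    | succ j ih => nth_rw 1 [pow_succ']; rw [pow_succ, mul_assoc (1 + n), ← mul_assoc, mul_assoc (1 + n), ih, m3]
  have m5 : (1 + n) ^ m * z = z * (1 + n) * (1 + n) ^ m := by
    replace m2 : (1 + n) ^ m * ((1 + n) * (1 + n) ^ m) = 1 := by
      rw [← pow_succ', ← pow_add, show m + (m + 1) = p by omega, m2]
    rw [mul_assoc z]; nth_rw 2 [← m4 m]; rw [mul_assoc _ ((1 + n) ^ m), m2, mul_one]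
  have m6 : (1 + n) ^ m * v = v * (1 + n) ^ m :=
    (Commute.pow_left (by simp [Commute, SemiconjBy, mul_add, add_mul, n1, n2]) m).eq
  obtain ⟨s, -, s1, s2⟩ := exists_inv (pow_mem m1 m)
  have m7 : (1 + n) ^ m * u = (1 + n) ^ m * u * s * (1 + n) ^ m := by rw [mul_assoc, s1, mul_one]
  obtain ⟨g, a1, a3⟩ := (h.cj (gm_mono Ug_le (pow_mem m1 m)) m6 m7).cj_of_eq hp h' (by
    have := eq_conj m5 s2
    rw [← e, hz, mul_sub, sub_mul, mul_one, s2, sub_right_inj, mul_smul_comm, smul_mul_assoc, ← Nat.cast_smul_eq_nsmul (ZMod p),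
      ← Nat.cast_smul_eq_nsmul (ZMod p)] at this
    rw [smul_right_injective _ (two_ne' hp) this, mul_add, add_mul, ← mul_assoc, ← mul_assoc, ← m6, mul_assoc _ s, inv_cj m6 s1 s2]
    simp only [mul_assoc])
  exact ⟨_, mul_mem a1 (pow_mem m1 m), mul_cj m7 a3⟩

/-- equivariant partners -/
theorem Gp.equiv (h : Gp Y v u) (hD : D ≤ Y) (hc : (Nat.card D).Coprime p) (hs : ∀ a ∈ D, ∃ c : ZMod p, c ≠ 0 ∧ cx a v = c • v) :
    ∃ k ∈ Ug Y v, Gp Y v (cx k u) ∧ ∀ a ∈ D, ∀ c : ZMod p, cx a v = c • v → c • cx a (cx k u) = cx k u := by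
  let T : Subgroup (End (ZMod p) M)ˣ :=
    { carrier := {a | ∃ c : ZMod p, c ≠ 0 ∧ cx a v = c • v ∧ cx a u = c⁻¹ • u}
      one_mem' := ⟨1, one_ne_zero, by simp [cx_one], by simp [cx_one]⟩
      mul_mem' := fun ⟨c, c1, c2, c3⟩ ⟨d, d1, d2, d3⟩ => ⟨d * c, mul_ne_zero d1 c1, by rw [cx_mul, d2, cx_smul, c2, smul_smul],
        by rw [cx_mul, d3, cx_smul, c3, smul_smul, mul_inv]⟩
      inv_mem' := fun ⟨c, c1, c2, c3⟩ => ⟨c⁻¹, inv_ne_zero c1, cx_inv.2 (by rw [cx_smul, c2, inv_smul_smul₀ c1]),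
        cx_inv.2 (by rw [cx_smul, c3, inv_inv, smul_inv_smul₀ c1])⟩ }
  have fv : ∀ k ∈ Ug Y v, cx k v = v := fun k hk => cx_eq.2 (by rw [(uw_comm hk.2).1, (uw_comm hk.2).2])
  obtain ⟨k, k1, k2⟩ := Coprime.exists_conj_mem_of_le_mul (A := D) (K := Ug Y v) (fun a ha => by
      obtain ⟨c, c1, c2⟩ := hs a ha
      exact norm_Ug (Subgroup.le_normalizer (hD ha)) (by rw [c2, range_smul _ _ c1]) (by rw [c2, ker_smul _ _ c1]))
    (Coprime.coprime_card_of_isPGroup (Ug_p hp) hc) (.inr (Coprime.isSolvable_of_isPGroup (Ug_p hp))) T fun a ha => by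
      obtain ⟨c, c1, c2⟩ := hs a ha
      have := ((h.cj (mem_gm.2 (hD ha)) mul_cx mul_cx).smul (inv_ne_zero c1))
      rw [c2, inv_smul_smul₀ c1, inv_inv] at this
      obtain ⟨_, ⟨k, k1, rfl⟩, k2⟩ := h.cj_partner hp this
      refine ⟨k, k1, c, c1, by rw [cx_mul, c2, cx_smul, fv _ (Subgroup.inv_mem _ k1)], ?_⟩
      rw [cx_mul, cx_inv, cx_smul, cx_eq.2 k2, inv_smul_smul₀ c1]
  have g := h.cj (mem_gm.2 (Ug_le k1)) (by rw [(uw_comm k1.2).1, (uw_comm k1.2).2]) mul_cx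
  refine ⟨k, k1, g, fun a ha c e => ?_⟩
  obtain ⟨d, d1, d2, d3⟩ := k2 a ha
  rw [mul_assoc, cx_mul, cx_inv, cx_mul, cx_smul] at d2 d3
  by_cases h0 : v = 0
  · have : cx k u = 0 := by rw [← g.uvu, h0]; simp
    rw [this, cx_zero, smul_zero]
  · rw [fv k k1, e] at d2
    rw [← d3, ← smul_left_injective _ h0 d2, smul_inv_smul₀ d1]

omit hp in
theorem IC.eq_bot_p (hI : IC Y) (hR : R ≤ Y) (hn : Y ≤ Subgroup.normalizer (R : Set (End (ZMod p) M)ˣ)) (hP : IsPGroup p R) : R = ⊥ := by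
  have h1 : ∀ m, m ∈ fixedSubmodule R ↔ ∀ u ∈ R, u.1 m = m := fun m => by simp [fixedSubmodule, sub_eq_zero]
  obtain e | e := hI.2 (fixedSubmodule R) fun g hg m hm => (h1 _).2 fun u hu => by
    have := (h1 m).1 hm _ ((Subgroup.mem_normalizer_iff.1 (sup_le hn ((Subgroup.centralizer_le hR).trans
      (Subgroup.centralizer_le_normalizer _)) (inv_mem hg)) u).1 hu)
    simpa [← End.mul_apply g.1 (g⁻¹).1] using congrArg g.1 this
  · obtain ⟨m, hm⟩ := hI.1
    have : Nontrivial M := ⟨m, 0, hm⟩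
    obtain ⟨b, b1, b2⟩ := hP.exists_fixed_point_of_prime_dvd_card_of_fixed_point M (a := 0) (by
      rw [Module.natCard_eq_pow_finrank (K := ZMod p), Nat.card_zmod]
      exact dvd_pow_self _ Module.finrank_pos.ne') fun _ => smul_zero _
    exact (b2 ((Submodule.mem_bot _).1 (e ▸ (h1 b).2 fun u hu => b1 ⟨u, hu⟩)).symm).elim
  · exact (Subgroup.eq_bot_iff_forall _).2 fun u hu => Units.ext (LinearMap.ext fun m => (h1 m).1 (e.ge trivial) u hu)

theorem Gp.eq_zero (h : Gp R v u) (hR : IsPGroup p R) : v = 0 := by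
  obtain ⟨z, z1, z2⟩ := h.inv_mem
  replace z2 : z.1 = _ := z2
  obtain ⟨n, hn⟩ := Amalg.isPGroup_iff_mem.1 hR z z1
  have e : z ^ 2 = 1 := Units.ext (by rw [sq, Units.val_mul, z2, h.zz]; rfl)
  have o : z = 1 := by
    have := (pow_gcd_eq_one (a := z)).2 ⟨e, hn⟩
    rwa [(Nat.coprime_two_left.2 (((Fact.out : p.Prime).odd_of_ne_two (by omega)).pow)).gcd_eq_one, pow_one] at this
  have := congrArg (· * v) z2
  simp only [o, sub_mul, smul_mul_assoc, add_mul, mul_assoc, h.sm, Units.val_one, one_mul, mul_zero, add_zero] at this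
  rwa [eq_comm, sub_eq_self, ← Nat.cast_smul_eq_nsmul (ZMod p), Nat.cast_ofNat, smul_eq_zero_iff_right (two_ne' hp)] at this

omit hp in
/-- the group generated by the `1 + x` with `S x` -/
def Gn (S : End (ZMod p) M → Prop) : Subgroup (End (ZMod p) M)ˣ := Subgroup.closure {g | S (g.1 - 1)}

section
variable {S : End (ZMod p) M → Prop}
omit hp

theorem mem_Gn (h : S x) (hx : x * x = 0) : 1 + x ∈ gm (Gn S) := (mem_gm (σ := ux hx)).2 (Subgroup.subset_closure (by simpa using h))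

theorem Gn_le (h : ∀ x, S x → 1 + x ∈ gm H) : Gn S ≤ H := (Subgroup.closure_le _).2 fun g hg => mem_gm.1 (by simpa using h _ hg)

theorem Gn_comm (h : ∀ x, S x → y * x = x * y) (hg : g ∈ gm (Gn S)) : y * g = g * y := by
  obtain ⟨g, hg, rfl⟩ := hg
  exact (cx_eq.1 (((Subgroup.closure_le (fx y y)).2 (fun g hg => by
    have : cx g y = y := cx_eq.2 (by simpa [mul_sub, sub_mul] using (h _ hg).symm)
    exact ⟨this, this⟩) hg).1)).symm

theorem Gn_norm (h : ∀ x, S x → S (cx a x)) : a ∈ Subgroup.normalizer (Gn S : Set (End (ZMod p) M)ˣ) :=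
  mem_normalizer_of_cj_le (by
    rw [cj_def, Gn, MonoidHom.map_closure, Subgroup.closure_le]
    rintro _ ⟨g, hg, rfl⟩
    refine Subgroup.subset_closure ?_
    have := h _ hg
    rwa [cx_sub, cx_id, cx_val] at this)

end

theorem comm_of_all (hG : IC Y) (hx : Q Y x) (h : ∀ u, Qd Y u → u * x * u = 0) (hu : Qd Y u) : x * u = u * x := by
  have h2 := two_ne' hp
  have i1 : ∀ t y, Q Y y → (∀ u, Qd Y u → u * t * u = 0) → ∀ u, Qd Y u →
      u * (y * t - t * y) * u = 0 := fun t y hy ht u hu => by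
    have key : ∀ c : ZMod p, u * ((1 + c • y) * t * (1 + (-c) • y)) * u = 0 := fun c => by
      have e : ∀ c : ZMod p, (1 + c • y) * (1 + (-c) • y) = 1 := fun c => by simp [mul_add, add_mul, hy.sq]
      have := congrArg ((1 + c • y) * · * (1 + (-c) • y)) (ht _ (hu.conj (hy.mem (-c)) (e c)))
      have e' := neg_neg c ▸ e (-c)
      simp only [mul_assoc, e, mul_one, mul_zero, zero_mul] at this
      simpa only [← mul_assoc, e, one_mul] using this
    refine (smul_eq_zero_iff_right h2).1 ?_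
    have := congrArg₂ (· - ·) (key 1) (key (-1))
    simp only [mul_add, add_mul, mul_sub, sub_mul, smul_mul_assoc, mul_smul_comm, mul_one, one_mul, mul_assoc] at this ⊢
    linear_combination (norm := module) this
  have i2 : ∀ t, Q Y t → rk t ≤ rk u → (∀ u, Qd Y u → u * t * u = 0) → t = 0 := fun t ht h4 h5 => by_contra fun e =>
    let ⟨v, hv, e'⟩ := hG.exists_opp h2 (hu.of_rk ht e h4)
    e' ((hu.of_rk ht e h4).mul_symm h2 hv.q (h5 v hv))
  have h4 := i1 x u hu.q h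
  have h5 : x * u * x = 0 := by
    have h5 := (hx.comm (hx.conj (hu.q.mem 1) (g' := 1 - u) (by simp [mul_add, sub_mul, hu.q.sq])) ?_ ?_).smul 2⁻¹
    · refine i2 _ (by
        convert h5 using 1
        simp only [eq_inv_smul_iff₀ h2, mul_add, add_mul, mul_sub, sub_mul, mul_assoc, one_smul, mul_one, one_mul, hx.sq, sq_s hx.sq, tri_s (h u hu),
          mul_zero, zero_mul]
        module) rk_mul_le fun v hv => (smul_eq_zero_iff_right h2).1 ?_
      have := i1 _ x hx h4 v hv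
      simp only [mul_sub, sub_mul, mul_assoc, hx.sq, sq_s hx.sq, mul_zero, zero_mul] at this ⊢
      linear_combination (norm := module) this
    all_goals simp [mul_add, add_mul, mul_sub, sub_mul, mul_assoc, hx.sq, sq_s hx.sq, tri_s (h u hu)]
  exact (sub_eq_zero.1 (i2 _ (hu.q.comm hx (h u hu) h5) (by simpa [sub_eq_add_neg] using rk_frob (p := -x) (by simp [h5])) h4)).symm

/-- Jacobson-Morozov -/
theorem jm (hG : IC Y) (hx : Q Y x) : ∃ a η, Gp (Gn (Qd Y)) a η ∧ Q Y (x - a) ∧ ∀ u, Qd Y u → (x - a) * u = u * (x - a) := by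
  have h2 := two_ne' hp
  induction e : rk x using Nat.strong_induction_on generalizing x with | _ n ih => ?_
  by_cases! h : ∀ u, Qd Y u → u * x * u = 0
  · exact ⟨0, 0, ⟨.zero, .zero, by simp, by simp⟩, by simpa, fun u hu => by simpa using comm_of_all hp hG hx h hu⟩
  obtain ⟨y, hy, h⟩ := h
  obtain ⟨u, hu, h0, e1⟩ := hy.exists_partner h2 (card_ne hp) hx h
  have h3 := (hy.of_Es hu h0).1
  have h4 := h3.xux hx e1
  have h5 : range (x - x * u * x) ≤ range x := by rw [mul_assoc, ← mul_one_sub]; exact range_mul_le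
  obtain ⟨a, η, b1, b2, b3⟩ := ih _ (e ▸ not_le.1 fun h6 => h0 (by
    rw [← e1, le_l (range_eq_of_rk h5 h6).ge (by simp [mul_sub, ← mul_assoc, e1]), zero_mul]))
    (hx.sub h4.q (by simp [mul_assoc, sq_s hx.sq]) (by simp [mul_assoc, hx.sq])) rfl
  obtain ⟨w, hw⟩ : ∃ w, w = x * u * x := ⟨_, rfl⟩
  obtain ⟨x', hx'⟩ : ∃ x', x' = x - w := ⟨_, rfl⟩
  rw [← hw] at h4 b2 b3
  rw [← hx'] at b2 b3
  obtain ⟨b, hb⟩ : ∃ b, b = x' - a := ⟨_, rfl⟩
  rw [← hb] at b2 b3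
  have g : Gp (Gn (Qd Y)) w u := ⟨q_of h4.q.sq (mem_Gn h4 h4.q.sq), q_of h3.q.sq (mem_Gn h3 h3.q.sq),
    by simp [hw, mul_assoc, tri_s e1], by simp [hw, mul_assoc, tri_s e1]⟩
  have c1 : x' * u = 0 := by simp [hx', hw, sub_mul, mul_assoc, tri_s e1]
  have c2 : u * x' = 0 := by simp [hx', hw, mul_sub, mul_assoc, tri_s e1]
  have c3 : x' * w = 0 := by rw [hx', sub_mul, h4.q.sq, hw]; simp [mul_assoc, sq_s hx.sq]
  have c4 : w * x' = 0 := by rw [hx', mul_sub, h4.q.sq, hw]; simp [mul_assoc, hx.sq]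
  have ha : a = x' - b := by rw [hb]; abel
  have c5 : a * u = u * a := by rw [ha, mul_sub, sub_mul, c1, c2, b3 u h3]
  have c6 : a * w = w * a := by rw [ha, mul_sub, sub_mul, c3, c4, b3 w h4]
  obtain ⟨E, hE⟩ : ∃ E, E = w * u + u * w := ⟨_, rfl⟩
  have c7 : a * E = E * a := by
    rw [hE, mul_add, add_mul, ← mul_assoc, ← mul_assoc, c5, c6, mul_assoc, mul_assoc, c5, c6, mul_assoc, mul_assoc]
  obtain ⟨Z, z1, z2⟩ := g.inv_mem
  replace z2 : Z.1 = 1 - 2 • E := hE ▸ z2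
  have z3 : cx Z a = a := cx_eq.2 (by rw [z2, sub_mul, mul_sub, smul_mul_assoc, mul_smul_comm, c7, one_mul, mul_one])
  obtain ⟨k, -, d1, d2⟩ := b1.equiv hp (D := Subgroup.zpowers Z) (Subgroup.zpowers_le_of_mem z1) (by
    rw [Nat.card_zpowers]
    exact (Nat.coprime_two_left.2 ((Fact.out : p.Prime).odd_of_ne_two (by omega))).coprime_dvd_left
      (orderOf_dvd_of_pow_eq_one (Units.ext (by rw [sq, Units.val_mul, z2, hE, g.zz]; rfl))))
    fun d hd => ⟨1, one_ne_zero, by rw [one_smul]; exact (Subgroup.zpowers_le_of_mem (H := fx a a) ⟨z3, z3⟩ hd).1⟩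
  generalize cx k η = θ at d1 d2
  have d3 : θ * E = E * θ := by
    have := cx_eq.1 ((one_smul _ _).symm.trans (d2 Z (Subgroup.mem_zpowers Z) 1 (by rw [z3, one_smul])))
    rw [z2, sub_mul, mul_sub, smul_mul_assoc, mul_smul_comm, one_mul, mul_one, sub_right_inj,
      ← Nat.cast_smul_eq_nsmul (ZMod p), ← Nat.cast_smul_eq_nsmul (ZMod p)] at this
    exact (smul_right_injective _ h2 this).symm
  have d4 : b * θ = θ * b := by simpa [mul_add, add_mul] using Gn_comm b3 (Q.one_add d1.r)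
  have d5 : b * a = a * b := by simpa [mul_add, add_mul] using Gn_comm b3 (Q.one_add d1.l)
  have d6 : a * E = -(b * E) := by rw [ha, hE, sub_mul, mul_add x', ← mul_assoc, ← mul_assoc, c1, c3]; simp
  have d7 : a * E = 0 := by
    rw [← d1.vuv, mul_assoc, d6, mul_neg, mul_assoc, ← mul_assoc θ, ← d4, mul_assoc b, d3, ← mul_assoc, ← mul_assoc, ← d5, mul_assoc b,
      d6, mul_neg, sq_s b2.sq]; simp
  have d8 : θ * E = 0 := by rw [← d1.uvu, mul_assoc, d3, ← mul_assoc, mul_assoc θ, d7]; simp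
  have f1 : E * w = w := by simp [hE, add_mul, mul_assoc, g.sm]
  have f2 : w * E = w := by simp [hE, mul_add, g.sm]
  have f3 : E * u = u := by simp [hE, add_mul, mul_assoc, g.sm]
  have f4 : u * E = u := by simp [hE, mul_add, g.sm]
  have f5 : a * w = 0 := by rw [← f1, ← mul_assoc, d7, zero_mul]
  have f6 : a * u = 0 := by rw [← f3, ← mul_assoc, d7, zero_mul]
  have f7 : θ * w = 0 := by rw [← f1, ← mul_assoc, d8, zero_mul]
  have f8 : θ * u = 0 := by rw [← f3, ← mul_assoc, d8, zero_mul]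
  have f9 : w * θ = 0 := by rw [← f2, mul_assoc, ← d3, d8, mul_zero]
  have f10 : u * θ = 0 := by rw [← f4, mul_assoc, ← d3, d8, mul_zero]
  have e2 : x - (w + a) = b := by rw [hb, hx']; abel
  refine ⟨w + a, u + θ, ⟨g.l.add d1.l (c6 ▸ f5) f5, g.r.add d1.r f10 f8, ?_, ?_⟩, e2 ▸ b2, e2 ▸ b3⟩
  · simp [mul_add, add_mul, f6, f9, g.vuv, d1.vuv, mul_assoc w u a, mul_assoc a θ w, ← c5, f7]
  · simp [mul_add, add_mul, f7, ← c5, f6, g.uvu, d1.uvu, mul_assoc u w θ, mul_assoc θ a u, f9]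

end Cfsg.Lib.Glaub.FS
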