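import Cfsg.Agent.Lib.Glaub.FS1
import Cfsg.Agent.Lib.Amalg.Ops

/-!
# Glaub/FS2: the normalizer of a root subgroup contains a Sylow `p`-subgroup
-/

set_option autoImplicit false
set_option linter.unusedSectionVars false

namespace Cfsg.Lib.Glaub.FS

open Module LinearMap Cfsg.Lib.Quad Cfsg.Lib.Glaub.QC Cfsg.Lib.Amalg

variable {p : ℕ} [Fact p.Prime] {M : Type*} [AddCommGroup M] [Module (ZMod p) M] [Finite M]
  {Y H D R L T : Subgroup (End (ZMod p) M)ˣ} {x y z u v w s t u' v' g f : End (ZMod p) M} {a b : (End (ZMod p) M)ˣ}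

theorem qd_cx (hx : Qd Y x) (ha : a ∈ Y) : Qd Y (cx a x) := qd_cj hx (mem_gm.2 ha) mul_cx

theorem ne_iff (hx : Qd Y x) (ha : a ∈ Y) : a ∈ 𝐍 (Eg Y x) ↔ cx a x ∈ Es Y x := by
  rw [← Transfer.cj_eq_iff, cj_Eg ha]
  exact ⟨fun e => by simpa [mem_Eg, cx] using e.le (ux_mem_Eg (qd_cx hx ha).q.mem_Es), fun e => hx.Eg_eq e (qd_cx hx ha).ne⟩

theorem ne_cx (hx : Qd Y x) (ha : a ∈ Y) (h : a ∈ 𝐍 (Eg Y x)) (hw : w ∈ Es Y x) : cx a w ∈ Es Y x :=
  Es_le ((ne_iff hx ha).1 h) (es_cj hw (mem_gm.2 ha) mul_cx mul_cx)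

theorem ne_of_cx (hx : Qd Y x) (ha : a ∈ Y) (hb : b ∈ Y) (h : cx b x ∈ Es Y (cx a x)) : b⁻¹ * a ∈ 𝐍 (Eg Y x) := by
  have := es_cj h (mem_gm.2 (inv_mem hb)) mul_cx mul_cx
  rw [← cx_mul, ← cx_mul, inv_mul_cancel, cx_one] at this
  exact (ne_iff hx (mul_mem (inv_mem hb) ha)).2 ((qd_cx hx (mul_mem (inv_mem hb) ha)).symm this hx.ne)

theorem norm_Ug' (hx : Qd Y x) (ha : a ∈ Y) (h : a ∈ 𝐍 (Eg Y x)) (hL : a ∈ 𝐍 L) : a ∈ 𝐍 (Ug L x) :=
  let e := hx.of_Es ((ne_iff hx ha).1 h) (qd_cx hx ha).ne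
  norm_Ug hL e.2.1 e.2.2

theorem es_uw (hv : v * v = 0) (hw : w ∈ Es Y v) : w ∈ uw v := ⟨hw.2.2.2, Es_r hw hv, fun _ hm => by
  rw [mem_ker.1 (hw.2.2.1 hm)]; exact zero_mem _⟩

theorem Eg_p : IsPGroup p (Eg Y x) := isPGroup_iff_mem.2 fun g h => ⟨1, Units.ext (by
  obtain ⟨r, hr⟩ := (Commute.one_left (g.1 - 1)).exists_add_pow_prime_eq (Fact.out : p.Prime)
  rw [add_sub_cancel] at hr
  rw [pow_one, Units.val_pow_eq_pow_val, hr, pow_eq_zero_of_le (Fact.out : p.Prime).two_le ((sq _).trans h.1.sq),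
    ← map_natCast (algebraMap (ZMod p) _), ZMod.natCast_self]; simp)⟩

theorem uw_mid (e : v * u * v = v) (h : y ∈ uw v) : (1 - v * u) * y * (1 - u * v) = 0 := LinearMap.ext fun m => by
  obtain ⟨n, hn⟩ := h.2.2 ((1 - u * v) m) (by simpa [sub_eq_zero] using (DFunLike.congr_fun e m).symm)
  rw [End.mul_apply, End.mul_apply, ← hn]
  simpa [sub_eq_zero] using (DFunLike.congr_fun e n).symm

theorem uwz (h : Gp H v u) (hz : z = 1 - 2 • (v * u + u * v)) (hs : s ∈ uw v) (ht : t ∈ uw v) :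
    z * (s * t) = -(s * t) ∧ s * t * z = -(s * t) ∧ s * z * t = s * t := by
  have a1 : v * (u * (s * t)) = s * t := by
    have := congrArg (· * t) (uw_mid h.vuv hs)
    simpa [mul_sub, sub_mul, mul_assoc, ht.1, sub_eq_zero, eq_comm] using this
  have a2 : s * (t * (u * v)) = s * t := by
    have := congrArg (s * ·) (uw_mid h.vuv ht)
    simpa [mul_sub, sub_mul, ← mul_assoc, hs.2.1, sub_eq_zero, eq_comm] using this
  have a3 : ∀ q, v * (s * q) = 0 := fun q => by rw [← mul_assoc, hs.1, zero_mul]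
  have a4 : ∀ q, t * (v * q) = 0 := fun q => by rw [← mul_assoc, ht.2.1, zero_mul]
  have a5 : ∀ q, s * (v * q) = 0 := fun q => by rw [← mul_assoc, hs.2.1, zero_mul]
  refine ⟨?_, ?_, ?_⟩ <;> simp [hz, two_mul, mul_add, add_mul, mul_sub, sub_mul, mul_assoc, a1, a2, a3, a4, a5, ht.1]

/-- the group generated by the class of `v` -/
def Lc (Y H : Subgroup (End (ZMod p) M)ˣ) (v : End (ZMod p) M) : Subgroup (End (ZMod p) M)ˣ := Gn fun x => Qd Y x ∧ Rl Y H x v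

variable (hQ : ∀ x, Q Y x → 1 + x ∈ gm H) (hp : 5 ≤ p) (hH : H ≤ Y)

theorem mem_Lc (hx : Qd Y x) (h : Rl Y H x v) : 1 + x ∈ gm (Lc Y H v) := mem_Gn ⟨hx, h⟩ hx.q.sq

include hQ in
theorem Lc_le : Lc Y H v ≤ H := Gn_le fun _ h => hQ _ h.1.q

include hH in
theorem norm_Lc : H ≤ 𝐍 (Lc Y H v) := fun a ha => Gn_norm fun x h => ⟨qd_cx h.1 (hH ha),
  Rl.trans hH ⟨_, h.1.q.mem_Es, CJ.symm ⟨_, mem_gm.2 ha, mul_cx⟩⟩ h.2⟩

include hQ hp hH

theorem opp (h : Pp Y v u) (hL : ∀ x, Qd Y x → Rl Y H x v → 1 + x ∈ gm L) (hy : Qd Y y) (e : v * y * v ≠ 0) :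
    ∃ g ∈ Ug L v, cx g u ∈ Es Y y := by
  have k : ∀ {u}, Pp Y v u → Gp L v u := fun h => gp_of h (hL _ h.l (rl_of_mem h.l.q.mem_Es))
    (hL _ h.r (rl_of_opp hQ hp h.r h.l (h.uvu.symm ▸ h.r.ne)))
  obtain ⟨u', a1, a2⟩ := exists_pp hp h.l hy e h.l.q.mem_Es h.l.ne
  obtain ⟨_, b1, b2⟩ := (k h).cj_partner hp (k a2)
  obtain ⟨g, b3, rfl⟩ := gm_ex b1
  exact ⟨g, b3, cx_eq.2 b2 ▸ a1⟩

variable (h : Pp Y v u)
include h

theorem hLu (hx : Qd Y x) (e : Rl Y H x u) : 1 + x ∈ gm (Lc Y H v) :=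
  mem_Lc hx (e.trans hH (rl_of_opp hQ hp h.r h.l (h.uvu.symm ▸ h.r.ne)))

theorem norm_G1 : H ⊓ 𝐍 (Eg Y v) ≤ 𝐍 (Ug (Lc Y H v) v ⊔ Ug (Lc Y H v) u :) := fun a ha => by
  have q := qd_cx h.r (hH ha.1)
  obtain ⟨g, g1, g2⟩ := opp hQ hp hH h (fun _ => mem_Lc) q fun e => (qd_cx h.l (hH ha.1)).ne (by
    have b := (ne_iff h.l (hH ha.1)).1 ha.2
    rw [← h.vuv, cx_mul', cx_mul', h.l.triple (two_ne' hp) q e b q.q.mem_Es b])
  have g3 : g ∈ H := Lc_le hQ g1.1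
  have m : _ ∈ H := mul_mem (inv_mem g3) ha.1
  rw [← mul_inv_cancel_left g a]
  refine mul_mem (Subgroup.le_normalizer (Subgroup.mem_sup_left g1)) (Subgroup.normalizer_inf_normalizer_le_normalizer_sup _ _
    ⟨Subgroup.mul_mem _ (inv_mem (Subgroup.le_normalizer g1)) (norm_Ug' h.l (hH ha.1) ha.2 (norm_Lc hH ha.1)),
      norm_Ug' h.r (hH m) (ne_of_cx h.r (hH ha.1) (hH g3) g2) (norm_Lc hH m)⟩)

variable (hG : H ≤ Gn (Q Y))
include hG

theorem le_G1 : H ≤ (Ug (Lc Y H v) v ⊔ Ug (Lc Y H v) u) ⊔ (H ⊓ 𝐍 (Eg Y v)) := hG.trans (Gn_le fun x hx => by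
  have k : ∀ c : ZMod p, u * cx (ux (hx.smul c).sq) v * u = u + c • (u * (x * v - v * x) * u) - (c * c) • (u * (x * v * x) * u) :=
    fun c => by
      simp only [cx, ux_val, ux_inv, mul_add, add_mul, mul_sub, sub_mul, mul_one, one_mul, smul_mul_assoc, mul_smul_comm, h.uvu,
        mul_assoc, (tri_s h.uvu).1]
      module
  obtain ⟨c, c1, c2⟩ : ∃ c : ZMod p, c ≠ 0 ∧ u * cx (ux (hx.smul c).sq) v * u ≠ 0 := by
    by_contra! hc
    have h1 := k 1 ▸ hc 1 one_ne_zero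
    have h2 := k (-1) ▸ hc (-1) (neg_ne_zero.2 one_ne_zero)
    have h3 := k 2 ▸ hc 2 (two_ne' hp)
    have h4 : ((3 : ℕ) : ZMod p) ≠ 0 := fun e => by
      have := Nat.le_of_dvd three_pos ((ZMod.natCast_eq_zero_iff 3 p).1 e); omega
    refine h.r.ne ((smul_eq_zero_iff_right h4).1 ?_)
    rw [Nat.cast_ofNat]
    linear_combination (norm := module) (3 : ZMod p) • h1 + h2 - h3
  have m := (hx.smul c).ux_mem
  obtain ⟨g, g1, g2⟩ := opp hQ hp hH h.symm (fun _ => hLu hQ hp hH h) (qd_cx h.l m) c2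
  have g3 : g ∈ H := Lc_le hQ g1.1
  have m' : ux (hx.smul c).sq ∈ H := mem_gm.1 (hQ _ (hx.smul c))
  have := mem_of_smul hx.sq c1 ((mem_gm (σ := ux (hx.smul c).sq)).2 (mul_inv_cancel_left g (ux (hx.smul c).sq) ▸
    mul_mem (Subgroup.mem_sup_left (Subgroup.mem_sup_right g1) : g ∈ (Ug (Lc Y H v) v ⊔ Ug (Lc Y H v) u) ⊔ (H ⊓ 𝐍 (Eg Y v)))
      (Subgroup.mem_sup_right ⟨H.mul_mem (inv_mem g3) m', ne_of_cx h.l m (hH g3) g2⟩))) 1
  rwa [one_smul] at this)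

theorem exists_l (ha : a ∈ H) : ∃ l ∈ Lc Y H v, l⁻¹ * a ∈ 𝐍 (Eg Y v) := by
  obtain ⟨k, k1, n, n1, rfl⟩ := (Coprime.mem_sup_iff_of_le_normalizer (norm_G1 hQ hp hH h)).1 (le_G1 hQ hp hH h hG ha)
  exact ⟨k, sup_le Ug_le Ug_le k1, by simpa using n1.2⟩

theorem Lc_le_G1 : Lc Y H v ≤ Ug (Lc Y H v) v ⊔ Ug (Lc Y H v) u := Gn_le fun x hx => by
  obtain ⟨w, w1, _, s0, s2⟩ := hx.2
  obtain ⟨σ, s1, rfl⟩ := gm_ex s0
  have n := sup_le Subgroup.le_normalizer (norm_G1 hQ hp hH h) (le_G1 hQ hp hH h hG (inv_mem s1))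
  have q := CJ.qd hH ⟨_, mem_gm.2 s1, s2⟩ hx.1
  have m : ux q.q.sq ∈ Ug (Lc Y H v) v := ⟨mem_gm.1 (mem_Lc q (rl_of_mem w1)), by simpa using es_uw h.l.q.sq w1⟩
  have := mem_gm.2 ((Subgroup.mem_normalizer_iff.1 n _).1 (Subgroup.mem_sup_left m))
  rwa [← cx_val, ux_val, cx_add, cx_id, cx_inv.2 (cx_eq.2 s2)] at this

variable (hI : IC Y) (hn : Y ≤ 𝐍 H)
include hI hn

omit hQ hp h hG in
theorem eq_bot_of_norm (hR : R ≤ H) (h1 : H ≤ 𝐍 R) (h2 : IsPGroup p R) : R = ⊥ :=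
  le_bot_iff.1 ((le_op hR h1 h2).trans (IC.eq_bot_p hI ((op_le H).trans hH) (le_norm_op_of_le hn) (op_isPGroup H)).le)

theorem cent1 (hy : Qd Y y) (e : Rl Y H y v) (hc : ∀ g ∈ Ug H v, g.1 * y = y * g.1) : y ∈ uw v := by
  have h2 := two_ne' hp
  have gL : Gp (Lc Y H v) v u := gp_of h (mem_Lc h.l (rl_of_mem h.l.q.mem_Es)) (hLu hQ hp hH h h.r (rl_of_mem h.r.q.mem_Es))
  have gH : Gp H v u := gp_of h (hQ _ h.l.q) (hQ _ h.r.q)
  have c0 : ∀ t ∈ uw v, 1 + t ∈ gm H → t * y = y * t := fun t ht hm => by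
    obtain ⟨g, g1, g2⟩ := gm_ex (mem_gm_Ug hm (by rwa [add_sub_cancel_left]))
    simpa [g2, mul_add, add_mul] using hc g g1
  have c1 := c0 v (es_uw h.l.q.sq h.l.q.mem_Es) (hQ _ h.l.q)
  have y1 := mem_Lc hy e
  have e1 : (1 + y) * u = (1 + y) * u * (1 - y) * (1 + y) := by
    rw [mul_assoc _ (1 - y), show (1 - y) * (1 + y) = 1 by simp [sub_mul, mul_add, hy.q.sq], mul_one]
  have e2 : (1 + y) * v = v * (1 + y) := by simp [mul_add, add_mul, c1]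
  obtain ⟨g, g1, g2⟩ := gL.cj_partner hp (gL.cj y1 e2 e1)
  obtain ⟨g', g3, g4, g5⟩ := exists_inv g1
  obtain ⟨l, l1, l2⟩ := gm_ex (mul_mem (gm_Ug g3).1 y1)
  have l3 : l.1 * u = u * l.1 := by rw [l2, mul_assoc, e1, ← mul_assoc, inv_cj g2 g4 g5, mul_assoc]
  have l4 : l.1 * v = v * l.1 := by
    rw [l2, mul_assoc, e2, ← mul_assoc, ← mul_assoc, (uw_comm (gm_Ug g3).2).1, (uw_comm (gm_Ug g3).2).2]
  have l3' : ∀ q, l.1 * (u * q) = u * (l.1 * q) := fun q => by rw [← mul_assoc, l3, mul_assoc]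
  have l4' : ∀ q, l.1 * (v * q) = v * (l.1 * q) := fun q => by rw [← mul_assoc, l4, mul_assoc]
  obtain ⟨z, hz⟩ : ∃ z, z = 1 - 2 • (v * u + u * v) := ⟨_, rfl⟩
  have z1 : z * z = 1 := hz ▸ gH.zz
  have l5 : l.1 * z = z * l.1 := by
    simp only [hz, mul_sub, sub_mul, mul_one, one_mul, mul_smul_comm, smul_mul_assoc, mul_add, add_mul, mul_assoc, l3, l4, l3', l4']
  obtain ⟨s, hs⟩ : ∃ s, s = g' - 1 := ⟨_, rfl⟩
  have s1 : s ∈ uw v := hs ▸ (gm_Ug g3).2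
  have k : ∀ t ∈ uw v, 1 + t ∈ gm H → l.1 * t = (t + (s * t - t * s)) * l.1 := fun t ht hm => by
    have a1 : (s * t - t * s) * g' = s * t - t * s := by
      rw [show g' = 1 + s by rw [hs]; abel, mul_add, mul_one, sub_mul, mul_assoc, mul_assoc, uw_cube s1 ht s1, uw_cube ht s1 s1]; simp
    rw [l2, mul_assoc, show (1 + y) * t = t * (1 + y) by simp [mul_add, add_mul, c0 t ht hm], ← mul_assoc, ← mul_assoc, add_mul t, a1, hs]
    noncomm_ring
  obtain ⟨Z, z2, z3⟩ := gm_ex gH.inv_mem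
  rw [← hz] at z3
  have z4 : ∀ t, cx Z t = z * t * z := fun t => cx_eq.2 (by rw [z3, mul_assoc, z1, mul_one])
  have l6 : ∀ b ∈ Ug H v, l * b = b * l := fun b hb => by
    obtain ⟨t, ht⟩ : ∃ t, t = b.1 - 1 := ⟨_, rfl⟩
    have t1 : t ∈ uw v := ht ▸ hb.2
    have t2 := conj_Ug (Subgroup.le_normalizer z2) hb
    have t3 : (Z * b * Z⁻¹).1 - 1 = z * t * z := by rw [← cx_val, ← cx_id (a := Z), ← cx_sub, ← ht, z4]
    have t4 : z * t * z ∈ uw v := by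
      have := t2.2
      rwa [t3, show cx Z v = v from cx_eq.2 (by simp [z3, hz, two_mul, mul_add, add_mul, mul_sub, sub_mul, mul_assoc, h.sm])] at this
    have a1 := k t t1 (by simpa [ht] using mem_gm.2 hb.1)
    have a2 := k _ t4 (by simpa [← t3] using mem_gm.2 t2.1)
    have a3 := uwz gH hz s1 t1
    have a4 := uwz gH hz t1 s1
    have b1 : s * (z * t * z) = -(s * t) := by rw [← mul_assoc, ← mul_assoc, a3.2.2, a3.2.1]
    have b2 : z * t * z * s = -(t * s) := by rw [mul_assoc z t, mul_assoc z, a4.2.2, a4.1]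
    have b3 : z * (s * t - t * s) * z = s * t - t * s := by
      rw [mul_sub, a3.1, a4.1, sub_mul, neg_mul, neg_mul, a3.2.1, a4.2.1, neg_neg, neg_neg]
    have b4 : l.1 * (z * t * z) = (z * t * z + (s * t - t * s)) * l.1 := by
      rw [← mul_assoc, ← mul_assoc, l5, mul_assoc z l.1, a1, mul_assoc, mul_assoc, l5, ← mul_assoc, ← mul_assoc, mul_add, add_mul, b3]
    rw [b1, b2, b4, Units.mul_left_inj, add_right_inj] at a2
    rw [(smul_eq_zero_iff_right h2).1 (show (2 : ZMod p) • (s * t - t * s) = 0 by linear_combination (norm := module) a2), add_zero, ht]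
      at a1
    exact Units.ext (by simpa [mul_sub, sub_mul] using a1)
  obtain ⟨n, n1, n2⟩ := gm_ex gL.symm.nn_mem
  have l7 : l * n = n * l := Units.ext (by
    simp only [Units.val_mul, n2, nn, mul_sub, sub_mul, mul_one, one_mul, mul_add, add_mul, l3, l4, l3', l4', mul_assoc])
  have l8 : Lc Y H v ≤ Subgroup.centralizer {l} := (Lc_le_G1 hQ hp hH h hG).trans (sup_le
    (fun b hb => Subgroup.mem_centralizer_singleton_iff.2 (l6 b ⟨Lc_le hQ hb.1, hb.2⟩).symm) fun b hb => by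
      have a1 := conj_Ug (Subgroup.le_normalizer (Lc_le hQ n1)) (⟨Lc_le hQ hb.1, hb.2⟩ : b ∈ Ug H u)
      rw [cx_eq.2 (n2 ▸ gL.symm.nn_mul')] at a1
      have := l6 _ ⟨a1.1, uw_eq (range_neg _) (ker_neg _) a1.2⟩
      rw [← mul_assoc, ← mul_assoc, l7, mul_assoc (n * b), ← (Commute.inv_right l7).eq, ← mul_assoc, mul_left_inj, mul_assoc, mul_assoc,
        mul_right_inj] at this
      exact Subgroup.mem_centralizer_singleton_iff.2 this.symm)
  have l9 : l ^ p ^ 1 = 1 := Units.ext (by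
    obtain ⟨γ, c2, c3⟩ := gm_ex g3
    have c4 : Commute g' (1 + y) := by
      simpa [Commute, SemiconjBy, mul_add, add_mul, c3] using hc γ ⟨Lc_le hQ c2.1, c2.2⟩
    rw [pow_one, Units.val_pow_eq_pow_val, l2, c4.mul_pow, pow_p_of hp (by rw [pow_three, hy.q.sq, mul_zero]),
      show g' = 1 + s by rw [hs]; abel, pow_p_of hp (by rw [pow_three]; exact uw_cube s1 s1 s1)]; simp)
  have l10 : l = 1 := Subgroup.mem_bot.1 ((eq_bot_of_norm hH hI hn ((op_le _).trans (Lc_le hQ)) (le_norm_op_of_le (norm_Lc hH))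
    (op_isPGroup _)).le (le_op (Subgroup.zpowers_le_of_mem l1) (l8.trans (by
      rw [← Subgroup.centralizer_closure, ← Subgroup.zpowers_eq_closure]; exact Subgroup.centralizer_le_normalizer _)) (isPGroup_zpowers_of_pow l9) (Subgroup.mem_zpowers l)))
  have := congrArg (g * ·) l2
  simp only [l10, Units.val_one, mul_one, ← mul_assoc, g5, one_mul] at this
  simpa [this] using (gm_Ug g1).2

theorem cent2 (hy : Qd Y y) (e : Rl Y H y v) (hc : ∀ g ∈ Ug H v, g.1 * y = y * g.1) : y ∈ Es Y v := by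
  have h2 := two_ne' hp
  have h1 := cent1 hQ hp hH h hG hI hn hy e hc
  have gH : Gp H v u := gp_of h (hQ _ h.l.q) (hQ _ h.r.q)
  have c0 : ∀ t ∈ uw v, 1 + t ∈ gm H → t * y = y * t := fun t ht hm => by
    obtain ⟨g, g1, g2⟩ := gm_ex (mem_gm_Ug hm (by rwa [add_sub_cancel_left]))
    simpa [g2, mul_add, add_mul] using hc g g1
  obtain ⟨z, hz⟩ : ∃ z, z = 1 - 2 • (v * u + u * v) := ⟨_, rfl⟩
  have z1 : z * z = 1 := hz ▸ gH.zz
  obtain ⟨Z, z2, z3⟩ := gm_ex gH.inv_mem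
  rw [← hz] at z3
  have z4 : ∀ t, cx Z t = z * t * z := fun t => cx_eq.2 (by rw [z3, mul_assoc, z1, mul_one])
  obtain ⟨t, ht⟩ : ∃ t, t = v * u * y * (u * v) := ⟨_, rfl⟩
  have a1 : ∀ q, v * (y * q) = 0 := fun q => by rw [← mul_assoc, h1.1, zero_mul]
  have a2 : ∀ q, y * (v * q) = 0 := fun q => by rw [← mul_assoc, h1.2.1, zero_mul]
  have a3 : t = v * u * y + y * (u * v) - y := by rw [ht]; linear_combination (norm := noncomm_ring) uw_mid h.vuv h1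
  have a4 : z * y * z = (2 : ZMod p) • t - y := by
    have := ht.symm.trans a3
    rw [hz, ht]
    simp only [mul_add, add_mul, mul_sub, sub_mul, mul_assoc, mul_one, one_mul, smul_mul_assoc, mul_smul_comm, a1, a2, h1.1, h1.2.1,
      mul_zero, add_zero, zero_add, smul_zero] at this ⊢
    linear_combination (norm := module) (2 : ZMod p) • this
  have a5 := uwz gH hz h1 h1
  have a6 : y * (z * y * z) = 0 := by rw [← mul_assoc, ← mul_assoc, a5.2.2, hy.q.sq, zero_mul]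
  have a7 : z * y * z * y = 0 := by rw [mul_assoc z y, mul_assoc z, a5.2.2, hy.q.sq, mul_zero]
  have a8 : Q Y t := by
    simpa [a4, h2] using (hy.q.add (z4 y ▸ (qd_cx hy (hH z2)).q) a6 a7).smul 2⁻¹
  have a9 : t ∈ Es Y v := mem_Es h.l.q.sq a8 (by rw [ht, mul_assoc, mul_assoc]; exact range_mul_le)
    (by rw [ht, ← mul_assoc]; exact ker_le_mul)
  have b1 : y * t = 0 := by rw [ht, mul_assoc, mul_assoc, a2]
  have b2 : t * y = 0 := by rw [ht, mul_assoc, mul_assoc u, h1.1]; simp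
  by_contra c
  have b3 : Qd Y (y - t) := hy.of_rk (hy.q.sub a8 b1 b2) (fun e => c (sub_eq_zero.1 e ▸ a9)) (by
    have := rk_frob (x := y) (p := 1 - (v * u + u * v)) (q := 1 - (v * u + u * v)) (by
      rw [← uw_mid h.vuv h1]; simp [mul_add, add_mul, mul_sub, sub_mul, mul_assoc, a1, a2, h1.1])
    convert this using 2
    rw [a3]; simp [mul_add, add_mul, mul_sub, sub_mul, mul_assoc, a2, h1.1]; abel)
  have b4 : y - t ∈ uw v := sub_mem h1 (es_uw h.l.q.sq a9)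
  have b5 : cx Z (y - t) = (-1 : ZMod p) • (y - t) := by
    rw [cx_sub, z4, z4, a4, show z * t * z = t by simp [hz, ht, two_mul, mul_add, add_mul, mul_sub, sub_mul, mul_assoc, h.sm]]
    module
  obtain ⟨x, x1, x2⟩ := hI.exists_opp h2 b3
  obtain ⟨η, -, x3⟩ := exists_pp hp b3 x1 x2 b3.q.mem_Es b3.ne
  obtain ⟨k, k1, d1, d2⟩ := (gp_of x3 (hQ _ b3.q) (hQ _ x3.r.q)).equiv hp (D := Subgroup.zpowers Z) (Subgroup.zpowers_le_of_mem z2) (by
    rw [Nat.card_zpowers]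
    exact (Nat.coprime_two_left.2 ((Fact.out : p.Prime).odd_of_ne_two (by omega))).coprime_dvd_left
      (orderOf_dvd_of_pow_eq_one (Units.ext (by rw [sq, Units.val_mul, z3, z1]; rfl)))) fun d hd => by
      obtain ⟨m, rfl⟩ := (mem_powers_iff_mem_zpowers).2 hd
      refine ⟨(-1) ^ m, pow_ne_zero _ (neg_ne_zero.2 one_ne_zero), ?_⟩
      induction m with
      | zero => simp [cx_one]
      | succ m ih => simp only [pow_succ, cx_mul, b5, cx_smul, smul_smul] at ih ⊢; rw [ih (Subgroup.npow_mem_zpowers _ _), smul_smul, mul_comm]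
  have d3 := qd_cx x3.r (hH k1.1)
  have d4 := d2 Z (Subgroup.mem_zpowers Z) _ b5
  generalize cx k η = θ at d1 d3 d4
  generalize hw : y - t = w at *
  rw [z4, hz] at d4
  have d5 : (v * u + u * v) * θ * (v * u + u * v) = 0 := (smul_eq_zero_iff_right h2).1 (by
    have := congrArg (fun q => (v * u + u * v) * q * (v * u + u * v)) d4
    simp only [mul_add, add_mul, mul_sub, sub_mul, mul_assoc, mul_one, one_mul, smul_mul_assoc, mul_smul_comm, h.sm, mul_zero, add_zero,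
      zero_add] at this ⊢
    linear_combination (norm := module) -this)
  have d6 : θ = (v * u + u * v) * θ + θ * (v * u + u * v) := (smul_right_injective _ h2) (by
    simp only [mul_add, add_mul, mul_sub, sub_mul, mul_assoc, mul_one, one_mul, smul_mul_assoc, mul_smul_comm] at d4 d5 ⊢
    linear_combination (norm := module) -d4 - (4 : ZMod p) • d5)
  have d7 : v * θ * v = 0 := by
    simpa [mul_add, add_mul, mul_assoc, h.sm] using congrArg (fun q => v * q * v) d5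
  have d8 := d3.mul_symm h2 h.l.q d7
  have d9 : v * θ - θ * v ∈ uw v := ⟨by simp [mul_sub, h.sm, (tri_s d7).1], by simp [sub_mul, mul_assoc, h.sm, (tri_s d7).1],
    fun m hm => ⟨θ m, by simp [mem_ker.1 hm]⟩⟩
  have d10 := c0 _ d9 (hQ _ (h.l.q.comm d3.q d7 d8))
  have d11 : (v * θ - θ * v) * w = w * (v * θ - θ * v) := by
    rw [← hw, mul_sub, sub_mul y, d10, Es_l a9 d9.2.1, Es_r a9 d9.1]
  rw [sub_mul, mul_sub, mul_assoc θ, b4.1, ← mul_assoc w, b4.2.1, mul_zero, zero_mul, sub_zero, zero_sub] at d11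
  have e1 : v * θ = 0 := by
    simpa [mul_assoc, (tri_s d1.uvu).1, (tri_s d8).1] using congrArg (· * θ) d11
  have e2 : θ * v = 0 := by
    simpa [mul_assoc, (tri_s d1.uvu).2, (tri_s d8).2] using congrArg (θ * ·) d11
  refine b3.ne ?_
  rw [← d1.vuv, d6]
  simp [mul_add, add_mul, mul_assoc, e1, b4.1, sq_s, show ∀ q, θ * (v * q) = 0 from fun q => by rw [← mul_assoc, e2, zero_mul],
    show ∀ q, w * (v * q) = 0 from fun q => by rw [← mul_assoc, b4.2.1, zero_mul],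
    show ∀ q, v * (θ * q) = 0 from fun q => by rw [← mul_assoc, e1, zero_mul]]

theorem exists_syl : ∃ T, Syl p T H ∧ T ≤ 𝐍 (Eg Y v) := by
  obtain ⟨T, t1, t2⟩ := exists_syl_ge (Ug_p hp) (Ug_le : Ug H v ≤ H)
  have a1 : Ug H v ≤ 𝐍 (Eg Y v) := fun g hg => (ne_iff h.l (hH hg.1)).2 (by
    rw [cx_eq.2 (by rw [(uw_comm hg.2).1, (uw_comm hg.2).2])]; exact h.l.q.mem_Es)
  have a2 : Eg Y v ≤ Ug H v := forall_Eg.2 fun w hw => ⟨mem_gm.1 (hQ _ hw.1), by simpa using es_uw h.l.q.sq hw⟩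
  refine ⟨T, t1, inf_eq_left.1 (eq_of_inf_normalizer_le t1.isPGroup inf_le_left fun t ht => ⟨ht.1, ?_⟩)⟩
  obtain ⟨⟨σ, s1, s2⟩, s3⟩ := Subgroup.ne_bot_iff_exists_ne_one.1 (inf_center_ne_bot (t1.isPGroup.to_le inf_le_left)
    (a2.trans (le_inf t2 a1)) inf_le_right fun e => (ux_ne_one _).2 h.l.ne (Subgroup.mem_bot.1 (e.le (ux_mem_Eg h.l.q.mem_Es))))
  have s4 : σ.1 - 1 ≠ 0 := fun e => s3 (Subtype.ext (Units.ext (sub_eq_zero.1 e)))
  have s5 := (h.l.of_Es s1 s4).1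
  have m := t1.le ht.1
  show t ∈ 𝐍 (Eg Y v)
  rw [← h.l.Eg_eq s1 s4, ne_iff s5 (hH m), h.l.Es_eq s1 s4]
  refine cent2 hQ hp hH h hG hI hn (qd_cx s5 (hH m)) ⟨_, s1, CJ.symm ⟨_, mem_gm.2 m, mul_cx⟩⟩ fun g hg => ?_
  have := congrArg (fun x => (t * x * t⁻¹).1) (s2 _ ((Subgroup.mem_normalizer_iff''.1 ht.2 g).1 (⟨t2 hg, a1 hg⟩ : g ∈ T ⊓ 𝐍 (Eg Y v))))
  simpa [cx, mul_sub, sub_mul, mul_assoc] using this

omit h in
theorem exists_syl_all (s : Finset (End (ZMod p) M)) (h1 : ∀ x ∈ s, Qd Y x) (h2 : ∀ x ∈ s, ∀ y ∈ s, Rl Y H x y → x = y) :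
    ∃ T, Syl p T H ∧ ∀ x ∈ s, T ≤ 𝐍 (Eg Y x) := by
  classical
  induction s using Finset.induction_on with
  | empty => simpa using Amalg.exists_syl p H
  | insert v s hv ih =>
    obtain ⟨T, t1, t2⟩ := ih (fun x hx => h1 x (by simp [hx])) fun x hx y hy => h2 x (by simp [hx]) y (by simp [hy])
    have q := h1 v (by simp)
    obtain ⟨x, x1, x2⟩ := hI.exists_opp (two_ne' hp) q
    obtain ⟨u, -, h⟩ := exists_pp hp q x1 x2 q.q.mem_Es q.ne
    obtain ⟨S, s1, s2⟩ := exists_syl hQ hp hH h hG hI hn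
    obtain ⟨g, g1, g2⟩ := s1.exists_conj t1
    obtain ⟨l, l1, l2⟩ := exists_l hQ hp hH h hG g1
    have m := inv_mem (Lc_le hQ l1)
    refine ⟨cj l⁻¹ T, t1.conj_of_mem m, fun x hx => ?_⟩
    obtain rfl | hx' := Finset.mem_insert.1 hx
    · rw [← g2, ← Amalg.cj_mul]
      exact cj_le_of_le_of_mem s2 l2
    · refine cj_le_of_le_of_mem (t2 x hx') ((ne_iff (h1 x hx) (hH m)).2 ?_)
      rw [cx_eq.2 (Gn_comm (S := fun x => Qd Y x ∧ Rl Y H x v) (fun y hy => comm_of_not_rl hQ hp hH hI (h1 x hx) hy.1 fun r =>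
        hv (h2 x hx v (by simp) (r.trans hH hy.2) ▸ hx')) (mem_gm.2 (inv_mem l1))).symm]
      exact (h1 x hx).q.mem_Es

end Cfsg.Lib.Glaub.FS
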