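import Cfsg.Agent.Lib.Glaub.FS2
import Cfsg.Agent.Lib.Amalg.Bridge
import Cfsg.Agent.Lib.Coprime.Sylow

/-!
# Glaub/FS3: quadratic elements of an `A C_H(A)`-invariant `p`-subgroup lie in `O_p(H)` (Flavell)
-/

set_option autoImplicit false
set_option linter.unusedSectionVars false

namespace Cfsg.Lib.Glaub.FS

open Module LinearMap Cfsg.Lib.Quad Cfsg.Lib.Glaub.QC Cfsg.Lib.Amalg

universe u

/-- `P` is a `p`-subgroup of `H` invariant under the coprime operators `A` and under `C_H(A)` -/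
structure Hyp {G : Type*} [Group G] (p : ℕ) (H A P : Subgroup G) : Prop where
  n : A ≤ 𝐍 H
  c : (Nat.card A).Coprime (Nat.card H)
  cp : (Nat.card A).Coprime p
  le : P ≤ H
  pg : IsPGroup p P
  nA : A ≤ 𝐍 P
  nC : H ⊓ 𝐂 A ≤ 𝐍 P

section
variable {G G' : Type*} [Group G] [Group G'] [Finite G] {p : ℕ} [Fact p.Prime] {H A P K S : Subgroup G}

theorem Hyp.map (h : Hyp p H A P) (f : G →* G') : Hyp p (H.map f) (A.map f) (P.map f) := by
  have hk := Coprime.coprime_card_of_le h.c le_rfl (inf_le_left : H ⊓ f.ker ≤ H)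
  refine ⟨(Subgroup.map_mono h.n).trans (Subgroup.le_normalizer_map _),
    (h.c.coprime_dvd_left (Subgroup.card_map_dvd _ _)).coprime_dvd_right (Subgroup.card_map_dvd _ _),
    h.cp.coprime_dvd_left (Subgroup.card_map_dvd _ _), Subgroup.map_mono h.le, h.pg.map f,
    (Subgroup.map_mono h.nA).trans (Subgroup.le_normalizer_map _), ?_⟩
  rw [← Coprime.map_inf_centralizer f h.n hk (FT.solvable_or_of_coprime _ _ hk)]
  exact (Subgroup.map_mono h.nC).trans (Subgroup.le_normalizer_map _)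

theorem Hyp.subgroupOf (h : Hyp p H A P) (h1 : H ≤ K) (h2 : A ≤ K) : Hyp p (H.subgroupOf K) (A.subgroupOf K) (P.subgroupOf K) := by
  have e : ∀ {X : Subgroup G}, X ≤ K → Nat.card (X.subgroupOf K) = Nat.card X := fun h =>
    Nat.card_congr (Subgroup.subgroupOfEquivOfLe h).toEquiv
  refine ⟨?_, by rw [e h1, e h2]; exact h.c, by rw [e h2]; exact h.cp, Subgroup.comap_mono h.le, isPGroup_subgroupOf h.pg _, ?_, ?_⟩
  · rw [normalizer_subgroupOf h1]; exact Subgroup.comap_mono h.n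
  · rw [normalizer_subgroupOf (h.le.trans h1)]; exact Subgroup.comap_mono h.nA
  · rw [normalizer_subgroupOf (h.le.trans h1)]
    exact fun x hx => h.nC ⟨hx.1, fun a ha => congrArg Subtype.val (hx.2 ⟨a, h2 ha⟩ ha)⟩

theorem Hyp.inf (h : Hyp p H A P) (h1 : K ≤ H) (h2 : A ≤ 𝐍 K) : Hyp p K A (P ⊓ K) :=
  ⟨h2, Coprime.coprime_card_of_le h.c le_rfl h1, h.cp, inf_le_right, h.pg.to_le inf_le_left,
    (le_inf h.nA h2).trans Subgroup.inf_normalizer_le_normalizer_inf,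
    (le_inf ((inf_le_inf_right _ h1).trans h.nC) (inf_le_left.trans Subgroup.le_normalizer)).trans
      Subgroup.inf_normalizer_le_normalizer_inf⟩

theorem Hyp.le_syl (h : Hyp p H A P) (h1 : Syl p S H) (h2 : A ≤ 𝐍 S) : P ≤ S := by
  have s := FT.solvable_or_of_coprime _ _ h.c
  obtain ⟨T, t1, t2, t3⟩ := Coprime.exists_invariant_sylowIn_ge h.n h.c s h.le h.pg h.nA
  obtain ⟨c, c1, c2⟩ := Coprime.exists_centralizer_conj_sylowIn h.n h.c s t1 h1.sylowIn t3 h2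
  exact (cj_of_mem_normalizer (h.nC c1)).ge.trans ((cj_mono c t2).trans c2.le)

theorem Hyp.mem (h : Hyp p H A P) {g : G} (hg : g ∈ H ⊔ A) (e : g ^ p = 1) : g ∈ H := by
  obtain ⟨k, k1, a, a1, rfl⟩ := (Coprime.mem_sup_iff_of_le_normalizer h.n).1 hg
  have : ∀ n : ℕ, (k * a) ^ n * (a ^ n)⁻¹ ∈ H := fun n => by
    induction n with
    | zero => simp
    | succ n ih =>
      convert mul_mem ih (Coprime.conj_mem h.n (pow_mem a1 n) k1) using 1
      rw [pow_succ, pow_succ]; group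
  refine mem_of_coprime_pows h.cp ?_ (e ▸ one_mem _)
  simpa [show a ^ Nat.card A = 1 from congrArg Subtype.val (pow_card_eq_one' (x := (⟨a, a1⟩ : A)))] using this (Nat.card A)

theorem coprime_closure {s : Set G} (h1 : ∀ x ∈ s, ∀ y ∈ s, x * y = y * x) (h2 : ∀ x ∈ s, x ^ (p - 1) = 1) :
    (Nat.card (Subgroup.closure s)).Coprime p := by
  have pp : p.Prime := Fact.out
  have k : ∀ x ∈ Subgroup.closure s, ∀ y ∈ Subgroup.closure s, x * y = y * x := fun x hx y hy =>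
    congrArg Subtype.val ((Subgroup.isMulCommutative_closure h1).is_comm.comm ⟨x, hx⟩ ⟨y, hy⟩)
  have k2 : ∀ x ∈ Subgroup.closure s, x ^ (p - 1) = 1 := fun x hx => by
    induction hx using Subgroup.closure_induction with
    | mem x hx => exact h2 x hx
    | one => simp
    | mul x y hx hy a b => rw [Commute.mul_pow (k x hx y hy), a, b, one_mul]
    | inv x _ a => rw [inv_pow, a, inv_one]
  refine ((Nat.Prime.coprime_iff_not_dvd pp).2 fun d => ?_).symm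
  obtain ⟨x, hx⟩ := exists_prime_orderOf_dvd_card' p d
  have := Nat.le_of_dvd (by have := pp.two_le; omega) (hx.symm.dvd.trans (orderOf_dvd_of_pow_eq_one (Subtype.ext (k2 x x.2))) : p ∣ p - 1)
  have := pp.two_le
  omega

end

variable {p : ℕ} [Fact p.Prime] {M : Type u} [AddCommGroup M] [Module (ZMod p) M] [Finite M]
  {Y H A P : Subgroup (End (ZMod p) M)ˣ} {x y u v : End (ZMod p) M} {a g : (End (ZMod p) M)ˣ}

/-- torus elements -/
def hh (v u : End (ZMod p) M) (t : ZMod p) : End (ZMod p) M := 1 + (t - 1) • (v * u) + (t⁻¹ - 1) • (u * v)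

theorem Gp.hh_mem (h : Gp H v u) {t : ZMod p} (ht : t ≠ 0) : hh v u t ∈ gm H := by
  convert mul_mem (h.smul ht).nn_mem (h.smul (neg_ne_zero.2 one_ne_zero)).nn_mem using 1
  simp [hh, nn, mul_add, add_mul, mul_sub, sub_mul, mul_assoc, h.sm, smul_smul, ht]
  module

theorem Gp.hh_pow (h : Gp H v u) (t : ZMod p) (n : ℕ) : hh v u t ^ n = hh v u (t ^ n) := by
  induction n with
  | zero => simp [hh]
  | succ n ih =>
    rw [pow_succ, ih, pow_succ]
    simp only [hh, mul_add, add_mul, mul_assoc, h.sm, smul_mul_assoc, mul_smul_comm, mul_one, one_mul, mul_zero, smul_zero, mul_inv]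
    module

theorem hh_comm {t : ZMod p} (h1 : y * (v * u) = v * u * y) (h2 : y * (u * v) = u * v * y) : y * hh v u t = hh v u t * y := by
  simp only [hh, mul_add, add_mul, smul_mul_assoc, mul_smul_comm, mul_one, one_mul, h1, h2]

theorem hh_comm' {t : ZMod p} (h1 : y * v = v * y) (h2 : y * u = u * y) : y * hh v u t = hh v u t * y :=
  hh_comm (by rw [← mul_assoc, h1, mul_assoc, h2, mul_assoc]) (by rw [← mul_assoc, h2, mul_assoc, h1, mul_assoc])

theorem cx_hh {t : ZMod p} : cx a (hh v u t) = hh (cx a v) (cx a u) t := by simp only [hh, cx_add, cx_smul, cx_id, cx_mul']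

theorem comm_of_ne (h : Pp Y v u) (ha : a ∈ Y) (h1 : a ∈ 𝐍 (Eg Y v)) (h2 : a ∈ 𝐍 (Eg Y u)) : a.1 * (v * u) = v * u * a.1 := by
  have b1 := (ne_iff h.l ha).1 h1
  have b2 := (ne_iff h.r ha).1 h2
  have c := h.cj (mem_gm.2 ha) mul_cx mul_cx
  rw [← cx_eq, cx_mul', ← (h.symm.es b2).2.2.2, ← mul_assoc, ← mul_assoc, mul_assoc (cx a v),
    (c.es (h.l.symm b1 c.l.ne)).2.2.1]

theorem step (hp : 5 ≤ p) (h : Hyp p H A P) (hI : IC (H ⊔ A))
    (ih : ∀ K < H, A ≤ 𝐍 K → ∀ g ∈ P ⊓ K, (g.1 - 1) * (g.1 - 1) = 0 → g ∈ pCoreOf p K)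
    (hg : g ∈ P) (e : (g.1 - 1) * (g.1 - 1) = 0) : g = 1 := by
  classical
  have hn : H ⊔ A ≤ 𝐍 H := sup_le Subgroup.le_normalizer h.n
  have hH : H ≤ H ⊔ A := le_sup_left
  have hA : A ≤ H ⊔ A := le_sup_right
  have hQ : ∀ x, Q (H ⊔ A) x → 1 + x ∈ gm H := fun x hx => (mem_gm (σ := ux hx.sq)).2 (h.mem hx.ux_mem (Units.ext (by
    simpa using pow_p_of hp (x := x) (by rw [pow_three, hx.sq, mul_zero]))))
  generalize H ⊔ A = Y at hI hn hH hA hQ
  have red : ∀ K < H, Y ≤ 𝐍 K → g ∈ K → g = 1 := fun K k1 k2 k3 => Subgroup.mem_bot.1 ((IC.eq_bot_p hI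
    ((op_le _).trans (k1.le.trans hH)) (le_norm_op_of_le k2) (op_isPGroup _)).le (ih K k1 (hA.trans k2) g ⟨hg, k3⟩ e))
  obtain ⟨ξ, hξ⟩ : ∃ ξ, ξ = g.1 - 1 := ⟨_, rfl⟩
  have g1 : g.1 = 1 + ξ := by rw [hξ]; abel
  rw [← hξ] at e
  have hx : Q Y ξ := q_of e (g1 ▸ mem_gm.2 (hH (h.le hg)))
  by_contra c
  have h0 : ξ ≠ 0 := fun e => c (Units.ext (by simp [g1, e]))
  have hG : H ≤ Gn (Q Y) := by_contra fun d => c (red _ (lt_of_le_not_ge (Gn_le hQ) d)
    (fun a ha => Gn_norm fun x hx => q_cj hx (mem_gm.2 ha) mul_cx) (mem_gm.1 (g1 ▸ mem_Gn hx e)))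
  obtain ⟨y, hy⟩ := exists_qd hx h0
  obtain ⟨z, z1, z2⟩ := hI.exists_opp (two_ne' hp) hy
  obtain ⟨u, -, h1⟩ := exists_pp hp hy z1 z2 hy.q.mem_Es hy.ne
  obtain ⟨v, u, h1, h2⟩ := exists_fixed hQ hp hH hI hA h.n h.c h1
  have r1 := rl_of_opp hQ hp h1.r h1.l (h1.uvu.symm ▸ h1.r.ne)
  have q : ∀ {w}, w = v ∨ w = u → Qd Y w ∧ Rl Y H w v ∧ ∀ a ∈ stab hH hA h.n h1.l, cx a w = w := by
    rintro _ (rfl | rfl)
    · exact ⟨h1.l, rl_of_mem h1.l.q.mem_Es, fun a ha => (h2 ha).1⟩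
    · exact ⟨h1.r, r1, fun a ha => (h2 ha).2⟩
  have q2 : ∀ {w w'}, w = v ∨ w = u → w' = v ∨ w' = u → ∀ a ∈ A, Rl Y H (cx a w) w' → a ∈ stab hH hA h.n h1.l :=
    fun hw hw' a ha r => ⟨ha, ((((q hw).2.1.symm hH (q hw).1 h1.l).cx (hA ha) (h.n ha)).trans hH r).trans hH (q hw').2.1⟩
  have q3 : ∀ {w}, w = v ∨ w = u → ∀ a ∈ A, g ∈ 𝐍 (Eg Y (cx a w)) := fun {w} hw => by
    have := Fintype.ofFinite A
    have qq : ∀ a : A, Qd Y (cx a w) := fun a => qd_cx (q hw).1 (hA a.2)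
    obtain ⟨T, t1, t2⟩ := exists_syl_all hQ hp hH hG hI hn (Finset.univ.image fun a : A => cx a.1 w) (by simpa using qq) (by
      simp only [Finset.mem_image, Finset.mem_univ, true_and, forall_exists_index, forall_apply_eq_imp_iff]
      intro a b r
      have := r.cx (hA (inv_mem b.2)) (h.n (inv_mem b.2))
      rw [← cx_mul, ← cx_mul, inv_mul_cancel, cx_one] at this
      have := (q hw).2.2 _ (q2 hw hw _ (mul_mem (inv_mem b.2) a.2) this)
      rw [cx_mul, cx_inv] at this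
      exact this.symm)
    have n : A ≤ 𝐍 (H ⊓ ⨅ a : A, 𝐍 (Eg Y (cx a.1 w))) := le_normalizer_of_cj_le fun b hb => cj_le_iff'.2 fun x hx =>
      ⟨Coprime.conj_mem h.n hb hx.1, Subgroup.mem_iInf.2 fun a => by
        have := es_cj ((ne_iff (qq (⟨b, hb⟩⁻¹ * a)) (hH hx.1)).1 (Subgroup.mem_iInf.1 hx.2 _)) (mem_gm.2 (hA hb)) mul_cx mul_cx
        rw [ne_iff (qq a) (hH (Coprime.conj_mem h.n hb hx.1))]
        simpa [← cx_mul, mul_assoc] using this⟩
    have hc := Coprime.coprime_card_of_le h.c le_rfl (inf_le_left : H ⊓ ⨅ a : A, 𝐍 (Eg Y (cx a.1 w)) ≤ H)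
    obtain ⟨S, s1, s2⟩ := Coprime.exists_invariant_sylowIn n hc (FT.solvable_or_of_coprime _ _ hc) p
    exact fun a ha => Subgroup.mem_iInf.1 (s1.le (h.le_syl (t1.of_contains (le_inf t1.le (le_iInf fun a => t2 _ (by simp)))
      inf_le_left (syl_of_sylowIn s1)) s2 hg)).2 ⟨a, ha⟩
  have m0 : Gn (Qd Y) ≤ H := Gn_le fun x hx => hQ x hx.q
  have n0 : Y ≤ 𝐍 (Gn (Qd Y)) := fun a ha => Gn_norm fun x hx => qd_cx hx ha
  have g0 : Gp (Gn (Qd Y)) v u := gp_of h1 (mem_Gn h1.l h1.l.q.sq) (mem_Gn h1.r h1.r.q.sq)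
  obtain ⟨τ, t1, t2⟩ := gm_ex (g0.hh_mem (two_ne' hp))
  obtain ⟨D, hD⟩ : ∃ D, D = Subgroup.closure {d | ∃ a ∈ A, a * τ * a⁻¹ = d} := ⟨_, rfl⟩
  have d1 : D ≤ Gn (Qd Y) := hD ▸ (Subgroup.closure_le _).2 (by
    rintro _ ⟨a, ha, rfl⟩; exact Coprime.conj_mem (hA.trans n0) ha t1)
  have d2 : A ≤ 𝐍 D := le_normalizer_of_cj_le fun b hb => by
    rw [hD, cj_closure]
    refine Subgroup.closure_mono ?_
    rintro _ ⟨_, ⟨a, ha, rfl⟩, rfl⟩
    exact ⟨b * a, mul_mem hb ha, by simp [mul_assoc]⟩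
  have d3 : (Nat.card D).Coprime p := hD ▸ coprime_closure (by
    have k : ∀ a ∈ A, τ * (a * τ * a⁻¹) = a * τ * a⁻¹ * τ := fun a ha => Units.ext (by
      rw [Units.val_mul, Units.val_mul _ τ, ← cx_val, t2, cx_hh]
      by_cases hs : a ∈ stab hH hA h.n h1.l
      · rw [(h2 hs).1, (h2 hs).2]
      · have k : ∀ {w w'}, w = v ∨ w = u → w' = v ∨ w' = u → cx a w * w' = w' * cx a w := fun hw hw' =>
          comm_of_not_rl hQ hp hH hI (qd_cx (q hw).1 (hA ha)) (q hw').1 fun r => hs (q2 hw hw' a ha r)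
        exact hh_comm' (hh_comm' (k (.inl rfl) (.inl rfl)) (k (.inl rfl) (.inr rfl))).symm
          (hh_comm' (k (.inr rfl) (.inl rfl)) (k (.inr rfl) (.inr rfl))).symm)
    rintro _ ⟨a, ha, rfl⟩ _ ⟨b, hb, rfl⟩
    simpa [mul_assoc] using congrArg (a * · * a⁻¹) (k _ (mul_mem (inv_mem ha) hb))) (by
      rintro _ ⟨a, -, rfl⟩
      rw [conj_pow, show τ ^ (p - 1) = 1 from Units.ext (by
        rw [Units.val_pow_eq_pow_val, t2, g0.hh_pow, ZMod.pow_card_sub_one_eq_one (two_ne' hp)]; simp [hh])]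
      simp)
  have d4 : ∀ {k : (End (ZMod p) M)ˣ}, k ∈ H → (∀ d ∈ D, d.1 * k.1 = k.1 * d.1) → k ∈ H ⊓ 𝐂 D := fun k1 k2 =>
    ⟨k1, fun d hd => Units.ext (k2 d hd)⟩
  have d5 : g ∈ H ⊓ 𝐂 D := ⟨h.le hg, by
    rw [hD, Subgroup.centralizer_closure]
    rintro _ ⟨a, ha, rfl⟩
    have c := h1.cj (mem_gm.2 (hA ha)) mul_cx mul_cx
    refine Units.ext ?_
    rw [Units.val_mul, Units.val_mul g, ← cx_val, t2, cx_hh]
    exact (hh_comm (comm_of_ne c (hH (h.le hg)) (q3 (.inl rfl) a ha) (q3 (.inr rfl) a ha))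
      (comm_of_ne c.symm (hH (h.le hg)) (q3 (.inr rfl) a ha) (q3 (.inl rfl) a ha))).symm⟩
  have d6 := ih (H ⊓ 𝐂 D) (lt_of_le_not_ge inf_le_left fun c => h1.l.ne (by
    have := congrArg Units.val ((c (mem_gm.1 (hQ _ h1.l.q) : ux h1.l.q.sq ∈ H)).2 τ
      (hD ▸ Subgroup.subset_closure ⟨1, one_mem _, by simp⟩))
    simp only [Units.val_mul, t2, ux_val, hh, mul_add, add_mul, mul_one, one_mul, smul_mul_assoc, mul_smul_comm, mul_assoc, h1.sm,
      mul_zero, smul_zero] at this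
    have h4 : ((3 : ℕ) : ZMod p) ≠ 0 := fun e => by
      have := Nat.le_of_dvd three_pos ((ZMod.natCast_eq_zero_iff 3 p).1 e); omega
    refine (smul_eq_zero_iff_right h4).1 ?_
    have h5 : (2 : ZMod p) • (2 : ZMod p)⁻¹ • v = v := smul_inv_smul₀ (two_ne' hp) v
    rw [Nat.cast_ofNat]
    linear_combination (norm := module) (2 : ZMod p) • this + h5))
    ((le_inf h.n (d2.trans (Coprime.normalizer_le_normalizer_centralizer_set _))).trans Subgroup.inf_normalizer_le_normalizer_inf)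
    g ⟨hg, d5⟩ (hξ ▸ e)
  obtain ⟨a, η, j1, j2, j3⟩ := jm hp hI hx
  obtain ⟨b, hb⟩ : ∃ b, b = ξ - a := ⟨_, rfl⟩
  rw [← hb] at j2 j3
  have hb' : ξ = a + b := by rw [hb]; abel
  have k1 : ∀ d ∈ D, d.1 * b = b * d.1 := fun d hd => (Gn_comm j3 (mem_gm.2 (d1 hd))).symm
  have k2 : ∀ d ∈ D, d.1 * a = a * d.1 := fun d hd => by
    simpa [g1, hb', mul_add, add_mul, k1 d hd] using congrArg Units.val (d5.2 d hd)
  obtain ⟨k, -, k3, k4⟩ := j1.equiv hp d1 d3 fun d hd => ⟨1, one_ne_zero, by rw [one_smul, cx_eq, k2 d hd]⟩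
  generalize cx k η = θ at k3 k4
  have k5 : ∀ {x}, Q Y x → (∀ d ∈ D, d.1 * x = x * d.1) → 1 + x ∈ gm (H ⊓ 𝐂 D) := fun hx hd =>
    (mem_gm (σ := ux hx.sq)).2 (d4 (mem_gm.1 (hQ _ hx)) fun d hd' => by simp [mul_add, add_mul, hd d hd'])
  have k6 : Gp (H ⊓ 𝐂 D) a θ := ⟨q_of k3.l.sq (k5 (k3.l.mono (m0.trans hH)) k2), q_of k3.r.sq (k5 (k3.r.mono (m0.trans hH))
    fun d hd => cx_eq.1 ((one_smul _ _).symm.trans (k4 d hd 1 (by rw [one_smul, cx_eq, k2 d hd])))), k3.vuv, k3.uvu⟩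
  have k7 : b * a = a * b := by simpa [mul_add, add_mul] using Gn_comm j3 (Q.one_add k3.l)
  have k8 : b * θ = θ * b := by simpa [mul_add, add_mul] using Gn_comm j3 (Q.one_add k3.r)
  have k9 : a * b = 0 := (smul_eq_zero_iff_right (two_ne' hp)).1 (by
    simpa [hb', mul_add, add_mul, k3.l.sq, j2.sq, k7, ← two_smul (ZMod p)] using e)
  have k10 : θ * b = 0 := by rw [← k3.uvu, mul_assoc, ← k8, ← mul_assoc, mul_assoc θ, k9]; simp
  have m1 : ux j2.sq ∈ H ⊓ 𝐂 D := mem_gm.1 (k5 j2 k1)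
  have m2 : 1 + -b ∈ gm (pCoreOf p (H ⊓ 𝐂 D) ⊔ Subgroup.zpowers (ux j2.sq)) := by
    simpa [sub_eq_add_neg] using mem_gm.2 (inv_mem (Subgroup.mem_sup_right (Subgroup.mem_zpowers (ux j2.sq))))
  obtain ⟨n, n1, n2⟩ := gm_ex k6.nn_mem
  have a0 : a = 0 := Gp.eq_zero hp (R := pCoreOf p (H ⊓ 𝐂 D) ⊔ Subgroup.zpowers (ux j2.sq)) (u := θ) ⟨q_of k3.l.sq (by
      convert mul_mem (mem_gm.2 (Subgroup.mem_sup_left d6)) m2 using 1
      simp [g1, hb', mul_add, add_mul, k9, j2.sq]; abel), by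
      have := mem_gm.2 (Subgroup.mem_sup_left (T := Subgroup.zpowers (ux j2.sq)) (Coprime.conj_mem (le_norm_op _) n1 d6))
      rw [← cx_val, g1, hb', cx_add, cx_add, cx_id, cx_eq.2 (n2 ▸ k3.nn_mul'), cx_eq.2 (n2 ▸ Gn_comm j3 k3.nn_mem).symm] at this
      simpa using (q_of (x := -θ) (by simp [k3.r.sq]) (by
        convert mul_mem this m2 using 1
        simp [mul_add, add_mul, k10, j2.sq]; abel)).neg, k3.vuv, k3.uvu⟩
    (isPGroup_sup_of_le_normalizer' (op_isPGroup _) (Eg_p.to_le (Subgroup.zpowers_le_of_mem (ux_mem_Eg j2.mem_Es)))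
      ((Subgroup.zpowers_le_of_mem m1).trans (le_norm_op _)))
  refine c (red (H ⊓ 𝐂 (Gn (Qd Y))) (lt_of_le_not_ge inf_le_left fun c => h1.l.ne ?_)
    ((le_inf hn (n0.trans (Coprime.normalizer_le_normalizer_centralizer_set _))).trans Subgroup.inf_normalizer_le_normalizer_inf)
    ⟨h.le hg, fun x hx => Units.ext ?_⟩)
  · have := congrArg Units.val ((c (mem_gm.1 (hQ _ h1.l.q) : ux h1.l.q.sq ∈ H)).2 (ux h1.r.q.sq) (mem_gm.1 (Q.one_add g0.r)))
    replace this : u * v = v * u := by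
      simp only [Units.val_mul, ux_val] at this; linear_combination (norm := noncomm_ring) this
    rw [← h1.vuv, ← this, mul_assoc, h1.l.q.sq, mul_zero]
  · simpa [g1, hb', a0, mul_add, add_mul] using (Gn_comm j3 (mem_gm.2 hx)).symm

theorem fs (hp : 5 ≤ p) {G : Type u} [Group G] [Finite G] {H A P : Subgroup G} (h : Hyp p H A P) (hs : H ⊔ A = ⊤)
    (ρ : G →* (End (ZMod p) M)ˣ) {g : G} (hg : g ∈ P) (e : ((ρ g).1 - 1) * ((ρ g).1 - 1) = 0) : ρ g ∈ pCoreOf p (H.map ρ) := by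
  induction e1 : Nat.card H using Nat.strong_induction_on generalizing G M with | _ n ih => ?_
  induction e2 : finrank (ZMod p) M using Nat.strong_induction_on generalizing M with | _ m ih' => ?_
  by_cases hI : IC (H.map ρ ⊔ A.map ρ)
  · rw [step hp (h.map ρ) hI (fun K k1 k2 x hx e => ?_) (Subgroup.mem_map_of_mem ρ hg) e]
    · exact one_mem _
    have := ih _ ?_ (((h.map ρ).inf k1.le k2).subgroupOf (K := K ⊔ A.map ρ) le_sup_left le_sup_right)
      (by rw [← Subgroup.subgroupOf_sup le_sup_left le_sup_right, Subgroup.subgroupOf_self]) (Subgroup.subtype _)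
      (g := ⟨x, Subgroup.mem_sup_left hx.2⟩) hx e rfl
    · rwa [map_subgroupOf_of_le le_sup_left] at this
    · rw [Nat.card_congr (Subgroup.subgroupOfEquivOfLe le_sup_left).toEquiv, ← e1]
      exact (Transfer.card_lt_of_lt k1).trans_le (Nat.le_of_dvd Nat.card_pos (Subgroup.card_map_dvd _ _))
  by_cases! h0 : ∀ m : M, m = 0
  · rw [show ρ g = 1 from Units.ext (LinearMap.ext fun m => (h0 _).trans (h0 _).symm)]
    exact one_mem _
  obtain ⟨W, w1, w2, w3⟩ : ∃ W : Submodule (ZMod p) M, (∀ g, W ≤ W.comap (((Units.coeHom _).comp ρ) g)) ∧ W ≠ ⊥ ∧ W ≠ ⊤ := by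
    by_contra! c
    refine hI ⟨h0, fun W hW => or_iff_not_imp_left.2 (c W fun g w hw => hW _ (Subgroup.mem_sup_left ?_) w hw)⟩
    rw [← Subgroup.map_sup, hs]
    exact Subgroup.mem_map_of_mem ρ (Subgroup.mem_top g)
  let ρ₁ := (Representation.subrepresentation ((Units.coeHom _).comp ρ) W w1).toHomUnits
  let ρ₂ := (Representation.quotient ((Units.coeHom _).comp ρ) W w1).toHomUnits
  have a1 : ∀ x (w : W), ((ρ₁ x).1 w).1 = (ρ x).1 w := fun _ _ => rfl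
  have a2 : ∀ x m, (ρ₂ x).1 (Submodule.Quotient.mk m) = Submodule.Quotient.mk ((ρ x).1 m) := fun _ _ => rfl
  have : Finite (M ⧸ W) := Finite.of_surjective _ (Submodule.Quotient.mk_surjective W)
  have b1 := ih' _ (e2 ▸ Submodule.finrank_lt w3) ρ₁ (LinearMap.ext fun w => Subtype.ext (by
    simpa [a1] using DFunLike.congr_fun e w.1)) rfl
  have b2 := ih' _ (by
    have := Submodule.finrank_quotient_add_finrank W
    have := Submodule.one_le_finrank_iff.2 w2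
    omega) ρ₂ (LinearMap.ext fun w => by
      obtain ⟨m, rfl⟩ := Submodule.Quotient.mk_surjective W w
      simpa [a2] using congrArg (Submodule.Quotient.mk (p := W)) (DFunLike.congr_fun e m)) rfl
  have n : ∀ {G' : Type u} [Group G'] [Finite G'] (f : G →* G'), H ≤ 𝐍 ((pCoreOf p (H.map f)).comap f) := fun f x hx =>
    Subgroup.le_normalizer_comap f (le_norm_op _ (Subgroup.mem_map_of_mem f hx))
  refine le_op (Subgroup.map_mono inf_le_left) ((Subgroup.map_mono ((le_inf Subgroup.le_normalizer ((le_inf (n ρ₁) (n ρ₂)).trans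
    Subgroup.inf_normalizer_le_normalizer_inf)).trans Subgroup.inf_normalizer_le_normalizer_inf)).trans (Subgroup.le_normalizer_map _))
    (isPGroup_iff_mem.2 ?_) (Subgroup.mem_map_of_mem ρ ⟨h.le hg, b1, b2⟩)
  rintro _ ⟨x, ⟨-, x1, x2⟩, rfl⟩
  obtain ⟨i, hi⟩ := isPGroup_iff_mem.1 (op_isPGroup _) _ x1
  obtain ⟨j, hj⟩ := isPGroup_iff_mem.1 (op_isPGroup _) _ x2
  have c1 : ρ₁ (x ^ p ^ (i + j)) = 1 := by rw [map_pow, pow_add, pow_mul, hi, one_pow]
  have c2 : ρ₂ (x ^ p ^ (i + j)) = 1 := by rw [map_pow, add_comm, pow_add, pow_mul, hj, one_pow]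
  refine ⟨i + j + 1, Units.ext ?_⟩
  rw [pow_succ, pow_mul, ← map_pow]
  generalize x ^ p ^ (i + j) = y at c1 c2
  have := pow_p_of hp (x := (ρ y).1 - 1) (pow_eq_zero_of_le (by omega : 2 ≤ 3) ((sq _).trans (LinearMap.ext fun m => by
    have := a1 y ⟨(ρ y).1 m - m, (Submodule.Quotient.eq W).1 (by rw [← a2, c2]; rfl)⟩
    rw [c1] at this
    exact sub_eq_zero.2 this.symm)))
  rwa [add_sub_cancel] at this

end Cfsg.Lib.Glaub.FS
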