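import Cfsg.Agent.Lib.Glaub.QC
import Cfsg.Agent.Lib.Glaub.KInf

/-!
# Glaub/QC2: `p`-stability of a group extended by coprime operators whose fixed points are `PSL₂(p)`-free
-/

set_option autoImplicit false

namespace Cfsg.Lib.Glaub

open Subgroup Cfsg.Lib.Amalg Cfsg.Lib.Fus2 Cfsg.Lib.Quad Cfsg.Lib.BG1
open scoped commutatorElement

variable {G : Type*} [Group G] [Finite G] {p : ℕ} [Fact p.Prime] {A B H S V : Subgroup G} {K : Type*} [Field K]

omit [Finite G] in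
theorem pow_card_mem [H.Normal] (hs : H ⊔ A = ⊤) (g : G) : g ^ Nat.card A ∈ H := by
  obtain ⟨h, h1, a, a1, rfl⟩ := (Coprime.mem_sup_iff_of_le_normalizer le_normalizer_of_normal).1 (hs.ge (mem_top g))
  rw [← QuotientGroup.eq_one_iff, QuotientGroup.mk_pow, QuotientGroup.mk_mul, (QuotientGroup.eq_one_iff h).2 h1, one_mul,
    ← QuotientGroup.mk_pow, show a ^ Nat.card A = 1 from congrArg Subtype.val (pow_card_eq_one' (x := (⟨a, a1⟩ : A)))]
  rfl

theorem involves_psl_fixed (hp : 5 ≤ p) (π : ZMod p ≃+* K) [H.Normal] (hs : H ⊔ A = ⊤) (hc : (Nat.card A).Coprime (Nat.card H))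
    (hA : (Nat.card A).Coprime p) [V.Normal] (hV : IsPGroup p V) (hq : ⁅⁅V, B⁆, B⁆ = ⊥) (h : ¬ B ≤ opMod p ⊤ (𝐂 V)) :
    Involves (Matrix.ProjectiveSpecialLinearGroup (Fin 2) K) (H ⊓ 𝐂 A : Subgroup G) := by
  obtain ⟨U, W, h1, h2, h3⟩ := exists_chief_res (B := B) hV fun c =>
    h (le_normalClosure.trans (le_opMod le_top le_normalizer_of_normal c))
  obtain ⟨a1, a2⟩ := IsChiefFactor.frattini_le h1 (hV.to_le h2)
  obtain ⟨b0, b1, b2, b3⟩ := h1
  let f := QuotientGroup.mk' W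
  have hf := QuotientGroup.mk'_surjective W
  have hE : Fact (IsElementaryAbelian p (U.map f)) := ⟨isMulCommutative_iff_le_cent.2 (comm_eq_bot_iff.1 (by
    rwa [← Subgroup.map_commutator, Core.map_mk'_eq_bot_iff])), by
      rintro _ ⟨x, hx, rfl⟩; exact (QuotientGroup.eq_one_iff (x ^ p)).2 (a2 x hx)⟩
  have n := b1.map f hf
  let ρ := ((erep p (U.map f)).comp (f.codRestrict _ fun _ => le_normalizer_of_normal (mem_top _))).toHomUnits
  have r : ∀ g x, ((ρ g).1 x).val = f g * x.val * (f g)⁻¹ := fun g x => erep_val _ x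
  obtain ⟨b, hb, h4⟩ : ∃ b ∈ B, ρ b ≠ 1 := by
    by_contra! c
    refine h3 ((Core.map_mk'_eq_bot_iff _ _).1 ?_)
    rw [Subgroup.map_commutator, comm_eq_bot_iff']
    rintro _ ⟨b, hb, rfl⟩
    exact erep_eq_one_iff.1 (congrArg Units.val (c b hb))
  have h5 : ((ρ b).1 - 1) * ((ρ b).1 - 1) = 0 := by
    ext v
    have := congrArg (map f) (KS9.quad_mono hq h2 le_rfl)
    rw [Subgroup.map_commutator, Subgroup.map_commutator, Subgroup.map_bot, comm_eq_bot_iff', commutator_comm] at this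
    rw [Module.End.mul_apply, LinearMap.sub_apply, LinearMap.zero_apply, sub_eq_zero, Module.End.one_apply]
    exact erep_apply_eq_iff.2 (erep_sub_val (p := p) _ v ▸
      (this (mem_map_of_mem f hb) _ (commutator_mem_commutator (mem_map_of_mem f hb) v.val_mem)).symm)
  have hk := Coprime.coprime_card_of_le hc le_rfl (inf_le_left : H ⊓ ρ.ker ≤ H)
  have hQ : ∀ x, Q ρ.range x → 1 + x ∈ gm (H.map ρ) := fun x hx => by
    obtain ⟨_, ⟨g, rfl⟩, e⟩ := one_smul (ZMod p) x ▸ hx.mem 1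
    replace e : (ρ g).1 = _ := e
    refine e ▸ mem_gm.2 (mem_of_coprime_pows hA (map_pow ρ g _ ▸ mem_map_of_mem ρ (pow_card_mem hs g)) ?_)
    obtain ⟨r, hr⟩ := (Commute.one_left x).exists_add_pow_prime_eq (Fact.out : p.Prime)
    rw [show ρ g ^ p = 1 from Units.ext (by
      rw [Units.val_pow_eq_pow_val, e, hr, pow_eq_zero_of_le (by omega) ((sq x).trans hx.sq), ← map_natCast (algebraMap (ZMod p) _),
        ZMod.natCast_self]; simp)]
    exact one_mem _
  have hI : IC ρ.range := by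
    obtain ⟨u, u1, u2⟩ := SetLike.exists_of_lt b0
    refine ⟨⟨EV.mk p ⟨_, mem_map_of_mem f u1⟩, fun e => u2 ((QuotientGroup.eq_one_iff u).1 (EV.val_eq_one.2 e))⟩, fun N hN => ?_⟩
    refine (b3 ((EV.unsub N).comap f) ⟨fun x ⟨v, hv, e⟩ g => ⟨_, hN _ (mem_sup_left ⟨g, rfl⟩) v hv, by simp [r, e]⟩⟩
      (fun x hx => mem_comap.2 (by rw [show f x = 1 from (QuotientGroup.eq_one_iff x).2 hx]; exact one_mem _)) ((comap_mono (EV.unsub_le N)).trans ?_)).imp
      (fun e => eq_bot_iff.2 fun v hv => ?_) fun e => eq_top_iff.2 fun v _ => ?_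
    · rw [comap_map_eq, QuotientGroup.ker_mk', sup_eq_left.2 b0.le]
    · obtain ⟨x, hx⟩ := hf v.val
      exact EV.val_eq_one.1 (hx ▸ (QuotientGroup.eq_one_iff x).2 (e.le (mem_comap.2 (hx ▸ EV.val_mem_unsub.2 hv))))
    · obtain ⟨x, hx, e'⟩ := v.val_mem
      exact EV.val_mem_unsub.1 (e' ▸ mem_comap.1 (e.ge hx))
  obtain ⟨Φ, c1, c2⟩ := QC.exists_hom (Y := ρ.range) (H := H.map ρ) (A := A.map ρ) hQ hp (map_le_range _ _) hI (map_le_range _ _)
    ((map_mono le_normalizer_of_normal).trans (le_normalizer_map _)) ((hc.coprime_dvd_left (card_map_dvd _ _)).coprime_dvd_right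
      (card_map_dvd _ _)) π ⟨h5, QC.mem_of_smul h5 one_ne_zero (by simpa using mem_gm.2 (ρ.mem_range.2 ⟨b, rfl⟩))⟩
        (sub_ne_zero.2 fun e => h4 (Units.ext e))
  rw [← Coprime.map_inf_centralizer ρ le_normalizer_of_normal hk (FT.solvable_or_of_coprime _ _ hk)] at c1
  exact involves_trans (involves_of_span' (QuotientGroup.mk' _) (QuotientGroup.mk'_surjective _) (Φ.codRestrict _ fun g => c1 ⟨g, rfl⟩)
      (by rwa [MonoidHom.ker_codRestrict, QuotientGroup.ker_mk'])) (involves_map _ _)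

/-- the `ZJ`-theorem with coprime operators -/
theorem zj_coprime (hp : 5 ≤ p) (π : ZMod p ≃+* K) [H.Normal] (hs : H ⊔ A = ⊤) (hc : (Nat.card A).Coprime (Nat.card H))
    (hA : (Nat.card A).Coprime p) (hH : CharP p H) (hS : Syl p S H)
    (h : ¬ Involves (Matrix.ProjectiveSpecialLinearGroup (Fin 2) K) (H ⊓ 𝐂 A : Subgroup G)) : ⊤ ≤ 𝐍 (centerThompsonOf 0 S) := by
  have k : ∀ {P : Subgroup G}, IsPGroup p P → P ≤ H := fun hP g hg =>
    let ⟨n, hn⟩ := isPGroup_iff_mem.1 hP g hg; mem_of_coprime_pows (hA.pow_right n) (pow_card_mem hs g) (hn ▸ one_mem _)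
  have hS' : Syl p S ⊤ := ⟨le_top, hS.isPGroup, fun U a _ c => hS.eq_of_le U a (k c) c⟩
  have st : ∀ V B : Subgroup G, V ≤ ⊤ → ⊤ ≤ 𝐍 V → IsPGroup p V → B ≤ S → ⁅⁅V, B⁆, B⁆ = ⊥ → B ≤ opMod p ⊤ (𝐂 V) :=
    fun V B _ b c _ e => by_contra fun d => have := normal_of_top_le_normalizer b; h (involves_psl_fixed hp π hs hc hA c e d)
  have n : ⊤ ≤ 𝐍 (pCoreOf p H) := le_normalizer_of_normal.trans (norm_le_norm_op H)
  have := zj_inf_normal (by omega) (.inl rfl) hS' scl_self st _ le_top n (op_isPGroup H)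
  rwa [inf_eq_left.2 ((le_inf (zj_le.trans hS.le) (st _ _ le_top n (op_isPGroup H) zj_le (comm_eq_bot_iff.2
    ((comm_le_right (hS.op_le.trans (le_normalizer.trans norm_le_norm_zj))).trans fun _ a _ b => PGrp.comm_of_mem zj_comm b a)))).trans
      ((inf_opMod_le (Core.le_normalizer_centralizer n) le_top).trans (opMod_le_op hH)))] at this

end Cfsg.Lib.Glaub
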