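import Cfsg.Agent.Lib.Glaub.FS3
import Cfsg.Agent.Lib.Glaub.QC2
import Cfsg.Agent.Lib.Glaub.Fac

/-!
# Glaub/FS4: Flavell's equivariant analogue of the `ZJ`-theorem
-/

set_option autoImplicit false

namespace Cfsg.Lib.Glaub.FS

open Subgroup Cfsg.Lib.Amalg Cfsg.Lib.Fus2 Cfsg.Lib.Quad Cfsg.Lib.BG1
open scoped commutatorElement

universe u

variable {G : Type u} [Group G] [Finite G] {p : ℕ} [Fact p.Prime] {A B H P U W : Subgroup G}

/-- quadratic action of a subgroup of `P` on a chief factor is trivial -/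
theorem chief_stable (hp : 5 ≤ p) (h : Hyp p H A P) (hs : H ⊔ A = ⊤) (h1 : IsChiefFactor U W) (hU : IsPGroup p U) (hB : B ≤ P)
    (hq : ⁅⁅U, B⁆, B⁆ ≤ W) : ⁅U, B⁆ ≤ W := by
  by_contra h3
  obtain ⟨a1, a2⟩ := IsChiefFactor.frattini_le h1 hU
  obtain ⟨b0, b1, b2, b3⟩ := h1
  let f := QuotientGroup.mk' W
  have hf := QuotientGroup.mk'_surjective W
  have hE : Fact (IsElementaryAbelian p (U.map f)) := ⟨isMulCommutative_iff_le_cent.2 (comm_eq_bot_iff.1 (by
    rwa [← Subgroup.map_commutator, Core.map_mk'_eq_bot_iff])), by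
      rintro _ ⟨x, hx, rfl⟩; exact (QuotientGroup.eq_one_iff (x ^ p)).2 (a2 x hx)⟩
  have n := b1.map f hf
  let ρ := ((erep p (U.map f)).comp (f.codRestrict _ fun _ => le_normalizer_of_normal (mem_top _))).toHomUnits
  have r : ∀ g x, ((ρ g).1 x).val = f g * x.val * (f g)⁻¹ := fun g x => erep_val _ x
  obtain ⟨b, hb, h4⟩ : ∃ b ∈ B, ρ b ≠ 1 := by
    by_contra! c
    refine h3 ((Core.map_mk'_eq_bot_iff _ _).1 ?_)
    rw [Subgroup.map_commutator, comm_eq_bot_iff']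
    rintro _ ⟨b, hb, rfl⟩
    exact erep_eq_one_iff.1 (congrArg Units.val (c b hb))
  have h5 : ((ρ b).1 - 1) * ((ρ b).1 - 1) = 0 := by
    ext v
    have := (Core.map_mk'_eq_bot_iff _ _).2 hq
    rw [Subgroup.map_commutator, Subgroup.map_commutator, comm_eq_bot_iff', commutator_comm] at this
    rw [Module.End.mul_apply, LinearMap.sub_apply, LinearMap.zero_apply, sub_eq_zero, Module.End.one_apply]
    exact erep_apply_eq_iff.2 (erep_sub_val (p := p) _ v ▸
      (this (mem_map_of_mem f hb) _ (commutator_mem_commutator (mem_map_of_mem f hb) v.val_mem)).symm)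
  have hI : IC ρ.range := by
    obtain ⟨u, u1, u2⟩ := SetLike.exists_of_lt b0
    refine ⟨⟨EV.mk p ⟨_, mem_map_of_mem f u1⟩, fun e => u2 ((QuotientGroup.eq_one_iff u).1 (EV.val_eq_one.2 e))⟩, fun N hN => ?_⟩
    refine (b3 ((EV.unsub N).comap f) ⟨fun x ⟨v, hv, e⟩ g => ⟨_, hN _ (mem_sup_left ⟨g, rfl⟩) v hv, by simp [r, e]⟩⟩
      (fun x hx => mem_comap.2 (by rw [show f x = 1 from (QuotientGroup.eq_one_iff x).2 hx]; exact one_mem _)) ((comap_mono (EV.unsub_le N)).trans ?_)).imp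
      (fun e => eq_bot_iff.2 fun v hv => ?_) fun e => eq_top_iff.2 fun v _ => ?_
    · rw [comap_map_eq, QuotientGroup.ker_mk', sup_eq_left.2 b0.le]
    · obtain ⟨x, hx⟩ := hf v.val
      exact EV.val_eq_one.1 (hx ▸ (QuotientGroup.eq_one_iff x).2 (e.le (mem_comap.2 (hx ▸ EV.val_mem_unsub.2 hv))))
    · obtain ⟨x, hx, e'⟩ := v.val_mem
      exact EV.val_mem_unsub.1 (e' ▸ mem_comap.1 (e.ge hx))
  refine h4 (mem_bot.1 ((IC.eq_bot_p hI ((op_le _).trans (map_le_range _ _)) (le_norm_op_of_le ?_) (op_isPGroup _)).le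
    (fs hp h hs ρ (hB hb) h5)))
  rw [MonoidHom.range_eq_map, ← hs]
  exact (map_mono (sup_le le_normalizer h.n)).trans (le_normalizer_map _)

theorem kinf_normal (hp : 5 ≤ p) (h : Hyp p H A P) (hs : H ⊔ A = ⊤) (hc : CharP p (⊤ : Subgroup G)) (hO : pCore p G ≤ P) :
    ⊤ ≤ 𝐍 (amb kInfUpper P) := by
  have pT := Core.isPGroup_pCore p G
  obtain ⟨C, c1, c2, c3, c4⟩ := exists_crit pT
  by_contra c
  obtain ⟨B, a1, -, -, -, a5⟩ := kinf_main c1 c3 hO fun d => c (by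
    rw [amb_kU, ← (kinf_eq_of_le hO d).2, ← amb_kU]
    exact le_normalizer_of_normal.trans (fct_kU.normalizer_le pT))
  obtain ⟨U, V, d1, d2, d3, d4⟩ := a5 (cent_crit hc c4)
  exact d4 (chief_stable hp h hs d1 (pT.to_le (d2.trans c1)) a1 d3)

theorem Hyp.le_of_p (h : Hyp p H A P) (hs : H ⊔ A = ⊤) (hU : IsPGroup p U) : U ≤ H := fun g hg =>
  have := normal_of_top_le_normalizer (hs ▸ sup_le le_normalizer h.n : ⊤ ≤ 𝐍 H)
  let ⟨n, hn⟩ := isPGroup_iff_mem.1 hU g hg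
  mem_of_coprime_pows (h.cp.pow_right n) (pow_card_mem hs g) (hn ▸ one_mem _)

theorem kinf_normal' (hp : 5 ≤ p) (h : Hyp p H A P) (hs : H ⊔ A = ⊤) (hc : CharP p H) (hO : pCoreOf p H ≤ P) :
    H ≤ 𝐍 (amb kInfUpper P) := by
  have n := normal_of_top_le_normalizer (hs ▸ sup_le le_normalizer h.n : ⊤ ≤ 𝐍 H)
  have n' := normal_of_top_le_normalizer (le_norm_op_of_le (p := p) (le_normalizer_of_normal : ⊤ ≤ 𝐍 H))
  obtain ⟨S, hS⟩ := Amalg.exists_syl p (⊤ : Subgroup G)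
  have e : H ⊓ pPrimeCore p G = ⊥ := hc.eq_bot ((Core.coprime_card_pPrimeCore p G).coprime_dvd_left (card_dvd_of_le inf_le_right))
    inf_le_left (inf_le_right.trans ((Core.pPrimeCore_le_centralizer_pCore Fact.out).trans
      (centralizer_le (Core.le_pCore (op_isPGroup H)))))
  have hs' : H.map (QuotientGroup.mk' (pPrimeCore p G)) ⊔ A.map (QuotientGroup.mk' (pPrimeCore p G)) = ⊤ := by
    rw [← Subgroup.map_sup, hs]; exact map_top_of_surjective _ (QuotientGroup.mk'_surjective _)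
  have := kinf_normal hp (h.map (QuotientGroup.mk' (pPrimeCore p G))) hs'
    (charP_pq hS (op_isPGroup H) ((inf_le_inf_right _ (h.le_of_p hs hS.isPGroup)).trans hc)) fun x hx => by
      obtain ⟨y, hy, rfl⟩ := (h.map _).le_of_p hs' (Core.isPGroup_pCore p _) hx
      refine mem_map_of_mem _ (hO (le_op (K := H ⊓ (pCore p _).comap (QuotientGroup.mk' (pPrimeCore p G))) inf_le_left
        le_normalizer_of_normal (isPGroup_iff_mem.2 fun z hz => ?_) ⟨hy, hx⟩))
      obtain ⟨k, hk⟩ := isPGroup_iff_mem.1 (Core.isPGroup_pCore p _) _ hz.2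
      exact ⟨k, mem_bot.1 (e.le ⟨pow_mem hz.1 _, (QuotientGroup.eq_one_iff _).1 hk⟩)⟩
  rw [← Fct.map_norm_pq fct_kU h.pg] at this
  intro x _
  obtain ⟨y, y1, y2⟩ := this (mem_top (QuotientGroup.mk' _ x))
  obtain ⟨z, z1, rfl⟩ := (QuotientGroup.mk'_eq_mk' _).1 y2
  exact mul_mem y1 (centralizer_le_normalizer _ (centralizer_le ((amb_le _ P).trans h.le)
    (comm_eq_bot_iff'.1 (le_bot_iff.1 ((commutator_le_inf _ _).trans e.le)) z1)))

/-- Flavell's theorem -/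
theorem flavell (hp : 5 ≤ p) (h : Hyp p H A P) (hc : CharP p H) (hO : pCoreOf p H ≤ P) : H ≤ 𝐍 (amb kInfUpper P) := by
  have l : H ≤ H ⊔ A := le_sup_left
  have := kinf_normal' hp (h.subgroupOf l le_sup_right) (by rw [← subgroupOf_sup l le_sup_right, subgroupOf_self])
    ((charP_subgroupOf l).2 hc) (by rw [op_subgroupOf l]; exact comap_mono hO)
  rw [fct_kU.amb_subgroupOf (h.le.trans l) h.pg, normalizer_subgroupOf ((amb_le _ P).trans (h.le.trans l))] at this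
  exact fun x hx => this (show (⟨x, l hx⟩ : ↥(H ⊔ A)) ∈ H.subgroupOf _ from hx)

end Cfsg.Lib.Glaub.FS
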