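import Cfsg.Agent.Lib.Glaub.FS4
import Cfsg.Agent.Lib.Coprime.Generation
import Cfsg.Agent.Lib.Coprime.PGroup

/-!
# Glaub/FS5: Flavell's theorem on noncyclic abelian groups of coprime operators
-/

set_option autoImplicit false

namespace Cfsg.Lib.Glaub.FS

open Subgroup Cfsg.Lib.Amalg Cfsg.Lib.Fus2
open scoped commutatorElement

universe u

variable {G : Type u} [Group G] [Finite G] {p : ℕ} [Fact p.Prime] {A B D H K N P R T U W : Subgroup G}

omit [Finite G] in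
theorem ni (h1 : A ≤ 𝐍 H) (h2 : A ≤ 𝐍 K) : A ≤ 𝐍 (H ⊓ K) := (le_inf h1 h2).trans inf_normalizer_le_normalizer_inf

omit [Finite G] in
theorem ns (h1 : A ≤ 𝐍 H) (h2 : A ≤ 𝐍 K) : A ≤ 𝐍 (H ⊔ K) := (le_inf h1 h2).trans (normalizer_inf_normalizer_le_normalizer_sup _ _)

omit [Finite G] in
theorem nc (h1 : A ≤ 𝐍 H) : A ≤ 𝐍 (𝐂 H) := h1.trans (Coprime.normalizer_le_normalizer_centralizer_set _)

omit [Finite G] in
theorem nn' (h1 : A ≤ 𝐍 H) : A ≤ 𝐍 (𝐍 H) := h1.trans le_normalizer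

omit [Finite G] in
theorem ncm (h1 : A ≤ 𝐍 H) (h2 : A ≤ 𝐍 K) : A ≤ 𝐍 ⁅H, K⁆ := le_normalizer_of_cj_le fun a ha => by
  rw [cj_commutator, cj_of_mem_normalizer (h1 ha), cj_of_mem_normalizer (h2 ha)]

theorem le_op_of_cent (hc : ⁅H ⊓ 𝐂 (pCoreOf p H), H⁆ ≤ pCoreOf p H) (hU : IsPGroup p U) (l : U ≤ H ⊓ 𝐂 (pCoreOf p H)) :
    U ≤ pCoreOf p H := by
  refine le_sup_left.trans (le_op (K := U ⊔ pCoreOf p H) (sup_le (l.trans inf_le_left) (op_le H)) ?_
    (isPGroup_sup_of_le_normalizer hU (op_isPGroup H) (l.trans (inf_le_left.trans (le_norm_op H)))))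
  refine le_normalizer_of_cj_le fun x hx => ?_
  rw [cj_sup, cj_of_mem_normalizer (le_norm_op H hx)]
  refine sup_le (cj_le_iff'.2 fun y hy => ?_) le_sup_right
  have := inv_mem (hc (commutator_mem_commutator (l hy) hx))
  convert mul_mem (mem_sup_right this) (mem_sup_left hy) using 1
  simp [commutatorElement_def, mul_assoc]

theorem pCore_le_map [H.Normal] (e : H ⊓ pPrimeCore p G ≤ 𝐂 H)
    (h : pCore p _ ≤ H.map (QuotientGroup.mk' (pPrimeCore p G))) :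
    pCore p _ ≤ (pCoreOf p H).map (QuotientGroup.mk' (pPrimeCore p G)) := fun x hx => by
  obtain ⟨y, hy, rfl⟩ := h hx
  obtain ⟨N, hN⟩ : ∃ N, N = H ⊓ (pCore p _).comap (QuotientGroup.mk' (pPrimeCore p G)) := ⟨_, rfl⟩
  have n : N.Normal := hN ▸ inferInstance
  obtain ⟨T, hT⟩ := Amalg.exists_syl p N
  have t0 : T ≤ H := hT.le.trans (hN ▸ inf_le_left)
  have t1 : N ≤ 𝐍 T := by
    refine hT.res_sup.ge.trans (sup_le ((res_le_iff.2 fun g hg c => (?_ : g ∈ H ⊓ pPrimeCore p G)).trans (e.trans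
      ((centralizer_le t0).trans (centralizer_le_normalizer _)))) le_normalizer)
    rw [hN] at hg
    obtain ⟨k, hk⟩ := isPGroup_iff_mem.1 (Core.isPGroup_pCore p _) _ hg.2
    exact ⟨hg.1, mem_of_coprime_pows (c.pow_right k) (pow_orderOf_eq_one g ▸ one_mem _) ((QuotientGroup.eq_one_iff _).1 hk)⟩
  have t2 := le_op t0 (le_normalizer_of_cj_le fun g _ => hT.le_of_normal_syl t1
    (isPGroup_cj g hT.isPGroup) (cj_le_of_le_of_mem_normalizer hT.le (le_normalizer_of_normal (mem_top g)))) hT.isPGroup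
  exact map_mono t2 (((hT.map _).eq_of_isPGroup ((Core.isPGroup_pCore p _).to_le (map_le_iff_le_comap.2 (hN ▸ inf_le_right)))).ge
    (mem_map_of_mem _ (hN ▸ ⟨hy, hx⟩)))

theorem norm_of_map (e : H ⊓ pPrimeCore p G ≤ 𝐂 H) (l : K ≤ H) (pK : IsPGroup p K)
    (h : ⊤ ≤ 𝐍 (K.map (QuotientGroup.mk' (pPrimeCore p G)))) : H ≤ 𝐍 K := by
  refine le_normalizer_of_cj_le fun x hx => cj_le_iff'.2 fun k hk => ?_
  obtain ⟨y, y1, y2⟩ := (mem_normalizer_iff.1 (h (mem_top (QuotientGroup.mk' _ x))) _).1 (mem_map_of_mem _ hk)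
  obtain ⟨z, z1, z2⟩ := (QuotientGroup.mk'_eq_mk' _).1 (y2.trans (by simp : _ = QuotientGroup.mk' _ (x * k * x⁻¹)))
  have z3 : z ∈ H := by
    have := mul_mem (inv_mem (l y1)) (mul_mem (mul_mem hx (l hk)) (inv_mem hx))
    rwa [← z2, inv_mul_cancel_left] at this
  obtain ⟨i, hi⟩ := isPGroup_iff_mem.1 pK k hk
  obtain ⟨j, hj⟩ := isPGroup_iff_mem.1 pK y y1
  have z4 : z ^ p ^ (i + j) = 1 := by
    have := congrArg (· ^ p ^ (i + j)) z2
    simp only [Commute.mul_pow (e ⟨z3, z1⟩ y (l y1)), conj_pow] at this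
    rwa [show k ^ p ^ (i + j) = 1 by rw [pow_add, pow_mul, hi, one_pow],
      show y ^ p ^ (i + j) = 1 by rw [add_comm, pow_add, pow_mul, hj, one_pow], mul_one, one_mul, mul_inv_cancel] at this
  rw [← z2, mem_bot.1 (mem_of_coprime_pows (x := z) ((Core.coprime_card_pPrimeCore p G).pow_right (i + j))
    (congrArg Subtype.val (pow_card_eq_one' (x := (⟨z, z1⟩ : pPrimeCore p G)))) z4), mul_one]
  exact y1

theorem kinf_normal2 (hp : 5 ≤ p) (h : Hyp p H A P) (hs : H ⊔ A = ⊤) (hc : ⁅H ⊓ 𝐂 (pCoreOf p H), H⁆ ≤ pCoreOf p H)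
    (hO : pCoreOf p H ≤ P) : H ≤ 𝐍 (amb kInfUpper P) := by
  have n := normal_of_top_le_normalizer (hs ▸ sup_le le_normalizer h.n : ⊤ ≤ 𝐍 H)
  have n' := normal_of_top_le_normalizer (le_norm_op_of_le (p := p) (le_normalizer_of_normal : ⊤ ≤ 𝐍 H))
  obtain ⟨S, hS⟩ := Amalg.exists_syl p (⊤ : Subgroup G)
  have e : H ⊓ pPrimeCore p G ≤ 𝐂 H := by
    have a1 : ⁅H ⊓ pPrimeCore p G, H⁆ ≤ pPrimeCore p G := (comm_le_left le_normalizer_of_normal).trans inf_le_right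
    have a2 : ⁅H ⊓ pPrimeCore p G, H⁆ ≤ pCoreOf p H := (commutator_mono (inf_le_inf_left _
      ((Core.pPrimeCore_le_centralizer_pCore Fact.out).trans (centralizer_le (Core.le_pCore (op_isPGroup H))))) le_rfl).trans hc
    exact comm_eq_bot_iff.1 (le_bot_iff.1 ((le_inf a2 a1).trans (Coprime.inf_eq_bot_of_coprime_card
        (Coprime.coprime_card_of_isPGroup (op_isPGroup H) (Core.coprime_card_pPrimeCore p G))).le))
  have hs' : H.map (QuotientGroup.mk' (pPrimeCore p G)) ⊔ A.map (QuotientGroup.mk' (pPrimeCore p G)) = ⊤ := by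
    rw [← Subgroup.map_sup, hs]; exact map_top_of_surjective _ (QuotientGroup.mk'_surjective _)
  have := kinf_normal hp (h.map (QuotientGroup.mk' (pPrimeCore p G))) hs'
    (charP_pq hS (op_isPGroup H) (le_op_of_cent hc (hS.isPGroup.to_le inf_le_left) (inf_le_inf_right _ (h.le_of_p hs hS.isPGroup))))
    ((pCore_le_map e ((h.map _).le_of_p hs' (Core.isPGroup_pCore p _))).trans (map_mono hO))
  rw [← Fct.map_amb_of_inf_ker fct_kU _ (inf_ker_mk' h.pg) h.pg] at this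
  exact norm_of_map e ((amb_le _ P).trans h.le) (h.pg.to_le (amb_le _ P)) this

theorem flavell2 (hp : 5 ≤ p) (h : Hyp p H A P) (hc : ⁅H ⊓ 𝐂 (pCoreOf p H), H⁆ ≤ pCoreOf p H) (hO : pCoreOf p H ≤ P) :
    H ≤ 𝐍 (amb kInfUpper P) := by
  have l : H ≤ H ⊔ A := le_sup_left
  have := kinf_normal2 hp (h.subgroupOf l le_sup_right) (by rw [← subgroupOf_sup l le_sup_right, subgroupOf_self])
    (by
      rw [op_subgroupOf l, Core.centralizer_subgroupOf ((op_le H).trans l)]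
      exact commutator_le.2 fun x hx y hy => hc (commutator_mem_commutator (⟨hx.1, hx.2⟩ : x.1 ∈ H ⊓ _) hy))
    (by rw [op_subgroupOf l]; exact comap_mono hO)
  rw [fct_kU.amb_subgroupOf (h.le.trans l) h.pg, normalizer_subgroupOf ((amb_le _ P).trans (h.le.trans l))] at this
  exact fun x hx => this (show (⟨x, l hx⟩ : ↥(H ⊔ A)) ∈ H.subgroupOf _ from hx)

theorem pq (hn : R ≤ 𝐍 D) (hc : (Nat.card R).Coprime (Nat.card D)) (h1 : N ≤ D) (h2 : D ≤ 𝐍 N) (h3 : R ≤ 𝐍 N)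
    (h4 : pResidualOf p D ≤ N) (h5 : IsPGroup p (⁅N, R⁆ :)) : IsPGroup p (⁅D, R⁆ :) := by
  obtain ⟨S, s1, s2⟩ := Coprime.exists_invariant_sylowIn hn hc (FT.solvable_or_of_coprime _ _ hc) p
  have s3 := syl_of_sylowIn s1
  have hc' := Coprime.coprime_card_of_le hc le_rfl h1
  refine s3.isPGroup.to_le (commutator_le.2 fun d hd e he => ?_)
  obtain ⟨a, a1, t, t1, a2⟩ := s3.mem_res_mul (inv_mem hd)
  obtain ⟨u, u1, c, c1, a3⟩ := Coprime.exists_commutator_mul_centralizer h3 hc' (FT.solvable_or_of_coprime _ _ hc') (inv_mem (h4 a1))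
  have m := mul_mem (inv_mem t1) (s3.op_le (op_le_op h1 h2 (le_op (comm_le_left h3) (left_le_normalizer_comm _ _) h5 u1)))
  rw [show d = t⁻¹ * u * c by rw [mul_assoc, ← a3, ← mul_inv_rev, a2, inv_inv]]
  convert mul_mem m (Coprime.conj_mem s2 he (inv_mem m)) using 1
  rw [commutatorElement_def, mul_assoc _ c, ← c1.2 e he]; group

theorem exists_max (h1 : R ≤ 𝐍 H) (h2 : (Nat.card R).Coprime (Nat.card H)) (h3 : (Nat.card R).Coprime p) :
    ∃ P, Hyp p H R P ∧ ∀ U, Hyp p H R U → U ≤ P := by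
  let P := ⨅ (T) (_ : Syl p T H) (_ : R ≤ 𝐍 T), T
  have m : ∀ {x}, x ∈ P ↔ ∀ T, Syl p T H → R ≤ 𝐍 T → x ∈ T := by simp [P, mem_iInf]
  obtain ⟨T, t1, t2⟩ := Coprime.exists_invariant_sylowIn h1 h2 (FT.solvable_or_of_coprime _ _ h2) p
  have l : P ≤ T := fun x hx => m.1 hx T (syl_of_sylowIn t1) t2
  refine ⟨P, ⟨h1, h2, h3, l.trans t1.le, t1.isPGroup.to_le l,
    le_normalizer_of_cj_le fun a ha => cj_le_iff'.2 fun x hx => m.2 fun T b c => Coprime.conj_mem c ha (m.1 hx T b c),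
    le_normalizer_of_cj_le fun a ha => cj_le_iff'.2 fun x hx => m.2 fun T b c => ?_⟩, fun U hU x hx => m.2 fun T b c => hU.le_syl b c hx⟩
  have := m.1 hx _ (b.conj_of_mem (inv_mem ha.1)) (by
    rw [← cj_normalizer]
    exact (cj_of_mem_centralizer (inv_mem ha.2)).ge.trans (cj_mono _ c))
  rwa [mem_cj, inv_inv] at this

/-- the local hypothesis -/
def HS (p : ℕ) (H R : Subgroup G) : Prop := ∀ b ∈ R, b ≠ 1 → ∃ T ≤ H, IsPGroup p T ∧ R ≤ 𝐍 T ∧ H ⊓ centralizer {b} ≤ 𝐍 T ∧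
  IsPGroup p (⁅H ⊓ centralizer {b} ⊓ 𝐂 T, R⁆ :)

variable [hR : IsMulCommutative R] (h1 : R ≤ 𝐍 H) (h2 : (Nat.card R).Coprime (Nat.card H))

omit [Finite G] [Fact p.Prime] in
theorem nb {b : G} (hb : b ∈ R) : R ≤ 𝐍 (centralizer {b}) :=
  le_trans (fun x hx => mem_centralizer_singleton_iff.2 (Coprime.mul_comm_of_mem hx hb)) le_normalizer

omit [Finite G] [Fact p.Prime] hR in
theorem cb {b : G} (hb : b ∈ R) : 𝐂 R ≤ centralizer {b} := centralizer_le (Set.singleton_subset_iff.2 hb)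

include h2 in
theorem HS.inh (h : HS p H R) (hK : K ≤ H) (hn : R ≤ 𝐍 K) (f : Subgroup G → Subgroup G)
    (hf : ∀ b ∈ R, ∀ T ≤ H, IsPGroup p T → R ≤ 𝐍 T → H ⊓ centralizer {b} ≤ 𝐍 T → f T ≤ K ∧ IsPGroup p (f T) ∧ R ≤ 𝐍 (f T) ∧
      K ⊓ centralizer {b} ≤ 𝐍 (f T) ∧ ∀ g ∈ K ⊓ centralizer {b} ⊓ 𝐂 (f T), (orderOf g).Coprime p → g ∈ 𝐂 T) : HS p K R := by
  intro b hb b1
  obtain ⟨T, t1, t2, t3, t4, t5⟩ := h b hb b1
  obtain ⟨a1, a2, a3, a4, a5⟩ := hf b hb T t1 t2 t3 t4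
  have n := ni (ni hn (nb hb)) (nc a3)
  refine ⟨f T, a1, a2, a3, a4, pq n (Coprime.coprime_card_of_le h2 le_rfl (inf_le_left.trans (inf_le_left.trans hK)))
    (inf_le_left (b := 𝐂 T)) (ni le_normalizer (nc (inf_le_left.trans ((inf_le_inf_right _ hK).trans t4)))) (ni n (nc t3))
    (res_le_iff.2 fun g hg c => ⟨hg, a5 g hg c⟩) (t5.to_le (commutator_mono
      (inf_le_inf_right _ (inf_le_left.trans (inf_le_inf_right _ hK))) le_rfl))⟩

include h2 in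
theorem HS.normal (h : HS p H R) (hK : K ≤ H) (hn : R ≤ 𝐍 K) (hn' : H ≤ 𝐍 K) : HS p K R :=
  h.inh h2 hK hn (· ⊓ K) fun b _ T t1 t2 t3 t4 => ⟨inf_le_right, t2.to_le inf_le_left, ni t3 hn,
    ni ((inf_le_inf_right _ hK).trans t4) (inf_le_left.trans le_normalizer), fun g hg c => by
      have n : zpowers g ≤ 𝐍 T := zpowers_le_of_mem (t4 ⟨hK hg.1.1, hg.1.2⟩)
      exact Coprime.le_centralizer_of_commutator_le_centralizer n (Coprime.coprime_card_of_isPGroup t2 (by rwa [Nat.card_zpowers]))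
        ((le_inf (comm_le_left n) ((commutator_mono le_rfl (zpowers_le_of_mem hg.1.1)).trans (comm_le_right (t1.trans hn')))).trans
          (le_centralizer_iff.1 (zpowers_le_of_mem hg.2))) (mem_zpowers g)⟩

theorem HS.loc (h : HS p H R) (hU : Hyp p H R U) : HS p (H ⊓ 𝐍 U) R := by
  obtain ⟨P, p1, p2⟩ := exists_max hU.n hU.c hU.cp
  refine h.inh hU.c inf_le_left (ni hU.n (nn' hU.nA)) (fun T => (U ⊔ T) ⊓ 𝐍 U) fun b hb T t1 t2 t3 t4 => ?_
  have a1 : IsPGroup p (U ⊔ T :) := p1.pg.to_le (sup_le (p2 U hU) (p2 T ⟨hU.n, hU.c, hU.cp, t1, t2, t3,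
    (inf_le_inf_left _ (cb hb)).trans t4⟩))
  have a2 : H ⊓ 𝐍 U ⊓ centralizer {b} ≤ 𝐍 (U ⊔ T) :=
    ns (inf_le_left.trans inf_le_right) ((inf_le_inf_right _ inf_le_left).trans t4)
  refine ⟨inf_le_inf_right _ (sup_le hU.le t1), a1.to_le inf_le_left, ni (ns hU.nA t3) (nn' hU.nA),
    ni a2 (nn' (inf_le_left.trans inf_le_right)), fun g hg c => ?_⟩
  have a3 := le_centralizer_iff.1 (zpowers_le_of_mem hg.2)
  exact centralizer_le (le_sup_right : T ≤ U ⊔ T) (Coprime.thompson_PxQ hU.pg (by rwa [Nat.card_zpowers]) a1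
    ((le_inf le_sup_left le_normalizer).trans a3) (le_sup_left.trans le_normalizer) (zpowers_le_of_mem (a2 hg.1))
    ((inf_le_inf_left _ (centralizer_le_normalizer _)).trans a3) (mem_zpowers g))

omit hR in
theorem push (hp : 5 ≤ p) (hP : Hyp p H R P) (hm : ∀ U, Hyp p H R U → U ≤ P) (h : IsPGroup p (⁅H ⊓ 𝐂 (pCoreOf p H), R⁆ :)) :
    H ≤ 𝐍 (amb kInfUpper P) := by
  have s := FT.solvable_or_of_coprime _ _ hP.c
  have k : ∀ {K}, K ≤ H → R ≤ 𝐍 K → H ⊓ 𝐂 R ≤ 𝐍 K → pCoreOf p K ≤ P := fun a b c => hm _ ⟨hP.n, hP.c, hP.cp, (op_le _).trans a,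
    op_isPGroup _, le_norm_op_of_le b, le_norm_op_of_le c⟩
  have hO := k le_rfl hP.n (inf_le_left.trans le_normalizer)
  obtain ⟨D, hD⟩ : ∃ D, D = H ⊓ 𝐂 (pCoreOf p H) := ⟨_, rfl⟩
  have d1 : D ≤ H := hD ▸ inf_le_left
  have d2 : H ≤ 𝐍 D := hD ▸ ni le_normalizer (nc (le_norm_op H))
  have d3 : R ≤ 𝐍 D := hD ▸ ni hP.n (nc (le_norm_op_of_le hP.n))
  rw [← hD] at h
  have d4 : ⁅D, R⁆ ≤ pCoreOf p H := (le_op (comm_le_left d3) (left_le_normalizer_comm _ _) h).trans (op_le_op d1 d2)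
  let Y : Subgroup G :=
    { carrier := {g | g ∈ 𝐍 D ⊓ 𝐍 (pCoreOf p H) ∧ ∀ d ∈ D, ⁅d, g⁆ ∈ pCoreOf p H}
      one_mem' := ⟨one_mem _, by simp⟩
      mul_mem' := fun {a b} ha hb => ⟨mul_mem ha.1 hb.1, fun d hd => by
        convert mul_mem (ha.2 d hd) ((mem_normalizer_iff.1 ha.1.2 _).1 (hb.2 d hd)) using 1
        simp only [commutatorElement_def]; group⟩
      inv_mem' := fun {a} ha => ⟨inv_mem ha.1, fun d hd => by
        convert inv_mem ((mem_normalizer_iff''.1 ha.1.2 _).1 (ha.2 d hd)) using 1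
        simp only [commutatorElement_def]; group⟩ }
  have y0 : ∀ {X}, X ≤ 𝐍 H → ⁅D, X⁆ ≤ pCoreOf p H → X ≤ Y := fun a b x hx => ⟨⟨hD ▸ ni a (nc (le_norm_op_of_le a)) hx,
    le_norm_op_of_le a hx⟩, fun d hd => b (commutator_mem_commutator hd hx)⟩
  have y1 : H ≤ 𝐍 Y := le_normalizer_of_cj_le fun x hx => cj_le_iff'.2 fun g hg =>
    have m : x ∈ 𝐍 D ⊓ 𝐍 (pCoreOf p H) := ⟨d2 hx, le_norm_op H hx⟩
    ⟨mul_mem (mul_mem m hg.1) (inv_mem m), fun d hd => by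
      convert (mem_normalizer_iff.1 m.2 _).1 (hg.2 _ ((mem_normalizer_iff''.1 m.1 d).1 hd)) using 1
      simp only [commutatorElement_def]; group⟩
  have y2 : ⁅H, R⁆ ≤ Y := (commutator_mono le_rfl (y0 hP.n d4)).trans (comm_le_right y1)
  have c := Coprime.coprime_card_of_le hP.c le_rfl d1
  have y3 : P ≤ Y := y0 (hP.le.trans le_normalizer) (by
    have n : D ≤ 𝐍 P := (Coprime.commutator_sup_centralizer d3 c (FT.solvable_or_of_coprime _ _ c)).ge.trans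
      (sup_le (d4.trans (hO.trans le_normalizer)) ((inf_le_inf_right _ d1).trans hP.nC))
    exact (le_inf (comm_le_left (hP.le.trans d2)) (comm_le_right n)).trans ((le_op inf_le_left (ni le_normalizer n)
      (hP.pg.to_le inf_le_right)).trans (op_le_op d1 d2)))
  have l : ⁅H, R⁆ ⊔ P ≤ H := sup_le (comm_le_left hP.n) hP.le
  have n1 : R ≤ 𝐍 (⁅H, R⁆ ⊔ P) := ns (right_le_normalizer_comm _ _) hP.nA
  have n2 : H ⊓ 𝐂 R ≤ 𝐍 (⁅H, R⁆ ⊔ P) := ns (inf_le_left.trans (left_le_normalizer_comm _ _)) hP.nC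
  have o : pCoreOf p H ≤ pCoreOf p (⁅H, R⁆ ⊔ P) := op_le_op_of_le l (hO.trans le_sup_right)
  have := flavell2 hp (H := ⁅H, R⁆ ⊔ P) (A := R) (P := P) ⟨n1, Coprime.coprime_card_of_le hP.c le_rfl l, hP.cp, le_sup_right, hP.pg,
    hP.nA, (inf_le_inf_right _ l).trans hP.nC⟩ (commutator_le.2 fun d hd g hg => o ((sup_le y2 y3 hg).2 d
      (hD ▸ ⟨l hd.1, centralizer_le o hd.2⟩))) (k l n1 n2)
  exact (Coprime.commutator_sup_centralizer hP.n hP.c s).ge.trans (sup_le (le_sup_left.trans this)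
    (hP.nC.trans (fct_kU.normalizer_le hP.pg)))

theorem gh (hp : 5 ≤ p) (hnc : ¬ IsCyclic R) (h1 : R ≤ 𝐍 H) (h2 : (Nat.card R).Coprime (Nat.card H)) (h3 : (Nat.card R).Coprime p)
    (h : HS p H R) : IsPGroup p (⁅H ⊓ 𝐂 (pCoreOf p H), R⁆ :) := by
  induction e : Nat.card H using Nat.strong_induction_on generalizing H with | _ n ih => ?_
  replace ih : ∀ K < H, R ≤ 𝐍 K → HS p K R → IsPGroup p (⁅K ⊓ 𝐂 (pCoreOf p K), R⁆ :) := fun K a b c =>
    ih _ (e ▸ Transfer.card_lt_of_lt a) b (Coprime.coprime_card_of_le h2 le_rfl a.le) c rfl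
  by_cases hD : H ≤ 𝐂 (pCoreOf p H)
  swap
  · have n := ni le_normalizer (nc (le_norm_op (p := p) H))
    have n' := ni h1 (nc (le_norm_op_of_le (p := p) h1))
    have := ih _ (lt_of_le_not_ge inf_le_left fun c => hD (c.trans inf_le_right)) n' (h.normal h2 inf_le_left n' n)
    rwa [inf_eq_left.2 (inf_le_right.trans (centralizer_le (op_le_op inf_le_left n)))] at this
  obtain ⟨P, p1, p2⟩ := exists_max h1 h2 h3
  have key : ∀ U, Hyp p H R U → ¬ H ≤ 𝐂 U → H ⊓ 𝐍 U ≤ 𝐍 (amb kInfUpper (P ⊓ (H ⊓ 𝐍 U))) := fun U u1 u2 => by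
    have n := ni h1 (nn' u1.nA)
    refine push hp (p1.inf inf_le_left n) (fun V hV => le_inf (p2 V ⟨h1, h2, h3, hV.le.trans inf_le_left, hV.pg, hV.nA,
      (le_inf (le_inf inf_le_left u1.nC) inf_le_right).trans hV.nC⟩) hV.le) (ih _ (lt_of_le_not_ge inf_le_left fun c =>
        u2 (hD.trans (centralizer_le (le_op u1.le (c.trans inf_le_right) u1.pg)))) n (h.loc u1))
  have cl : ∀ b ∈ R, b ≠ 1 → (∃ U, Hyp p H R U ∧ ¬ H ≤ 𝐂 U ∧ H ⊓ centralizer {b} ≤ 𝐍 U) ∨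
      H ⊓ centralizer {b} ≤ pCoreOf p H ⊔ H ⊓ 𝐂 R := fun b hb b1 => by
    obtain ⟨T, t1, t2, t3, t4, t5⟩ := h b hb b1
    have m : H ⊓ 𝐂 R ≤ H ⊓ centralizer {b} := inf_le_inf_left _ (cb hb)
    by_cases c : H ≤ 𝐂 T
    swap
    · exact .inl ⟨T, ⟨h1, h2, h3, t1, t2, t3, m.trans t4⟩, c, t4⟩
    rw [inf_eq_left.2 (inf_le_left.trans c)] at t5
    have n := ni h1 (nb hb)
    have l := (comm_le_left n).trans inf_le_left
    by_cases d : H ≤ 𝐂 ⁅H ⊓ centralizer {b}, R⁆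
    swap
    · exact .inl ⟨_, ⟨h1, h2, h3, l, t5, right_le_normalizer_comm _ _, m.trans (left_le_normalizer_comm _ _)⟩, d,
        left_le_normalizer_comm _ _⟩
    have c' := Coprime.coprime_card_of_le h2 le_rfl (inf_le_left : H ⊓ centralizer {b} ≤ H)
    exact .inr ((Coprime.commutator_sup_centralizer n c' (FT.solvable_or_of_coprime _ _ c')).ge.trans (sup_le_sup
      (le_op l (d.trans (centralizer_le_normalizer _)) t5) (inf_le_inf_right _ inf_le_left)))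
  rw [inf_eq_left.2 hD]
  by_cases hP : H ≤ 𝐂 P
  · refine (op_isPGroup H).to_le ((commutator_mono (Coprime.le_of_forall_centralizer_le hnc h1 h2 fun b hb b1 =>
      (cl b hb b1).resolve_left fun ⟨U, u1, u2, _⟩ => u2 (hP.trans (centralizer_le (p2 U u1)))) le_rfl).trans
      (comm_sup_le (comm_le_left (le_norm_op_of_le h1)) ((comm_eq_bot_iff.2 inf_le_right).le.trans bot_le) le_normalizer
        (inf_le_left.trans (le_norm_op H))))
  have ku : ∀ {V}, Hyp p H R V → Hyp p H R (amb kInfUpper V) ∧ (H ≤ 𝐂 (amb kInfUpper V) → H ≤ 𝐂 V) := fun {V} hV =>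
    ⟨⟨h1, h2, h3, (amb_le _ V).trans hV.le, hV.pg.to_le (amb_le _ V), hV.nA.trans (fct_kU.normalizer_le hV.pg),
      hV.nC.trans (fct_kU.normalizer_le hV.pg)⟩, fun c => c.trans (centralizer_le ((le_inf le_rfl (hV.le.trans c)).trans (cent_kU_le hV.pg)))⟩
  have := Coprime.le_of_forall_centralizer_le (L := 𝐍 (amb kInfUpper P)) hnc h1 h2 fun b hb b1 => by
    obtain c | c := cl b hb b1
    · obtain ⟨U, ⟨u1, u2, u3⟩, u4⟩ := Set.exists_max_image {U | Hyp p H R U ∧ ¬ H ≤ 𝐂 U ∧ H ⊓ centralizer {b} ≤ 𝐍 U}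
        (fun U => Nat.card (P ⊓ 𝐍 U :)) (Set.toFinite _) c
      have k1 := key U u1 u2
      have e1 : P ⊓ (H ⊓ 𝐍 U) = P ⊓ 𝐍 U := by rw [← inf_assoc, inf_eq_left.2 p1.le]
      rw [e1] at k1
      have v : Hyp p H R (P ⊓ 𝐍 U) := ⟨h1, h2, h3, inf_le_left.trans p1.le, p1.pg.to_le inf_le_left, ni p1.nA (nn' u1.nA),
        ni p1.nC (nn' u1.nC)⟩
      have k2 := (le_inf inf_le_left u3).trans k1
      have k3 := u4 _ ⟨(ku v).1, fun c => u2 (((ku v).2 c).trans (centralizer_le (le_inf (p2 U u1) le_normalizer))), k2⟩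
      have k4 := eq_of_inf_normalizer_le p1.pg inf_le_left ((inf_le_inf_left _ (fct_kU.normalizer_le v.pg)).trans
        (eq_of_le_of_card_ge (le_inf inf_le_left (fct_kU.le_normalizer v.pg)) k3).ge)
      rwa [k4] at k2
    · exact c.trans (sup_le ((le_centralizer_iff.1 (((ku p1).1.le).trans hD)).trans (centralizer_le_normalizer _)) (ku p1).1.nC)
  exact (hP ((ku p1).2 (hD.trans (centralizer_le (le_op (ku p1).1.le this (ku p1).1.pg))))).elim

end Cfsg.Lib.Glaub.FS
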