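import Cfsg.Agent.Lib.Glaub.FF

/-!
# Glaub/JDeg: the degree of a maximal abelian subgroup on the chief factors in the `p`-core
-/

set_option autoImplicit false
set_option linter.unusedSectionVars false

namespace Cfsg.Lib.Glaub

open Cfsg Subgroup Cfsg.Lib.Amalg Cfsg.Lib.Transfer
open Cfsg.Lib.KS9 (ms)
open scoped commutatorElement

section Repl

variable {G : Type*} [Group G] [Finite G] {A B E M S V X : Subgroup G} {u : G}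

theorem mx_cent (hA : A ∈ maxEl 0 S) : A ≤ 𝐂 A := elemAb_le_cent hA.2.1

theorem mx_self (hA : A ∈ maxEl 0 S) (hB : B ≤ S) (h : B ≤ 𝐂 A) : B ≤ A := fun x hx =>
  mem_of_mem_maxEl hA (hB hx) (pow_zero x) (h hx)

theorem mx_ms (hA : A ∈ maxEl 0 S) (hV : V ≤ S) (hc : V ≤ 𝐂 V) (hB : B ≤ A) : ms V B ≤ ms V A := by
  have h1 := Core.card_sup_mul_card_inf (H := B) (K := V ⊓ 𝐂 B)
    ((le_cent_symm inf_le_right).trans (cent_le_norm _))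
  rw [ms, ms, ← h1]
  refine Nat.mul_le_mul (hA.2.2 _ (sup_le (hB.trans hA.1) (inf_le_left.trans hV))
    (elemAb_sup (elemAb_of_le hA.2.1 hB) (elAb_zero.2 (isMulCommutative_of_le_cent inf_le_left
      (inf_le_left.trans hc))) (le_cent_symm inf_le_right))) (card_le_of_le ?_)
  exact le_inf (inf_le_right.trans inf_le_left) ((inf_le_left.trans hB).trans (mx_cent hA))

theorem repl_inj (hA : A ≤ 𝐂 A) (hn : A ≤ 𝐍 V) (hu : u ∈ 𝐂 V) {c d : G} (hc : c ∈ A) (hd : d ∈ A)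
    (h : ⁅u, c⁆⁻¹ * ⁅u, d⁆ ∈ V ⊓ 𝐂 A) : c⁻¹ * d ∈ A ⊓ 𝐂 ⁅zpowers u, A⁆ := by
  have hcd : c⁻¹ * d ∈ A := A.mul_mem (A.inv_mem hc) hd
  refine mem_inf.2 ⟨hcd, ?_⟩
  have hAY : A ≤ 𝐍 (V ⊓ 𝐂 A) := Core.le_normalizer_inf hn (Core.le_normalizer_centralizer le_normalizer)
  have h1 : ⁅u, c⁻¹ * d⁆ ∈ V ⊓ 𝐂 A := by
    have e : ⁅u, c⁻¹ * d⁆ = c⁻¹ * (⁅u, c⁆⁻¹ * ⁅u, d⁆) * c := by
      simp only [commutatorElement_def]; group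
    rw [e]; exact Core.conj_inv_mem_of_mem_normalizer (hAY hc) h
  have h2 : ⁅zpowers u, zpowers (c⁻¹ * d)⁆ ≤ V ⊓ 𝐂 A :=
    KS9.comm_zpowers_le (cent_le_norm _ (Core.centralizer_anti inf_le_left hu)) (hAY hcd) h1
  rw [← zpowers_le, ← comm_eq_bot_iff', commutator_comm (zpowers u)]
  refine commutator_commutator_eq_bot_of_rotate ?_ ?_
  · exact comm_eq_bot_iff.2 (h2.trans inf_le_right)
  · rw [comm_eq_bot_iff.2 ((zpowers_le.2 hcd).trans hA), commutator_bot_left]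

theorem repl_cyc (hA : A ≤ 𝐂 A) (hn : A ≤ 𝐍 V) (hu : u ∈ 𝐂 V) :
    ms V A ≤ Nat.card (A ⊓ 𝐂 ⁅zpowers u, A⁆ : Subgroup G) *
      Nat.card (⁅zpowers u, A⁆ ⊔ (V ⊓ 𝐂 A) : Subgroup G) := by
  have key : (A ⊓ 𝐂 ⁅zpowers u, A⁆).relIndex A ≤
      (V ⊓ 𝐂 A).relIndex (⁅zpowers u, A⁆ ⊔ (V ⊓ 𝐂 A)) :=
    KS9.relIndex_le_of_fun (fun c => ⁅u, c⁆)
      (fun c hc => mem_sup_left (commutator_mem_commutator (mem_zpowers u) hc))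
      fun c hc d hd h => repl_inj hA hn hu hc hd h
  rw [ms, ← Core.card_mul_relIndex (inf_le_left : A ⊓ 𝐂 ⁅zpowers u, A⁆ ≤ A),
    ← Core.card_mul_relIndex (le_sup_right : V ⊓ 𝐂 A ≤ ⁅zpowers u, A⁆ ⊔ (V ⊓ 𝐂 A)), mul_assoc,
    mul_comm (Subgroup.relIndex _ A)]
  exact Nat.mul_le_mul_left _ (Nat.mul_le_mul_left _ key)

theorem repl_ineq' (hV : V ≤ 𝐂 V) (hA : A ≤ 𝐂 A) (hn : A ≤ 𝐍 V) (hmax : ∀ B, B ≤ A → ms V B ≤ ms V A)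
    (hX : X ≤ 𝐂 V) (hX' : ⁅X, A⁆ ≤ V) :
    ms V A ≤ Nat.card (A ⊓ 𝐂 ⁅X, A⁆ : Subgroup G) * Nat.card (⁅X, A⁆ ⊔ (V ⊓ 𝐂 A) : Subgroup G) := by
  have hS : X = sSup {K | ∃ u ∈ X, K = zpowers u} := by
    apply le_antisymm
    · intro u hu; exact le_sSup (s := {K | ∃ u ∈ X, K = zpowers u}) ⟨u, hu, rfl⟩ (mem_zpowers u)
    · exact sSup_le fun K ⟨u, hu, e⟩ => e ▸ zpowers_le.2 hu
  have cs : ∀ U : Subgroup G, U ≤ X → ⁅U, A⁆ ⊔ (V ⊓ 𝐂 A) ≤ V ⊓ 𝐂 (A ⊓ 𝐂 ⁅U, A⁆) := fun U hU =>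
    sup_le (le_inf ((commutator_mono hU le_rfl).trans hX') (le_cent_symm inf_le_right))
      (inf_le_inf_left _ (Core.centralizer_anti inf_le_left))
  have := sSup_of_sup_closed (fun K => K ≤ X ∧ ms V A ≤ Nat.card (A ⊓ 𝐂 ⁅K, A⁆ : Subgroup G) *
      Nat.card (⁅K, A⁆ ⊔ (V ⊓ 𝐂 A) : Subgroup G)) ?_ (S := {K | ∃ u ∈ X, K = zpowers u})
      ?_ ⟨_, 1, X.one_mem, rfl⟩
  · rw [← hS] at this; exact this.2
  · rintro U₁ U₂ ⟨h₁, k₁⟩ ⟨h₂, k₂⟩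
    refine ⟨sup_le h₁ h₂, ?_⟩
    have c₁ : ⁅U₁, A⁆ ≤ V := (commutator_mono h₁ le_rfl).trans hX'
    have c₂ : ⁅U₂, A⁆ ≤ V := (commutator_mono h₂ le_rfl).trans hX'
    have n0 : X ≤ 𝐍 (⁅U₁, A⁆ ⊔ ⁅U₂, A⁆) := (hX.trans (Core.centralizer_anti (sup_le c₁ c₂))).trans (cent_le_norm _)
    have e : ⁅U₁ ⊔ U₂, A⁆ = ⁅U₁, A⁆ ⊔ ⁅U₂, A⁆ := le_antisymm
      (comm_sup_le le_sup_left le_sup_right (h₁.trans n0) (h₂.trans n0))
      (sup_le (commutator_mono le_sup_left le_rfl) (commutator_mono le_sup_right le_rfl))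
    rw [e, Core.centralizer_sup, inf_inf_distrib_left, sup_sup_distrib_right]
    set A₁ := A ⊓ 𝐂 ⁅U₁, A⁆
    set A₂ := A ⊓ 𝐂 ⁅U₂, A⁆
    set X₁ := ⁅U₁, A⁆ ⊔ (V ⊓ 𝐂 A)
    set X₂ := ⁅U₂, A⁆ ⊔ (V ⊓ 𝐂 A)
    have i1 := card_mul_card_le_sup A₁ A₂
    have i2 := card_mul_card_le_sup X₁ X₂
    have i3 : Nat.card (X₁ ⊓ X₂ : Subgroup G) ≤ Nat.card (V ⊓ 𝐂 (A₁ ⊔ A₂) : Subgroup G) := by
      refine card_le_of_le ?_
      rw [Core.centralizer_sup, inf_inf_distrib_left]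
      exact inf_le_inf (cs _ h₁) (cs _ h₂)
    have i4 := hmax (A₁ ⊔ A₂) (sup_le inf_le_left inf_le_left)
    refine Nat.le_of_mul_le_mul_left ?_ (KS9.ms_pos V A)
    calc ms V A * ms V A ≤ (Nat.card A₁ * Nat.card X₁) * (Nat.card A₂ * Nat.card X₂) :=
          Nat.mul_le_mul k₁ k₂
      _ = (Nat.card A₁ * Nat.card A₂) * (Nat.card X₁ * Nat.card X₂) := by ring
      _ ≤ _ := Nat.mul_le_mul i1 (i2.trans (Nat.mul_le_mul_left _ i3))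
      _ = ms V (A₁ ⊔ A₂) *
          (Nat.card (A₁ ⊓ A₂ : Subgroup G) * Nat.card (X₁ ⊔ X₂ : Subgroup G)) := by ring
      _ ≤ _ := Nat.mul_le_mul_right _ i4
  · rintro _ ⟨u, hu, rfl⟩
    exact ⟨zpowers_le.2 hu, repl_cyc hA hn (hX hu)⟩

/-- replacement -/
theorem mx_repl (hA : A ∈ maxEl 0 S) (hV : V ≤ S) (hc : V ≤ 𝐂 V) (hX : X ≤ 𝐂 V) (hX' : ⁅X, A⁆ ≤ V) :
    ⁅X, A⁆ ⊔ (A ⊓ 𝐂 ⁅X, A⁆) ∈ maxEl 0 S := by
  have c1 : ⁅X, A⁆ ≤ 𝐂 ⁅X, A⁆ := hX'.trans (hc.trans (Core.centralizer_anti hX'))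
  have h1 := repl_ineq' c1 (mx_cent hA) (right_le_normalizer_comm X A) (fun B hB => mx_ms hA (hX'.trans hV) c1 hB)
    (hX.trans (Core.centralizer_anti hX')) le_rfl
  rw [sup_eq_left.2 inf_le_left, mul_comm, ← Core.card_sup_mul_card_inf' (inf_le_right.trans (cent_le_norm _))] at h1
  refine mem_maxEl_of_card_le hA (sup_le (hX'.trans hV) (inf_le_left.trans hA.1))
    (elemAb_sup (elAb_zero.2 (isMulCommutative_iff_le_cent.2 c1)) (elemAb_of_le hA.2.1 inf_le_left)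
      (le_cent_symm inf_le_right)) (Nat.le_of_mul_le_mul_right (h1.trans (Nat.mul_le_mul_left _ (card_le_of_le ?_)))
      (card_pos' (⁅X, A⁆ ⊓ 𝐂 A)))
  exact inf_le_inf_left _ (inf_le_left.trans (mx_cent hA))

theorem mx_surj (hA : A ∈ maxEl 0 S) (hV : V ≤ S) (hc : V ≤ 𝐂 V) (hn : A ≤ 𝐍 V) (hu : u ∈ V) {m : G}
    (hm : m ∈ ⁅zpowers u, A⁆) : ∃ c ∈ A, ⁅u, c⁆⁻¹ * m ∈ 𝐂 A := by
  classical
  set M := ⁅zpowers u, A⁆
  have h0 : M ≤ V := (commutator_mono (zpowers_le.2 hu) le_rfl).trans (comm_le_left hn)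
  have h1 := maxEl_zero_off hA (h0.trans hV) (isMulCommutative_of_le_cent h0 (h0.trans hc))
  have h2 : (M ⊓ 𝐂 A).relIndex M ≤ (A ⊓ 𝐂 M).relIndex A := by
    rw [← Core.card_mul_relIndex (inf_le_left : M ⊓ 𝐂 A ≤ M),
      ← Core.card_mul_relIndex (inf_le_left : A ⊓ 𝐂 M ≤ A)] at h1
    refine Nat.le_of_mul_le_mul_left (c := Nat.card (M ⊓ 𝐂 A : Subgroup G) * Nat.card (A ⊓ 𝐂 M : Subgroup G)) ?_
      (Nat.mul_pos (card_pos' _) (card_pos' _))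
    calc _ = _ := by ring
      _ ≤ _ := h1
      _ = _ := by ring
  have hf : ∀ c ∈ A, ⁅u, c⁆ ∈ M := fun c hc => commutator_mem_commutator (mem_zpowers u) hc
  let g : A ⧸ (A ⊓ 𝐂 M).subgroupOf A → M ⧸ (M ⊓ 𝐂 A).subgroupOf M := fun q =>
    QuotientGroup.mk ⟨⁅u, q.out⁆, hf _ q.out.2⟩
  have hg : Function.Injective g := fun q q' e => by
    rw [← q.out_eq, ← q'.out_eq]
    have e' : (⟨⁅u, q.out⁆, hf _ q.out.2⟩ : M)⁻¹ * ⟨⁅u, q'.out⁆, hf _ q'.out.2⟩ ∈ (M ⊓ 𝐂 A).subgroupOf M :=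
      QuotientGroup.eq.1 e
    exact QuotientGroup.eq.2 (repl_inj (mx_cent hA) hn (hc hu) q.out.2 q'.out.2 ⟨h0 e'.1, e'.2⟩)
  obtain ⟨q, hq⟩ := (hg.bijective_of_nat_card_le h2).2 (QuotientGroup.mk ⟨m, hm⟩)
  exact ⟨q.out, q.out.2, (QuotientGroup.eq.1 hq).2⟩

theorem three_le {K F N : Subgroup G} (n1 : X ≤ 𝐍 N) (n2 : K ≤ 𝐍 N) (n3 : F ≤ 𝐍 N) (h1 : ⁅⁅K, F⁆, X⁆ ≤ N)
    (h2 : ⁅⁅X, F⁆, K⁆ ≤ N) : ⁅⁅X, K⁆, F⁆ ≤ N :=
  PGrp.three_subgroups_of_le_normalizer n1 n2 n3 h1 (by rwa [commutator_comm F])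

theorem three_bot {K F : Subgroup G} (h1 : ⁅K, F⁆ ≤ 𝐂 X) (h2 : ⁅X, F⁆ ≤ 𝐂 K) : ⁅X, K⁆ ≤ 𝐂 F :=
  comm_eq_bot_iff.1 (commutator_commutator_eq_bot_of_rotate (comm_eq_bot_iff.2 h1)
    (by rw [commutator_comm F]; exact comm_eq_bot_iff.2 h2))

theorem comm_comm_le {K N : Subgroup G} (h : K ≤ 𝐂 X) : ⁅K, X⁆ ≤ N := (comm_eq_bot_iff.2 h).le.trans bot_le

theorem norm_of_cent {K : Subgroup G} (h : K ≤ 𝐂 V) (h' : X ≤ V) : K ≤ 𝐍 X :=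
  (h.trans (Core.centralizer_anti h')).trans (cent_le_norm _)

theorem iter_le_of_forall {U Z : Subgroup G} (hZ : Z ≤ 𝐂 Z) (hn : A ≤ 𝐍 Z) (hU : U ≤ Z) (n : ℕ) :
    ∀ V : Subgroup G, Z ≤ 𝐍 V → (∀ x ∈ U, iterCommutator (zpowers x) A n ≤ V) → iterCommutator U A n ≤ V := by
  have h0 : ∀ X ≤ Z, ∀ n, iterCommutator X A n ≤ Z := fun X hX n => by
    induction n with
    | zero => exact hX
    | succ n ih => exact (commutator_mono ih le_rfl).trans (comm_le_left hn)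
  induction n with
  | zero => exact fun V _ h x hx => h x hx (mem_zpowers x)
  | succ n ih =>
    intro V hV h
    have := ih (Z ⊓ stabMod A V) (norm_of_cent hZ inf_le_left) fun x hx =>
      have a := h0 _ (zpowers_le.2 (hU hx)) n
      le_inf a (le_stabMod_iff.2 ⟨a.trans hV, (commutator_comm _ _).le.trans (h x hx)⟩)
    exact (commutator_comm _ _).le.trans (le_stabMod_iff.1 (this.trans inf_le_right)).2

end Repl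

section JM

variable {G : Type*} [Group G] [Finite G] {p : ℕ} {A B K M P Q S U V X Z : Subgroup G}

/-- a maximal abelian subgroup outside `P`, chosen minimal modulo `P` and then meeting `Z` maximally -/
structure JM (p : ℕ) (S P Z A : Subgroup G) : Prop where
  pS : IsPGroup p S
  le : P ≤ S
  nP : S ≤ 𝐍 P
  mx : A ∈ maxEl 0 S
  nle : ¬ A ≤ P
  min : ∀ B ∈ maxEl 0 S, B ≤ A ⊔ P → B ≤ P ∨ A ≤ B ⊔ P
  max : ∀ B ∈ maxEl 0 S, B ≤ A ⊔ P → A ≤ B ⊔ P → Nat.card (B ⊓ Z : Subgroup G) ≤ Nat.card (A ⊓ Z : Subgroup G)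

theorem exists_JM (hS : IsPGroup p S) (h1 : P ≤ S) (h2 : S ≤ 𝐍 P) (Z : Subgroup G) (hA : A ∈ maxEl 0 S)
    (h : ¬ A ≤ P) : ∃ A, JM p S P Z A := by
  obtain ⟨A, ⟨hA, h⟩, hm⟩ := Set.exists_min_image {A | A ∈ maxEl 0 S ∧ ¬ A ≤ P}
    (fun A => Nat.card (A ⊔ P : Subgroup G)) (Set.toFinite _) ⟨A, hA, h⟩
  obtain ⟨B, ⟨hB, e⟩, hx⟩ := Set.exists_max_image {B | B ∈ maxEl 0 S ∧ B ⊔ P = A ⊔ P}
    (fun B => Nat.card (B ⊓ Z : Subgroup G)) (Set.toFinite _) ⟨A, hA, rfl⟩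
  refine ⟨B, hS, h1, h2, hB, fun c => h (le_sup_left.trans (e.ge.trans (sup_le c le_rfl))), fun C hC c => ?_,
    fun C hC c1 c2 => hx C ⟨hC, e ▸ le_antisymm (sup_le c1 le_sup_right) (sup_le c2 le_sup_right)⟩⟩
  refine or_iff_not_imp_left.2 fun d => ?_
  rw [eq_of_le_of_card_le' (sup_le (c.trans e.le) le_sup_right) (hm C ⟨hC, d⟩), ← e]
  exact le_sup_left

/-- a critical pair in `P` -/
structure Crit (S P Q Z : Subgroup G) : Prop where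
  le : Q ≤ P
  zle : Z ≤ Q
  nQ : S ≤ 𝐍 Q
  nZ : S ≤ 𝐍 Z
  cent : Q ≤ 𝐂 Z
  comm : ⁅Q, P⁆ ≤ Z

namespace JM

variable [Fact p.Prime] (h : JM p S P Z A)
include h

theorem cent : A ≤ 𝐂 A := mx_cent h.mx

theorem dich (hV : V ≤ P) (hc : V ≤ 𝐂 V) (hX : X ≤ 𝐂 V) (hX' : ⁅X, A⁆ ≤ V) :
    A ⊓ 𝐂 ⁅X, A⁆ ≤ P ∨ A ≤ ⁅X, A⁆ ⊔ (A ⊓ 𝐂 ⁅X, A⁆) ⊔ P :=
  (h.min _ (mx_repl h.mx (hV.trans h.le) hc hX hX') (sup_le ((hX'.trans hV).trans le_sup_right)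
    (inf_le_left.trans le_sup_left))).imp_left le_sup_right.trans

theorem quad (h1 : M ≤ P) (h2 : M ≤ 𝐂 M) (h3 : A ≤ 𝐍 M) (h4 : A ⊓ P ≤ M) : ⁅M, A⁆ ≤ 𝐂 A := by
  have a := comm_le_left h3
  have b : A ⊓ P ≤ 𝐂 ⁅M, A⁆ := h4.trans (h2.trans (Core.centralizer_anti a))
  rcases h.dich h1 h2 h2 a with c | c
  · have d := mx_self (mx_repl h.mx (h1.trans h.le) h2 h2 a) (h1.trans h.le)
      (h2.trans (Core.centralizer_anti (sup_le a ((le_inf inf_le_left c).trans h4))))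
    have e : ⁅M, A⁆ = ⊥ := eq_bot_of_le_comm h.pS (a.trans (h1.trans h.le)) ((commutator_mono d le_rfl).trans
      ((comm_sup_le le_rfl (comm_comm_le (inf_le_left.trans h.cent)) (left_le_normalizer_comm _ _)
        (inf_le_left.trans (right_le_normalizer_comm _ _))).trans (commutator_mono le_rfl h.mx.1)))
    exact e.le.trans bot_le
  · rw [sup_right_comm, sup_eq_right.2 (a.trans h1), sup_comm] at c
    have d := Core.sup_inf_assoc_of_le_normalizer (H := A ⊓ 𝐂 ⁅M, A⁆) (K := P) (L := A)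
      (inf_le_left.trans (h.mx.1.trans h.nP)) inf_le_left
    exact le_cent_symm ((le_inf c le_rfl).trans (d.le.trans (sup_le inf_le_right ((inf_comm _ _).le.trans b))))

theorem bad (c : Crit S P Q Z) (hX : X ≤ Z) (h1 : ¬ ⁅X, A⁆ ≤ 𝐂 A) : A ⊓ 𝐂 ⁅X, A⁆ ≤ P := by
  have z := c.zle.trans c.cent
  have a : ⁅X, A⁆ ≤ Z := (commutator_mono hX le_rfl).trans (comm_le_left (h.mx.1.trans c.nZ))
  refine (h.dich (c.zle.trans c.le) z (hX.trans z) a).resolve_right fun d => h1 ?_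
  have e := eq_of_le_of_card_le' (H := A ⊓ Z) (le_inf ((inf_le_inf_left _ (z.trans (Core.centralizer_anti a))).trans
    le_sup_right) inf_le_right) (h.max _ (mx_repl h.mx ((c.zle.trans c.le).trans h.le) z (hX.trans z) a)
      (sup_le ((a.trans (c.zle.trans c.le)).trans le_sup_right) (inf_le_left.trans le_sup_left)) d)
  exact ((le_inf le_sup_left a).trans (e.ge.trans inf_le_left)).trans h.cent

theorem comm_lt (hX : X ≤ S) (hn : A ≤ 𝐍 X) (h0 : X ≠ ⊥) : ⁅X, A⁆ ≠ X := fun e =>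
  h0 (eq_bot_of_le_comm h.pS hX (e.ge.trans (commutator_mono le_rfl h.mx.1)))

theorem cubic (c : Crit S P Q Z) (hU : U ≤ Z) (hV : S ≤ 𝐍 V) (h1 : ⁅U, P⁆ ≤ V) : iterCommutator U A 3 ≤ V := by
  have z := c.zle.trans c.cent
  have zS := (c.zle.trans c.le).trans h.le
  have nZ := h.mx.1.trans c.nZ
  have cz : ∀ X ≤ Z, ⁅X, A⁆ ≤ Z := fun X hX => (commutator_mono hX le_rfl).trans (comm_le_left nZ)
  refine iter_le_of_forall z nZ hU 3 V (zS.trans hV) fun x hx => ?_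
  have x0 := zpowers_le.2 (hU hx)
  have m1 := cz _ x0
  have m2 := cz _ m1
  have n2 : ⁅⁅zpowers x, A⁆, A⁆ ≤ ⁅zpowers x, A⁆ := comm_le_left (right_le_normalizer_comm _ _)
  show ⁅⁅⁅zpowers x, A⁆, A⁆, A⁆ ≤ V
  by_cases h3 : ⁅⁅zpowers x, A⁆, A⁆ ≤ 𝐂 A
  · exact comm_comm_le h3
  rw [commutator_le]
  intro m hm a ha
  obtain ⟨d, d1, d2⟩ := mx_surj h.mx zS z nZ (hU hx) (n2 hm)
  have dA := zpowers_le.2 d1
  have x1 : ⁅x, d⁆ ∈ Z := m1 (commutator_mem_commutator (mem_zpowers x) d1)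
  have step : ∀ Y L : Subgroup G, Y ≤ Z → L ≤ Z → ⁅Y, zpowers d⁆ ≤ L → ⁅⁅Y, A⁆, zpowers d⁆ ≤ ⁅L, A⁆ :=
    fun Y L a1 a2 a3 => three_le (norm_of_cent (a1.trans z) (cz _ a2)) (right_le_normalizer_comm _ _)
      (dA.trans (right_le_normalizer_comm _ _))
      (by rw [comm_eq_bot_iff'.2 (dA.trans h.cent), commutator_bot_left]; exact bot_le) (commutator_mono a3 le_rfl)
  have l1 : ⁅⁅zpowers x, A⁆, A⁆ ⊔ Z ⊓ 𝐂 A ≤ Z := sup_le m2 inf_le_left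
  have b1 : ⁅zpowers x, zpowers d⁆ ≤ ⁅⁅zpowers x, A⁆, A⁆ ⊔ Z ⊓ 𝐂 A := by
    refine KS9.comm_zpowers_le (norm_of_cent z l1 (hU hx)) (Core.le_normalizer_sup (right_le_normalizer_comm _ _)
      (Core.le_normalizer_inf nZ (Core.le_normalizer_centralizer le_normalizer)) d1) ?_
    have t : ⁅x, d⁆⁻¹ * m ∈ Z ⊓ 𝐂 A := mem_inf.2 ⟨Z.mul_mem (Z.inv_mem x1) (m2 hm), d2⟩
    have := mul_mem (mem_sup_left (T := Z ⊓ 𝐂 A) hm) (mem_sup_right (Subgroup.inv_mem _ t))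
    simpa using this
  have b2 : ⁅⁅zpowers x, A⁆, zpowers d⁆ ≤ ⁅⁅⁅zpowers x, A⁆, A⁆, A⁆ := (step _ _ x0 l1 b1).trans
    (comm_sup_le le_rfl (comm_comm_le inf_le_right) (left_le_normalizer_comm _ _)
      (norm_of_cent (inf_le_left.trans z) (cz _ m2)))
  obtain ⟨X, -, ⟨e1, e2, e3, e4⟩, e5⟩ := Core.exists_minimal_le (fun X => X ≤ Z ∧ A ≤ 𝐍 X ∧
    ⁅⁅X, A⁆, zpowers d⁆ ≤ ⁅⁅⁅X, A⁆, A⁆, A⁆ ∧ ¬ ⁅X, A⁆ ≤ 𝐂 A)
    ⟨m1, right_le_normalizer_comm _ _, step _ _ m1 (cz _ m2) b2, h3⟩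
  have e6 : ⁅⁅X, A⁆, A⁆ ≤ 𝐂 A := by_contra fun e => h.comm_lt (e1.trans zS) e2
    (fun f => e4 (by rw [f, commutator_bot_left]; exact bot_le))
    (e5 _ ⟨cz _ e1, right_le_normalizer_comm _ _, step _ _ (cz _ e1) (cz _ (cz _ (cz _ e1))) e3, e⟩ (comm_le_left e2))
  have dP : d ∈ P := h.bad c e1 e4 ⟨d1, zpowers_le.1 (comm_eq_bot_iff'.1 (le_bot_iff.1 (e3.trans (comm_comm_le e6))))⟩
  have v : ⁅x, d⁆ ∈ V := h1 (commutator_mem_commutator hx dP)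
  have e : m = ⁅x, d⁆ * (⁅x, d⁆⁻¹ * m) := by group
  rw [e, KS9.comm_mul_left_eq, commutatorElement_eq_one_iff_mul_comm.2 (d2 a ha).symm, mul_one, mul_inv_cancel, one_mul]
  exact KS9.comm_mem_of_norm v (hV (h.mx.1 ha))

theorem deg_three (c : Crit S P Q Z) (h1 : ¬ ⁅Z, A⁆ ≤ 𝐂 A) : iterCommutator Q A 3 ≤ Z := by
  have z := c.zle.trans c.cent
  have zS := (c.zle.trans c.le).trans h.le
  have nZ := h.mx.1.trans c.nZ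
  have nQ := h.mx.1.trans c.nQ
  have cz : ∀ X ≤ Z, ⁅X, A⁆ ≤ Z := fun X hX => (commutator_mono hX le_rfl).trans (comm_le_left nZ)
  obtain ⟨X, -, ⟨e1, e2, e4⟩, e5⟩ := Core.exists_minimal_le (fun X => X ≤ Z ∧ A ≤ 𝐍 X ∧ ¬ ⁅X, A⁆ ≤ 𝐂 A)
    ⟨le_rfl, nZ, h1⟩
  have e6 : ⁅⁅X, A⁆, A⁆ ≤ 𝐂 A := by_contra fun e => h.comm_lt (e1.trans zS) e2
    (fun f => e4 (by rw [f, commutator_bot_left]; exact bot_le))
    (e5 _ ⟨cz _ e1, right_le_normalizer_comm _ _, e⟩ (comm_le_left e2))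
  have hE := mx_repl h.mx zS z (e1.trans z) (cz _ e1)
  have eP : ⁅X, A⁆ ⊔ (A ⊓ 𝐂 ⁅X, A⁆) ≤ P := sup_le ((cz _ e1).trans (c.zle.trans c.le)) (h.bad c e1 e4)
  have eA : ⁅⁅X, A⁆ ⊔ (A ⊓ 𝐂 ⁅X, A⁆), A⁆ ≤ ⁅⁅X, A⁆, A⁆ := comm_sup_le le_rfl
    (comm_comm_le (inf_le_left.trans h.cent)) (left_le_normalizer_comm _ _)
    (inf_le_left.trans (right_le_normalizer_comm _ _))
  have eB : ⁅⁅X, A⁆, A⁆ ≤ ⁅X, A⁆ ⊔ (A ⊓ 𝐂 ⁅X, A⁆) :=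
    (comm_le_left (right_le_normalizer_comm _ _)).trans le_sup_left
  set E := ⁅X, A⁆ ⊔ (A ⊓ 𝐂 ⁅X, A⁆)
  have y2 : ⁅⁅X, A⁆, A⁆ ≤ Z := cz _ (cz _ e1)
  have v1 : ⁅Q, E⁆ ≤ Z := (commutator_mono le_rfl eP).trans c.comm
  have hF := mx_repl hE zS z c.cent v1
  set F := E ⊓ 𝐂 ⁅Q, E⁆
  have f1 : ⁅Q, F⁆ ≤ E := mx_self hE (((commutator_mono le_rfl inf_le_left).trans v1).trans zS)
    (three_bot ((comm_comm_le (inf_le_left.trans (mx_cent hE))).trans bot_le) (le_cent_symm inf_le_right))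
  have f2 : ⁅A, F⁆ ≤ 𝐂 Q := ((commutator_comm _ _).le.trans ((commutator_mono inf_le_left le_rfl).trans eA)).trans
    (y2.trans (le_cent_symm c.cent))
  have f3 : ⁅⁅Q, A⁆, F⁆ ≤ ⁅⁅X, A⁆, A⁆ := three_le (norm_of_cent c.cent y2) (right_le_normalizer_comm _ _)
    (norm_of_cent (inf_le_left.trans (mx_cent hE)) eB) (comm_comm_le f2) ((commutator_mono f1 le_rfl).trans eA)
  have q1 : ⁅Q, A⁆ ≤ Q := comm_le_left nQ
  have q2 : ⁅⁅Q, A⁆, A⁆ ≤ Q := (commutator_mono q1 le_rfl).trans q1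
  have f4 : ⁅⁅Q, A⁆, A⁆ ≤ 𝐂 F := three_bot (f2.trans (Core.centralizer_anti q1)) (f3.trans e6)
  have f5 := mx_self hF (q2.trans (c.le.trans h.le)) (by
    rw [Core.centralizer_sup]
    exact le_inf (q2.trans (c.cent.trans (Core.centralizer_anti v1))) f4)
  exact (commutator_mono (f5.trans (sup_le_sup v1 inf_le_left)) le_rfl).trans
    (comm_sup_le (cz _ le_rfl) (eA.trans y2) le_normalizer (hE.1.trans c.nZ))

theorem exists_M (c : Crit S P Q Z) : ∃ M, A ⊓ P ≤ M ∧ M ≤ Q ⊔ A ⊓ P ∧ M ≤ 𝐂 M ∧ A ≤ 𝐍 M ∧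
    (Q ⊔ A ⊓ P) ⊓ 𝐂 M ≤ M := by
  have n0 : A ≤ 𝐍 (A ⊓ P) := norm_of_cent h.cent inf_le_left
  obtain ⟨M, a0, ⟨a1, a2, a3⟩, a4⟩ := Core.exists_maximal_ge (fun M => M ≤ Q ⊔ A ⊓ P ∧ M ≤ 𝐂 M ∧ A ≤ 𝐍 M)
    ⟨le_sup_right, inf_le_left.trans (h.cent.trans (Core.centralizer_anti inf_le_left)), n0⟩
  refine ⟨M, a0, a1, a2, a3, by_contra fun e => ?_⟩
  have b0 : Q ⊔ A ⊓ P ≤ S := sup_le (c.le.trans h.le) (inf_le_left.trans h.mx.1)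
  obtain ⟨x, b1, b2, -, b4⟩ := exists_mem_mod (T := (Q ⊔ A ⊓ P) ⊓ 𝐂 M ⊔ A)
    (h.pS.to_le (sup_le (inf_le_left.trans b0) h.mx.1)) le_sup_left
    (sup_le (inf_le_right.trans (cent_le_norm _)) a3) (sup_le le_normalizer (Core.le_normalizer_inf
      (Core.le_normalizer_sup (h.mx.1.trans c.nQ) n0) (Core.le_normalizer_centralizer a3))) e
  have x1 : zpowers x ≤ 𝐂 M := zpowers_le.2 b1.2
  refine b2 ((a4 (M ⊔ zpowers x) ⟨sup_le a1 (zpowers_le.2 b1.1), ?_, le_normalizer_of_comm_le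
    ((comm_sup_le (comm_le_left a3) (KS9.comm_zpowers_left_le (cent_le_norm _ b1.2) fun a ha => b4 a (mem_sup_right ha))
      le_normalizer (x1.trans (cent_le_norm _))).trans le_sup_left)⟩ le_sup_left).le (mem_sup_right (mem_zpowers x)))
  rw [Core.centralizer_sup]
  exact le_inf (sup_le a2 x1) (sup_le (le_cent_symm x1) (isMulCommutative_iff_le_cent.1 inferInstance))

theorem two_cent (c : Crit S P Q Z) (h1 : ⁅Z, A⁆ ≤ 𝐂 A) : ⁅⁅Q, A⁆, A⁆ ≤ 𝐂 (A ⊓ P : Subgroup G) := by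
  have a0 : ⁅A, A ⊓ P⁆ = ⊥ := comm_eq_bot_iff'.2 (inf_le_left.trans h.cent)
  have a1 : ⁅⁅Q, A⁆, A ⊓ P⁆ ≤ ⁅Z, A⁆ := three_le (norm_of_cent c.cent (comm_le_left (h.mx.1.trans c.nZ)))
    (right_le_normalizer_comm _ _) (inf_le_left.trans (right_le_normalizer_comm _ _))
    (by rw [a0, commutator_bot_left]; exact bot_le)
    (commutator_mono ((commutator_mono le_rfl inf_le_right).trans c.comm) le_rfl)
  exact three_bot (a0.le.trans bot_le) (a1.trans h1)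

theorem le_M (c : Crit S P Q Z) (a0 : A ⊓ P ≤ M) (a1 : M ≤ Q ⊔ A ⊓ P) (a4 : (Q ⊔ A ⊓ P) ⊓ 𝐂 M ≤ M) (h1 : X ≤ Q)
    (h2 : X ≤ 𝐂 (A ⊓ P : Subgroup G)) (h3 : X ≤ 𝐂 (Q ⊓ M : Subgroup G)) : X ≤ M := by
  have d := Core.sup_inf_assoc_of_le_normalizer (H := A ⊓ P) (K := Q) (L := M)
    (inf_le_left.trans (h.mx.1.trans c.nQ)) a0
  rw [inf_eq_right.2 (a1.trans (sup_comm _ _).le)] at d
  refine (le_inf (h1.trans le_sup_left) ?_).trans a4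
  rw [d, Core.centralizer_sup]
  exact le_inf h2 h3

theorem three_le_M (c : Crit S P Q Z) (h1 : ⁅Z, A⁆ ≤ 𝐂 A) (a0 : A ⊓ P ≤ M) (a1 : M ≤ Q ⊔ A ⊓ P) (a2 : M ≤ 𝐂 M)
    (a3 : A ≤ 𝐍 M) (a4 : (Q ⊔ A ⊓ P) ⊓ 𝐂 M ≤ M) : iterCommutator Q A 3 ≤ M := by
  have nQ := h.mx.1.trans c.nQ
  have mP : M ≤ P := a1.trans (sup_le c.le inf_le_right)
  have q1 : ⁅Q, A⁆ ≤ Q := comm_le_left nQ
  have q2 : ⁅⁅Q, A⁆, A⁆ ≤ Q := (commutator_mono q1 le_rfl).trans q1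
  have m1 : ⁅Q ⊓ M, A⁆ ≤ 𝐂 A := (commutator_mono inf_le_right le_rfl).trans (h.quad mP a2 a3 a0)
  have m2 : ⁅Q ⊓ M, A⁆ ≤ Q := (commutator_mono inf_le_left le_rfl).trans q1
  have m3 : ⁅A, ⁅Q ⊓ M, A⁆⁆ = ⊥ := comm_eq_bot_iff'.2 m1
  have nD : Q ≤ 𝐍 ⁅Z, A⁆ := norm_of_cent c.cent (comm_le_left (h.mx.1.trans c.nZ))
  have b1 : ⁅⁅Q, A⁆, ⁅Q ⊓ M, A⁆⁆ ≤ ⁅Z, A⁆ := three_le nD (right_le_normalizer_comm _ _) (m2.trans nD)
    (by rw [m3, commutator_bot_left]; exact bot_le)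
    (commutator_mono ((commutator_mono le_rfl (m2.trans c.le)).trans c.comm) le_rfl)
  have b2 : ⁅⁅Q, A⁆, A⁆ ≤ 𝐂 ⁅Q ⊓ M, A⁆ := three_bot (m3.le.trans bot_le) (b1.trans h1)
  have b3 : ⁅⁅⁅Q, A⁆, A⁆, Q ⊓ M⁆ ≤ ⁅Z, A⁆ := three_le (q1.trans nD) (right_le_normalizer_comm _ _)
    (inf_le_left.trans nD) (by rw [commutator_comm A, commutator_comm]; exact b1)
    (commutator_mono ((commutator_mono q1 (inf_le_left.trans c.le)).trans c.comm) le_rfl)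
  have q3 : ⁅⁅⁅Q, A⁆, A⁆, A⁆ ≤ ⁅⁅Q, A⁆, A⁆ := comm_le_left (right_le_normalizer_comm _ _)
  exact h.le_M c a0 a1 a4 (q3.trans q2) (q3.trans (h.two_cent c h1))
    (three_bot (by rw [commutator_comm]; exact le_cent_symm b2) (b3.trans h1))

theorem deg_five (c : Crit S P Q Z) (h1 : ⁅Z, A⁆ ≤ 𝐂 A) : iterCommutator Q A 5 = ⊥ := by
  obtain ⟨M, a0, a1, a2, a3, a4⟩ := h.exists_M c
  exact comm_eq_bot_iff.2 ((commutator_mono (h.three_le_M c h1 a0 a1 a2 a3 a4) le_rfl).trans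
    (h.quad (a1.trans (sup_le c.le inf_le_right)) a2 a3 a0))

theorem deg_four (c : Crit S P Q Z) (h1 : ⁅Z, A⁆ ≤ 𝐂 A) (h2 : (A ⊓ P).relIndex A ≤ p) :
    ∃ K ≤ A, ¬ K ≤ P ∧ iterCommutator Q K 4 ≤ Z := by
  obtain ⟨M, a0, a1, a2, a3, a4⟩ := h.exists_M c
  have mP : M ≤ P := a1.trans (sup_le c.le inf_le_right)
  have mq := h.quad mP a2 a3 a0
  have nQ := h.mx.1.trans c.nQ
  have q1 : ⁅Q, A⁆ ≤ Q := comm_le_left nQ
  by_cases hK : A ⊓ 𝐂 ⁅Q, Q⁆ ≤ P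
  · refine ⟨A, le_rfl, h.nle, ?_⟩
    have d0 : ⁅Q, Q⁆ ≤ Z := (commutator_mono le_rfl c.le).trans c.comm
    have d1 : ⁅Q, Q⁆ ≤ 𝐂 P := three_bot (c.comm.trans (le_cent_symm c.cent)) (c.comm.trans (le_cent_symm c.cent))
    have d2 : ⁅Q, Q⁆ ≤ M := (le_inf ((d0.trans c.zle).trans le_sup_left) (d1.trans (Core.centralizer_anti mP))).trans a4
    have d3 : A ⊓ P < A ⊓ P ⊔ ⁅Q, Q⁆ := left_lt_sup.2 fun e =>
      h.nle ((le_inf le_rfl (le_cent_symm ((e.trans inf_le_left).trans h.cent))).trans hK)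
    have d4 : A ⊓ P ⊔ ⁅Q, Q⁆ ≤ M := sup_le a0 d2
    obtain ⟨k, hk⟩ := (h.pS.to_le (d4.trans (mP.trans h.le))).index ((A ⊓ P).subgroupOf (A ⊓ P ⊔ ⁅Q, Q⁆))
    have d5 : p ≤ (A ⊓ P).relIndex (A ⊓ P ⊔ ⁅Q, Q⁆) := by
      rw [relIndex, hk]
      refine Nat.le_self_pow (fun e => d3.not_ge ?_) p
      rw [e, pow_zero, index_eq_one, subgroupOf_eq_top] at hk
      exact hk
    have d6 : A ⊓ P ⊔ ⁅Q, Q⁆ = M := by
      refine eq_of_le_of_card_le' d4 ((h.mx.2.2 M (mP.trans h.le)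
        (elAb_zero.2 (isMulCommutative_iff_le_cent.2 a2))).trans ?_)
      rw [← Core.card_mul_relIndex d3.le, ← Core.card_mul_relIndex (inf_le_left : A ⊓ P ≤ A)]
      exact Nat.mul_le_mul_left _ (h2.trans d5)
    refine (commutator_mono ((h.three_le_M c h1 a0 a1 a2 a3 a4).trans d6.ge) le_rfl).trans
      (comm_sup_le (comm_comm_le (inf_le_left.trans h.cent)) ((commutator_mono d0 le_rfl).trans
        (comm_le_left (h.mx.1.trans c.nZ))) (inf_le_left.trans (h.mx.1.trans c.nZ)) (d0.trans le_normalizer))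
  · refine ⟨_, inf_le_left, hK, ?_⟩
    set K := A ⊓ 𝐂 ⁅Q, Q⁆
    have k1 : K ≤ A := inf_le_left
    have k2 : ⁅Q, Q⁆ ≤ 𝐂 K := le_cent_symm inf_le_right
    have k3 : ⁅Q, K⁆ ≤ Q := (commutator_mono le_rfl k1).trans q1
    have m1 : ⁅Q ⊓ M, K⁆ ≤ 𝐂 K := ((commutator_mono inf_le_right k1).trans mq).trans (Core.centralizer_anti k1)
    have m2 : ⁅Q ⊓ M, K⁆ ≤ Q := (commutator_mono inf_le_left le_rfl).trans k3
    have b1 : ⁅Q, K⁆ ≤ 𝐂 ⁅Q ⊓ M, K⁆ := three_bot ((comm_eq_bot_iff'.2 m1).le.trans bot_le)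
      ((commutator_mono le_rfl m2).trans k2)
    have b2 : ⁅⁅Q, K⁆, K⁆ ≤ M := h.le_M c a0 a1 a4 ((commutator_mono k3 le_rfl).trans k3)
      ((commutator_mono (commutator_mono le_rfl k1) k1).trans (h.two_cent c h1))
      (three_bot (by rw [commutator_comm]; exact le_cent_symm b1) ((commutator_mono k3 inf_le_left).trans k2))
    exact comm_comm_le (((commutator_mono b2 k1).trans mq).trans (Core.centralizer_anti k1))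

end JM

end JM

end Cfsg.Lib.Glaub
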