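import Cfsg.Agent.Lib.Glaub.JDeg
import Cfsg.Agent.Lib.Coprime.Generation
import Cfsg.Agent.Lib.Transfer.HallWielandt

/-!
# Glaub/JTr: control of transfer and of `p`-nilpotence by the Thompson subgroup
-/

set_option autoImplicit false
set_option linter.unusedSectionVars false

namespace Cfsg.Lib.Glaub

open Cfsg Subgroup Cfsg.Lib.Amalg Cfsg.Lib.Transfer Cfsg.Lib.Fus2
open scoped commutatorElement

universe u

section Gen

variable {G : Type*} [Group G] [Finite G] {p : ℕ} [hp : Fact p.Prime] {A P Q S T U V : Subgroup G} {g : G}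

theorem crit_of [P.Normal] [Q.Normal] (h1 : Q ≤ P) (h2 : ⁅P, Q⁆ ≤ Q ⊓ 𝐂 Q) : Crit S P Q (Q ⊓ 𝐂 Q) :=
  ⟨h1, inf_le_left, le_normalizer_of_normal, le_normalizer_of_normal, le_cent_symm inf_le_right,
    (commutator_comm _ _).le.trans h2⟩

theorem JM.chief_three [P.Normal] [Q.Normal] (h : JM p S P (Q ⊓ 𝐂 Q) A) (c : Crit S P Q (Q ⊓ 𝐂 Q))
    (h1 : ¬ ⁅Q ⊓ 𝐂 Q, A⁆ ≤ 𝐂 A) (hc : IsChiefFactor U V) (hU : U ≤ Q) : iterCommutator U A 3 ≤ V := by
  have := hc.2.1
  have := hc.2.2.1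
  have pP := h.pS.to_le h.le
  rcases chief_le_or hc (Q ⊓ 𝐂 Q) with d | d
  · exact (le_inf (iter_le_of_le (V := U) (i := 0) le_rfl (by omega))
      ((iterCommutator_mono hU le_rfl 3).trans (h.deg_three c h1))).trans d
  · exact (iter_le_sup d 3).trans (sup_le le_rfl (h.cubic c inf_le_right le_normalizer_of_normal
      ((commutator_mono inf_le_left le_rfl).trans (chief_comm_p hc (pP.to_le (hU.trans c.le)) pP))))

theorem jA_deg (hS : Syl p S ⊤) (h : ¬ thompsonSubgroupOf 0 S ≤ pCore p G) : ∃ g ∈ S, g ∉ pCore p G ∧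
    ∀ U V, IsChiefFactor U V → U ≤ pCore p G → iterCommutator U (zpowers g) 6 ≤ V := by
  have pT := Core.isPGroup_pCore p G
  obtain ⟨Q, a1, _, a2, a3⟩ := exists_crit pT
  simp only [thompsonOf_le_iff, not_forall] at h
  obtain ⟨A, hA, hA'⟩ := h
  obtain ⟨A, h⟩ := exists_JM hS.isPGroup hS.pCore_le le_normalizer_of_normal (Q ⊓ 𝐂 Q) hA hA'
  have c := crit_of (S := S) a1 a2
  obtain ⟨g, b1, b2⟩ := SetLike.not_le_iff_exists.1 h.nle
  refine ⟨g, h.mx.1 b1, b2, fun U V d1 d2 => (iterCommutator_mono le_rfl (zpowers_le.2 b1) 6).trans ?_⟩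
  have := d1.2.2.1
  by_cases e : ⁅Q ⊓ 𝐂 Q, A⁆ ≤ 𝐂 A
  · exact crit_iter (i := 5) (j := 2) pT a2 a3 a1 (by omega)
      (fun U V _ d => (iterCommutator_mono d le_rfl 5).trans ((h.deg_five c e).le.trans bot_le))
      (fun U V _ d => (iterCommutator_mono d le_rfl 2).trans (comm_comm_le e)) d1 d2
  · exact iter_le_of_le (crit_iter (i := 3) (j := 3) pT a2 a3 a1 (by omega) (fun U V d3 d => h.chief_three c e d3 d)
      (fun U V d3 d => h.chief_three c e d3 (d.trans inf_le_left)) d1 d2) (by omega)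

theorem jA_normal_of_le (hS : Syl p S ⊤) (h : thompsonSubgroupOf 0 S ≤ pCore p G) :
    𝐍 (thompsonSubgroupOf 0 S) = ⊤ := by
  rw [← thompsonOf_eq_of_le h hS.pCore_le, eq_top_iff]
  exact le_normalizer_of_normal.trans (normalizer_le_normalizer_thompsonOf _)

theorem chief_pow_le (hc : IsChiefFactor U V) (hU : IsPGroup p U) (h : iterCommutator U (zpowers g) p ≤ V) :
    ⁅U, zpowers (g ^ p)⁆ ≤ V := by
  have := hc.2.1
  obtain ⟨W, _, _, ρ, φ, a1, a2, a3, a4, a5, a6⟩ := exists_chief_rep hc hU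
  rw [← a6, zpowers_le, MonoidHom.mem_ker]
  ext w
  obtain ⟨x, hx, rfl⟩ := a2 w
  have n : g⁻¹ ∈ 𝐍 U := le_normalizer_of_normal (mem_top _)
  have b1 := prod_conj_eq_engel' a3 (fun _ _ => a1 _) (z := g⁻¹) n (engel_mem n hx 1)
  have d := h (engel_mem_iter (Subgroup.inv_mem _ (mem_zpowers g)) hx p)
  rw [← Function.iterate_add_apply, Nat.sub_add_cancel hp.out.one_le, (a4 _ (hc.1.le d)).2 d] at b1
  have b2 : φ x⁻¹ = (φ x)⁻¹ := by
    rw [eq_inv_iff_mul_eq_one, ← a3 _ (U.inv_mem hx) _ hx, inv_mul_cancel]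
    exact (a4 _ U.one_mem).2 V.one_mem
  have b3 : φ ((engel g⁻¹)^[1] x) = ρ g (φ x) / φ x := by
    rw [a5 g x hx, div_eq_mul_inv, mul_comm, ← b2, ← a3 _ (U.inv_mem hx) _ (this.conj_mem _ hx g)]
    simp [engel, mul_assoc]
  have b4 : ∀ i ∈ Finset.range p, φ ((g⁻¹ ^ i)⁻¹ * (engel g⁻¹)^[1] x * g⁻¹ ^ i) =
      ρ (g ^ (i + 1)) (φ x) / ρ (g ^ i) (φ x) := fun i _ => by
    rw [inv_pow, inv_inv, ← a5 _ _ (engel_mem n hx 1), b3, map_div, pow_succ, map_mul, MulAut.mul_apply]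
  rw [Finset.prod_congr rfl b4, Finset.prod_range_div (fun i => ρ (g ^ i) (φ x)), div_eq_one] at b1
  simpa using b1

theorem MinC.cyc (h : MinC p T) (h1 : ⁅T, T⁆ ≤ pCore p G) (hA : A ≤ T) (h2 : ∀ a ∈ A, a ^ p ∈ pCore p G) :
    (A ⊓ pCore p G).relIndex A ≤ p := by
  have hπ := QuotientGroup.mk'_surjective (pCore p G)
  set π := QuotientGroup.mk' (pCore p G)
  obtain ⟨b2, b3⟩ := h.bar hπ (QuotientGroup.ker_mk' _).ge
  have := resOf_normal (p := p) (⊤ : Subgroup (G ⧸ pCore p G))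
  set L := resOf p (⊤ : Subgroup (G ⧸ pCore p G))
  have c := h.syl.map_top hπ
  have c1 : T.map π ≤ 𝐂 (T.map π) := comm_eq_bot_iff.1 (by rw [← map_commutator, Core.map_mk'_eq_bot_iff]; exact h1)
  have c2 := map_mono (f := π) hA
  have : IsMulCommutative (A.map π) := isMulCommutative_of_le_cent c2 (c2.trans c1)
  have c3 : T ⊓ pCore p G = pCore p G := inf_eq_right.2 h.syl.pCore_le
  have c4 : ∀ K ≤ L, T.map π ≤ 𝐍 K → K = ⊥ ∨ K = L := fun K k1 k2 => by
    rcases h.coatom.le_iff.1 (map_le_iff_le_comap.1 (le_sup_right : T.map π ≤ K ⊔ T.map π)) with e | e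
    · right
      have e1 : K ⊔ T.map π = ⊤ := by
        rw [← map_comap_eq_self_of_surjective hπ (K ⊔ T.map π), e, map_top_of_surjective _ hπ]
      rw [← top_inf_eq L, ← e1, Core.sup_inf_assoc_of_le_normalizer' k2 k1, b2.disjoint c.isPGroup, sup_bot_eq]
    · left
      refine eq_bot_of_pPrime_le (Core.coprime_of_le b2.coprime k1) c.isPGroup ?_
      rw [← e, map_comap_eq_self_of_surjective hπ]
      exact le_sup_left
  have c5 : L ≠ ⊥ := fun e => h.coatom.1 (by
    have := c.sylowIn.resOf_sup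
    rw [show resOf p ⊤ = ⊥ from e, bot_sup_eq] at this
    rw [← sup_eq_right.2 h.syl.pCore_le, ← QuotientGroup.comap_map_mk', this, comap_top])
  have c6 : IsCyclic (A.map π) := by
    by_contra hn
    obtain ⟨a, a1, a2, a3⟩ := Coprime.exists_centralizer_ne_bot hn le_normalizer_of_normal
      (Core.coprime_card_of_isPGroup hp.out (c.isPGroup.to_le c2) b2.coprime) c5
    rw [← Core.centralizer_zpowers] at a3
    have z := zpowers_le.2 (c2 a1)
    have e := (c4 _ inf_le_left (Core.le_normalizer_inf le_normalizer_of_normal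
      (Core.le_normalizer_centralizer (norm_of_cent c1 z)))).resolve_left a3
    exact a2 (zpowers_eq_bot.1 (npc_bar_centralizer c.isPGroup c.sylowIn.resOf_sup Core.pCore_quotient_pCore z
      (le_cent_symm (e.ge.trans inf_le_right))))
  rw [inf_comm, inf_relIndex_right, ← PGrp.card_map_mk']
  refine PGrp.card_le_of_isCyclic_of_pow c6 ?_
  rintro _ ⟨a, ha, rfl⟩
  rw [← map_pow]
  exact (QuotientGroup.eq_one_iff _).2 (h2 a ha)

theorem MinC.le_of_ab (h : MinC p T) (h5 : 5 ≤ p) (h1 : ⁅T, T⁆ ≤ pCore p G) (hA : A ∈ maxEl 0 T) :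
    A ≤ pCore p G := by
  by_contra hA'
  have pT := Core.isPGroup_pCore p G
  obtain ⟨Q, a1, _, a2, a3⟩ := exists_crit pT
  obtain ⟨A, j⟩ := exists_JM h.syl.isPGroup h.syl.pCore_le le_normalizer_of_normal (Q ⊓ 𝐂 Q) hA hA'
  have c := crit_of (S := T) a1 a2
  have k0 : ∀ g, (∀ U V, IsChiefFactor U V → U ≤ Q → ⁅U, zpowers g⁆ ≤ V) → g ∈ pCore p G := fun g hg => by
    by_contra e
    obtain ⟨U, V, d1, d2, d3⟩ := exists_chief_res (B := zpowers g) (pT.to_le a1)
      (not_res_le (cent_crit h.charP a3) (mt zpowers_le.1 e))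
    exact d3 (hg U V d1 d2)
  have k1 : ∀ K ≤ A, (∀ U V, IsChiefFactor U V → U ≤ Q → iterCommutator U K 4 ≤ V) → K ≤ pCore p G :=
    fun K hK b g hg => k0 g fun U V d1 d2 => have := d1.2.2.1
      h.engel (j.mx.1 (hK hg)) d1 (d2.trans a1) (iter_le_of_le ((iterCommutator_mono le_rfl (zpowers_le.2 hg) 4).trans
        (b U V d1 d2)) (by omega))
  by_cases e : ⁅Q ⊓ 𝐂 Q, A⁆ ≤ 𝐂 A
  · obtain ⟨K, b1, b2, b3⟩ := j.deg_four c e (h.cyc h1 j.mx.1 fun a ha => k0 _ fun U V d1 d2 => have := d1.2.2.1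
      chief_pow_le d1 (pT.to_le (d2.trans a1)) (iter_le_of_le ((iterCommutator_mono d2 (zpowers_le.2 ha) 5).trans
        ((j.deg_five c e).le.trans bot_le)) h5))
    exact b2 (k1 K b1 fun U V d1 d2 => chief_iter (j := 2) d1 d2 b3
      (le_bot_iff.1 ((iterCommutator_mono le_rfl b1 2).trans (comm_comm_le e))) le_rfl (by omega))
  · exact j.nle (k1 A le_rfl fun U V d1 d2 => have := d1.2.2.1
      iter_le_of_le (j.chief_three c e d1 d2) (by omega))

theorem MinC.jA_le (h : MinC p T) (h5 : 5 ≤ p) : thompsonSubgroupOf 0 T ≤ pCore p G := by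
  refine thompsonOf_le_iff.2 fun A hA => by_contra fun hA' => ?_
  have hπ := QuotientGroup.mk'_surjective (pCore p G)
  set π := QuotientGroup.mk' (pCore p G)
  obtain ⟨b2, b3⟩ := h.bar hπ (QuotientGroup.ker_mk' _).ge
  have := resOf_normal (p := p) (⊤ : Subgroup (G ⧸ pCore p G))
  set L := resOf p (⊤ : Subgroup (G ⧸ pCore p G))
  have c := h.syl.map_top hπ
  have c2 := map_mono (f := π) hA.1
  have pA := c.isPGroup.to_le c2
  have c3 : ¬ A.map π ≤ 𝐂 L := fun e => hA' ((Core.map_mk'_eq_bot_iff _ _).1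
    (npc_bar_centralizer c.isPGroup c.sylowIn.resOf_sup Core.pCore_quotient_pCore c2 e))
  obtain ⟨K, -, ⟨k1, k2, k3⟩, k4⟩ := Core.exists_minimal_le (fun K => K ≤ L ∧ A.map π ≤ 𝐍 K ∧ ¬ A.map π ≤ 𝐂 K)
    ⟨le_rfl, le_normalizer_of_normal, c3⟩
  have := isMulCommutative_of_le' b3 k1
  have kc := Core.coprime_of_le b2.coprime k1
  have cop := Core.coprime_card_of_isPGroup hp.out pA kc
  have k5 : ⁅K, A.map π⁆ = K := k4 _ ⟨(comm_le_left k2).trans k1, right_le_normalizer_comm _ _, fun e => k3 (by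
    rw [← comm_eq_bot_iff', Coprime.commutator_commutator_eq k2 cop, comm_eq_bot_iff'] at e; exact e)⟩ (comm_le_left k2)
  have k6 : K ⊓ 𝐂 (A.map π) = ⊥ := by
    have := Coprime.centralizer_inf_commutator_eq_bot k2 cop
    rwa [k5, inf_eq_left.2 inf_le_left] at this
  set H := (K ⊔ A.map π).comap π
  set R := (A.map π).comap π
  have r0 : R ≤ H := comap_mono le_sup_right
  have r1 : R = pCore p G ⊔ A := QuotientGroup.comap_map_mk' _ _
  have r2 : R ≤ T := r1.le.trans (sup_le h.syl.pCore_le hA.1)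
  have r3 : pCore p G ≤ R := le_sup_left.trans r1.ge
  have r4 : A ≤ R := le_sup_right.trans r1.ge
  have mH : H.map π = K ⊔ A.map π := map_comap_eq_self_of_surjective hπ _
  have mx : ∀ X, R ≤ X → X ≤ H → X = R ∨ X = H := fun X x1 x2 => by
    have x3 : (X.map π).comap π = X := by rw [QuotientGroup.comap_map_mk', sup_eq_right.2 (r3.trans x1)]
    have x4 : A.map π ≤ X.map π := map_mono (r4.trans x1)
    have x5 : X.map π = A.map π ⊔ K ⊓ X.map π := by
      rw [← Core.sup_inf_assoc_of_le_normalizer k2 x4, sup_comm, ← mH, inf_eq_right.2 (map_mono x2)]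
    by_cases e : A.map π ≤ 𝐂 (K ⊓ X.map π : Subgroup _)
    · left
      rw [← x3, x5, le_bot_iff.1 ((le_inf inf_le_left (le_cent_symm e)).trans k6.le), sup_bot_eq]
    · right
      rw [← x3, x5, k4 _ ⟨inf_le_left.trans k1, Core.le_normalizer_inf k2 (x4.trans le_normalizer), e⟩ inf_le_left,
        sup_comm]
  have nH : ¬ A ≤ pCoreOf p H := fun e => k3 (comm_eq_bot_iff'.1 (eq_bot_of_pPrime_le
    (Core.coprime_of_le kc (comm_le_left k2)) (op_isPGroup (H.map π))
    ((commutator_mono le_rfl ((map_mono e).trans (map_op_le π H))).trans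
      (comm_le_right ((le_sup_left.trans mH.ge).trans (le_norm_op _))))))
  have pR := h.syl.isPGroup.to_le r2
  have ne : R ≠ H := fun e => nH (r4.trans (e.le.trans (op_eq_self (e ▸ pR)).ge))
  have sy : Syl p R H := ⟨r0, pR, fun U u1 u2 u3 => (mx U u1 u2).resolve_right fun e =>
    nH (r4.trans (r0.trans (op_eq_self (e ▸ u3)).ge))⟩
  have pH : pCore p G ≤ pCoreOf p H := pCore_le_op (r3.trans r0)
  have mc : MinC p (R.subgroupOf H) := by
    refine ⟨sy.subgroupOf_top, charP_top.2 (charP_iff.1 (h.charP.of_le (op_top (p := p) (G := G) ▸ r3.trans r0) le_top)),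
      ?_, fun e => ne (le_antisymm r0 (subgroupOf_eq_top.1 e)), fun X hX => ?_⟩
    · have kl : (π.comp H.subtype).ker ≤ (pCore p H).comap (MonoidHom.id H) := fun x hx =>
        mem_op_iff.1 (pH ((QuotientGroup.eq_one_iff _).1 hx))
      refine hasNormalPComplement_of_surjective (hasNormalPComplement_of_injective h.quot
        (QuotientGroup.kerLift (π.comp H.subtype)) (QuotientGroup.kerLift_injective _))
        (QuotientGroup.map _ _ (MonoidHom.id H) kl) fun y => ?_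
      obtain ⟨y, rfl⟩ := QuotientGroup.mk_surjective y
      exact ⟨QuotientGroup.mk y, rfl⟩
    · have x1 : R ≤ X.map H.subtype := (map_subgroupOf_of_le r0).ge.trans (map_mono hX.le)
      rcases mx _ x1 (map_subtype_le X) with e | e
      · exact absurd (by rw [← e]; exact (comap_map_eq_self_of_injective H.subtype_injective X).symm) hX.ne'
      · rw [← comap_map_eq_self_of_injective H.subtype_injective X, e]
        exact subgroupOf_self H
  refine nH ((le_op_iff (r4.trans r0)).2 (mc.le_of_ab h5 ?_ ?_))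
  · rw [← map_le_op_iff, map_commutator, map_subgroupOf_of_le r0]
    refine le_trans ?_ pH
    rw [← Core.map_mk'_eq_bot_iff, map_commutator, map_comap_eq_self_of_surjective hπ, ← map_commutator,
      comm_eq_bot_iff.2 (mx_cent hA), Subgroup.map_bot]
  · rw [← map_mem_maxEl_iff H.subtype_injective, map_subgroupOf_of_le r0, map_subgroupOf_of_le (r4.trans r0)]
    exact mem_maxEl_of_le hA r4 r2

end Gen

section Main

variable {G : Type u} [Group G] [Finite G] {p : ℕ} [hp : Fact p.Prime] {S : Subgroup G}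

theorem jA_tf (h7 : 7 ≤ p) (hS : Syl p S ⊤) :
    S ⊓ ⁅(⊤ : Subgroup G), (⊤ : Subgroup G)⁆ ≤ ⁅𝐍 (thompsonSubgroupOf 0 S), 𝐍 (thompsonSubgroupOf 0 S)⁆ := by
  have := tf_of_engel (G := G) (Φ := .one (fct_jF (p := p))) rfl ⟨_, rfl⟩ (fun K R _ T b1 _ b3 => by
    obtain ⟨g, a1, a2, a3⟩ := jA_deg b1 fun e => b3 (by rw [subs_one, amb_jF]; exact (jA_normal_of_le b1 e).symm)
    exact ⟨g, a1, a2, fun U V c d => have := c.2.2.1; iter_le_of_le (a3 U V c d) (by omega)⟩) G S hS (involves_refl G)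
  rwa [subs_one, amb_jF, tf_singleton] at this

theorem jA_pnil_iff (h5 : 5 ≤ p) (hS : Syl p S ⊤) :
    PNil p (⊤ : Subgroup G) ↔ resOf p (𝐍 (thompsonSubgroupOf 0 S)) ≤ 𝐂 (thompsonSubgroupOf 0 S) :=
  ⟨fun c _ hg => c.mem_centralizer (hS.isPGroup.to_le (thompsonOf_le S)) le_top (resOf_mono le_top hg) (resOf_le _ hg),
    fun c => npc_of_min (G := G) (nt_one (fct_jF (p := p))) (fun H _ _ T _ b => by
      rw [subs_one, amb_jF]; exact (jA_normal_of_le b.syl (b.jA_le h5)).symm) G S hS (involves_refl G) (by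
      rw [subs_one, amb_jF]
      rintro _ rfl
      exact pnil_of_res_le (hS.of_le (le_normalizer_thompsonOf S) le_top) le_rfl cent_jA_le c)⟩

theorem quot_res_equiv (P : Sylow p G) {H : Subgroup G} (h1 : (P : Subgroup G) ≤ H)
    (h2 : (P : Subgroup G) ⊓ ⁅(⊤ : Subgroup G), (⊤ : Subgroup G)⁆ ≤ ⁅H, H⁆) [(pResidual p G).Normal]
    [(pResidual p H).Normal] : Nonempty (G ⧸ pResidual p G ≃* H ⧸ pResidual p H) := by
  have a1 : (P : Subgroup G) ⊓ pResidual p G ≤ resOf p H := by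
    by_contra e
    obtain ⟨χ, u, u1, u2⟩ := exists_hom_of_not_le_resOf P h1 e
    have b := inf_pResidual_le_focalSubgroup P u1
    rw [← commutator_inf_eq_focalSubgroup] at b
    have c := h2 ⟨b.2, b.1⟩
    rw [← map_subtype_commutator] at c
    obtain ⟨v, v1, v2⟩ := c
    exact u2 (Subtype.ext v2 ▸ Abelianization.commutator_subset_ker χ v1)
  have a2 := resOf_eq_of_inf_le P h1 a1
  let f := (QuotientGroup.mk' (pResidual p G)).comp H.subtype
  have a3 : Function.Surjective f := fun y => by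
    obtain ⟨y, rfl⟩ := QuotientGroup.mk_surjective y
    obtain ⟨w, hw, u, hu, rfl⟩ := (sylowIn_top P).exists_resOf_mul (mem_top y)
    rw [resOf_top] at hw
    exact ⟨⟨u, h1 hu⟩, by
      rw [QuotientGroup.mk_mul, (QuotientGroup.eq_one_iff w).2 hw, one_mul]; rfl⟩
  have a4 : f.ker = pResidual p H := by
    rw [← comap_map_eq_self_of_injective H.subtype_injective (pResidual p H), map_pResidual, a2]
    ext x
    simp [f, mem_subgroupOf]
  exact ⟨((QuotientGroup.quotientKerEquivOfSurjective f a3).symm).trans (QuotientGroup.quotientMulEquivOfEq a4)⟩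

end Main

end Cfsg.Lib.Glaub
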