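import Cfsg.Agent.Lib.JTW.Main
import Cfsg.Agent.Lib.SF.JR3
import Cfsg.Agent.Lib.Glaub.S4F
import Cfsg.Agent.S1169

/-! The `S₃`-free simple groups, unconditionally. -/

set_option autoImplicit false

namespace Cfsg.Lib.Glaub
open Cfsg.Lib.JTW

universe u

theorem jr3 : JR3.{u} := SF.JR3.jrs fun G _ _ _ A t E K h => by
  obtain ⟨F, _, _, h5, j⟩ := jg_of_jr h
  rcases j.concl with ⟨h, -⟩ | ⟨h, -⟩ | ⟨⟨m, -, h⟩, h'⟩
  · omega
  · obtain ⟨e⟩ := j.iso
    refine .inl ((Fus2.involves_congr_right e).2 (SF.psl2_S3 fun h3 => ?_))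
    have h4 := FiniteField.cast_card_eq_zero F
    rw [h] at h4
    exact one_ne_zero (α := F) (by push_cast at h4; linear_combination 2 * h3 - h4)
  · exact .inr (h' ▸ h ▸ ((dvd_pow_self 3 (by omega)).pow two_ne_zero).mul_right _)

theorem ks : KS3.{u} := ks3 (fun _ _ _ _ S A => Cfsg.Agent.S1169.result S A) jr3

end Cfsg.Lib.Glaub
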