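import Cfsg.Agent.Lib.Quad.Roots
import Cfsg.Agent.Lib.Root.SL2
import Cfsg.Agent.Lib.FT.Cor
import Cfsg.Agent.Lib.Coprime.Basic

/-!
# Glaub/QC: coprime operators on a group with quadratic elements fix a copy of `SL₂(p)`
-/

set_option autoImplicit false
set_option linter.unusedSectionVars false

namespace Cfsg.Lib.Glaub.QC

open Module LinearMap Cfsg.Lib.Quad Cfsg.Lib.Root Cfsg.Lib.Transfer Finset

theorem card_le_twice {α β : Type*} [DecidableEq α] [DecidableEq β] [Neg α] (s : Finset α) (f : α → β)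
    (h : ∀ x ∈ s, ∀ y ∈ s, f x = f y → x = y ∨ x = -y) : #s ≤ 2 * #(s.image f) :=
  card_le_mul_card_image s 2 fun b hb => by
    obtain ⟨y, hy, rfl⟩ := mem_image.1 hb
    exact (card_le_card (t := {y, -y}) fun x hx => by simpa using h x (mem_filter.1 hx).1 y hy (mem_filter.1 hx).2).trans card_le_two

theorem card_lt_two {α β : Type*} [DecidableEq α] [DecidableEq β] [SubtractionMonoid α] (s : Finset α) (f : α → β) (h0 : 0 ∈ s)
    (h : ∀ x ∈ s, ∀ y ∈ s, f x = f y → x = y ∨ x = -y) : #s < 2 * #(s.image f) := by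
  have h1 := card_le_twice (s.erase 0) f fun x hx y hy => h x (mem_of_mem_erase hx) y (mem_of_mem_erase hy)
  have h2 : #((s.erase 0).image f) < #(s.image f) := card_lt_card ⟨image_subset_image (erase_subset _ _), fun c => by
    obtain ⟨x, hx, e⟩ := mem_image.1 (c (mem_image_of_mem f h0))
    simpa [ne_of_mem_erase hx] using h x (mem_of_mem_erase hx) 0 h0 e⟩
  have := card_erase_add_one h0
  omega

/-- finite special Jordan division rings have no anticommuting elements -/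
theorem jordan {k R : Type*} [Field k] [Ring R] [Algebra k R] [Finite R] (h2 : (2 : k) ≠ 0) (J : Submodule k R)
    (hs : ∀ a ∈ J, a * a ∈ J) (hz : ∀ a ∈ J, ∀ b ∈ J, a * b = 0 → a = 0 ∨ b = 0) {a b : R} (ha : a ∈ J) (hb : b ∈ J)
    (h : a * b + b * a = 0) : a = 0 ∨ b = 0 := by
  classical
  by_contra! hc
  have := Fintype.ofFinite R
  have m : ∀ {c d}, c ∈ J → d ∈ J → c * d = d * c → c * d ∈ J := fun {c d} hc hd e => by
    have := J.smul_mem (2 : k)⁻¹ (sub_mem (sub_mem (hs _ (add_mem hc hd)) (hs _ hc)) (hs _ hd))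
    rwa [show (c + d) * (c + d) - c * c - d * d = (2 : k) • (c * d) by rw [two_smul]; nth_rw 2 [e]; noncomm_ring,
      inv_smul_smul₀ h2] at this
  have t : ∀ {c : R}, c + c = 0 → c = 0 := fun {c} e => by rwa [← two_smul k, smul_eq_zero_iff_right h2] at e
  have e : b * a = -(a * b) := eq_neg_of_add_eq_zero_right h
  have e' : ∀ c, b * (a * c) = -(a * (b * c)) := fun c => by rw [← mul_assoc, e, neg_mul, mul_assoc]
  let s : Finset R := {c | c ∈ J ∧ ∀ d, d * (a * a) = a * a * d → d * (b * b) = b * b * d → d * c = c * d}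
  have ms : ∀ {c}, c ∈ s ↔ c ∈ J ∧ ∀ d, d * (a * a) = a * a * d → d * (b * b) = b * b * d → d * c = c * d := by simp [s]
  have sa : a * a ∈ s := ms.2 ⟨hs a ha, fun _ h _ => h⟩
  have sb : b * b ∈ s := ms.2 ⟨hs b hb, fun _ _ h => h⟩
  have ca : ∀ {c}, c ∈ s → a * c = c * a := fun hc => (ms.1 hc).2 a (by simp [mul_assoc]) (by simp [mul_assoc, e, e'])
  have cb : ∀ {c}, c ∈ s → b * c = c * b := fun hc => (ms.1 hc).2 b (by simp [mul_assoc, e, e']) (by simp [mul_assoc])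
  have cc : ∀ {c d}, c ∈ s → d ∈ s → c * d = d * c := fun hc hd => (ms.1 hd).2 _
    (by rw [mul_assoc, ca hc, ← mul_assoc, ← mul_assoc, ca hc]) (by rw [mul_assoc, cb hc, ← mul_assoc, ← mul_assoc, cb hc])
  have sm : ∀ {c d}, c ∈ s → d ∈ s → c * d ∈ s := fun hc hd => ms.2 ⟨m (ms.1 hc).1 (ms.1 hd).1 (cc hc hd), fun x h1 h2 => by
    rw [← mul_assoc, (ms.1 hc).2 x h1 h2, mul_assoc, (ms.1 hd).2 x h1 h2, mul_assoc]⟩
  have ss : ∀ {c d}, c ∈ s → d ∈ s → c - d ∈ s := fun hc hd => ms.2 ⟨sub_mem (ms.1 hc).1 (ms.1 hd).1, fun x h1 h2 => by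
    rw [mul_sub, sub_mul, (ms.1 hc).2 x h1 h2, (ms.1 hd).2 x h1 h2]⟩
  have sq : ∀ {c d}, c ∈ J → d ∈ J → c * d = d * c → c * c = d * d → c = d ∨ c = -d := fun {c d} hc hd e1 e2 =>
    (hz _ (sub_mem hc hd) _ (add_mem hc hd) (by rw [sub_mul, mul_add, mul_add, e1, e2]; abel)).imp sub_eq_zero.1 eq_neg_of_add_eq_zero_left
  have n0 : ∀ {c}, c ∈ J → c ≠ 0 → c * c ≠ 0 := fun hc h0 e => h0 (or_self_iff.1 (hz _ hc _ hc e))
  have key : ∀ {c}, c ∈ s → c ≠ 0 → ∀ x ∈ s, ∀ y ∈ s, x * x * c = y * y * c → x = y ∨ x = -y := fun hc h0 x hx y hy e =>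
    sq (ms.1 hx).1 (ms.1 hy).1 (cc hx hy) (sub_eq_zero.1 ((hz _ (ms.1 (ss (sm hx hx) (sm hy hy))).1 _ (ms.1 hc).1
      (by rw [sub_mul, e, sub_self])).resolve_right h0))
  have z0 : (0 : R) ∈ s := by simpa using ss sa sa
  have h3 := card_lt_two s (fun x => x * x * (a * a)) z0 (key sa (n0 ha hc.1))
  have h4 := card_lt_two s (fun y => a * a * (a * a) - y * y * (b * b)) z0 fun x hx y hy e =>
    key sb (n0 hb hc.2) x hx y hy (sub_right_injective e)
  obtain ⟨_, h5, h6⟩ := not_disjoint_iff.1 fun d => by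
    have := card_le_card (union_subset (image_subset_iff.2 fun x hx => sm (sm hx hx) sa)
      (image_subset_iff.2 fun y hy => ss (sm sa sa) (sm (sm hy hy) sb)))
    rw [card_union_of_disjoint d] at this
    omega
  obtain ⟨x, hx, rfl⟩ := mem_image.1 h5
  obtain ⟨y, hy, h6⟩ := mem_image.1 h6
  have xa := m (ms.1 hx).1 ha (ca hx).symm
  have yb := m (ms.1 hy).1 hb (cb hy).symm
  have c1 : ∀ {c}, c ∈ s → ∀ t, a * (c * t) = c * (a * t) := fun hc t => by rw [← mul_assoc, ca hc, mul_assoc]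
  have c2 : ∀ {c}, c ∈ s → ∀ t, b * (c * t) = c * (b * t) := fun hc t => by rw [← mul_assoc, cb hc, mul_assoc]
  have c3 : ∀ t, y * (x * t) = x * (y * t) := fun t => by rw [← mul_assoc, cc hy hx, mul_assoc]
  obtain ⟨c, h7, h8, h9⟩ : ∃ c ∈ s, c ≠ 0 ∧ x * a + y * b = c := (sq (add_mem xa yb) (ms.1 sa).1
    (by rw [add_mul, mul_add, mul_assoc x, mul_assoc y, ca sa, cb sa, ← mul_assoc x, ← mul_assoc y, cc hx sa, cc hy sa,
      mul_assoc _ x, mul_assoc _ y])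
    (by rw [← sub_add_cancel (a * a * (a * a)) (y * y * (b * b)), h6]
        simp [mul_add, add_mul, mul_assoc, c1 hx, c1 hy, c2 hx, c2 hy, c3, e])).elim (fun h => ⟨_, sa, n0 ha hc.1, h⟩)
    fun h => ⟨_, by simpa using ss z0 sa, neg_ne_zero.2 (n0 ha hc.1), h⟩
  have f1 := ca h7
  have f2 := cb h7
  rw [← h9] at f1 f2
  simp only [mul_add, add_mul, mul_assoc, c1 hx, c1 hy, c2 hx, c2 hy, e, mul_neg, add_right_inj, add_left_inj] at f1 f2
  have g1 : y = 0 := ((hz _ (m (ms.1 hy).1 ha (ca hy).symm) _ hb (t (by rw [mul_assoc]; nth_rw 1 [f1]; simp))).resolve_right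
    hc.2 |> hz _ (ms.1 hy).1 _ ha).resolve_right hc.1
  have g2 : x = 0 := ((hz _ xa _ hb (t (by rw [mul_assoc]; nth_rw 1 [← f2]; simp))).resolve_right
    hc.2 |> hz _ (ms.1 hx).1 _ ha).resolve_right hc.1
  exact h8 (by rw [← h9, g1, g2]; simp)

variable {p : ℕ} [Fact p.Prime] {M : Type*} [AddCommGroup M] [Module (ZMod p) M] [Finite M] {Y H : Subgroup (End (ZMod p) M)ˣ}
  {x y z u v w u' v' g f : End (ZMod p) M}

instance instFiniteEnd : Finite (End (ZMod p) M) := Finite.of_injective _ DFunLike.coe_injective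

/-- partners -/
structure Pp (Y : Subgroup (End (ZMod p) M)ˣ) (v u : End (ZMod p) M) : Prop where
  l : Qd Y v
  r : Qd Y u
  vuv : v * u * v = v
  uvu : u * v * u = u

theorem exists_inv (hg : g ∈ gm H) : ∃ g' ∈ gm H, g' * g = 1 ∧ g * g' = 1 :=
  let ⟨σ, h, e⟩ := hg; ⟨_, mem_gm.2 (inv_mem h), e ▸ σ.inv_mul, e ▸ σ.mul_inv⟩

theorem mem_of_mul (hg : g ∈ gm H) (e : x * g = f) (hf : f ∈ gm H) : x ∈ gm H :=
  let ⟨g', a, _, b⟩ := exists_inv hg; by simpa [← e, mul_assoc, b] using mul_mem hf a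

theorem mem_of_mul' (hg : g ∈ gm H) (e : g * x = f) (hf : f ∈ gm H) : x ∈ gm H :=
  let ⟨g', a, b, _⟩ := exists_inv hg; by simpa [← e, ← mul_assoc, b] using mul_mem a hf

theorem gm_mono (h : H ≤ Y) (hg : g ∈ gm H) : g ∈ gm Y := let ⟨σ, a, e⟩ := hg; ⟨σ, h a, e⟩

theorem eq_conj {g' : End (ZMod p) M} (e : g * x = y * g) (e' : g * g' = 1) : y = g * x * g' := by rw [e, mul_assoc, e', mul_one]

theorem qd_cj (hx : Qd Y x) (hg : g ∈ gm Y) (e : g * x = y * g) : Qd Y y :=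
  let ⟨_, _, a, b⟩ := exists_inv hg; eq_conj e b ▸ hx.conj hg a

theorem es_cj (hv : v ∈ Es Y x) (hg : g ∈ gm Y) (e : g * x = y * g) (e' : g * v = w * g) : w ∈ Es Y y :=
  let ⟨_, _, a, b⟩ := exists_inv hg; eq_conj e b ▸ eq_conj e' b ▸ conj_mem_Es hv hg a

theorem inv_cj {g' : End (ZMod p) M} (e : g * x = y * g) (a : g' * g = 1) (b : g * g' = 1) : g' * y = x * g' := by
  rw [eq_conj e b, ← mul_assoc, ← mul_assoc, a, one_mul]

theorem mul_cj (e : g * x = y * g) (e' : f * y = z * f) : f * g * x = z * (f * g) := by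
  rw [mul_assoc, e, ← mul_assoc, e', mul_assoc]

theorem Pp.symm (h : Pp Y v u) : Pp Y u v := ⟨h.r, h.l, h.uvu, h.vuv⟩

theorem Pp.cj (h : Pp Y v u) (hg : g ∈ gm Y) (e : g * v = v' * g) (e' : g * u = u' * g) : Pp Y v' u' := by
  obtain ⟨g', -, a, b⟩ := exists_inv hg
  have c : ∀ t, g' * (g * t) = t := fun t => by rw [← mul_assoc, a, one_mul]
  refine ⟨qd_cj h.l hg e, qd_cj h.r hg e', ?_, ?_⟩ <;> rw [eq_conj e b, eq_conj e' b] <;>
    simp only [mul_assoc, c, (tri_s h.vuv).2, (tri_s h.uvu).2]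

theorem Pp.smul (h : Pp Y v u) {c : ZMod p} (hc : c ≠ 0) : Pp Y (c • v) (c⁻¹ • u) :=
  ⟨(h.l.of_Es (Submodule.smul_mem _ c h.l.q.mem_Es) (smul_ne_zero hc h.l.ne)).1,
    (h.r.of_Es (Submodule.smul_mem _ _ h.r.q.mem_Es) (smul_ne_zero (inv_ne_zero hc) h.r.ne)).1,
    by simp [h.vuv, smul_smul, hc], by simp [h.uvu, smul_smul, hc]⟩

theorem Pp.es (h : Pp Y v u) (hw : w ∈ Es Y v) : v * w = 0 ∧ w * v = 0 ∧ v * (u * w) = w ∧ w * (u * v) = w :=
  ⟨Es_l hw h.l.q.sq, Es_r hw h.l.q.sq, by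
    have := Es_l (p := v * u - 1) hw (by simp [sub_mul, h.vuv]); rwa [sub_mul, one_mul, sub_eq_zero, mul_assoc] at this, by
    have := Es_r (q := u * v - 1) hw (by simp [mul_sub, ← mul_assoc, h.vuv]); rwa [mul_sub, mul_one, sub_eq_zero] at this⟩

theorem Pp.sm (h : Pp Y v u) : v * v = 0 ∧ u * u = 0 ∧ (∀ t, v * (v * t) = 0) ∧ (∀ t, u * (u * t) = 0) ∧ v * (u * v) = v ∧
    u * (v * u) = u ∧ (∀ t, v * (u * (v * t)) = v * t) ∧ ∀ t, u * (v * (u * t)) = u * t :=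
  ⟨h.l.q.sq, h.r.q.sq, sq_s h.l.q.sq, sq_s h.r.q.sq, (tri_s h.vuv).1, (tri_s h.uvu).1, (tri_s h.vuv).2, (tri_s h.uvu).2⟩

/-- the Weyl element of a pair -/
def nn (v u : End (ZMod p) M) : End (ZMod p) M := 1 - (v * u + u * v) + v - u

theorem Pp.nn_mul (h : Pp Y v u) (hf : f ∈ Es Y u) : nn v u * f = -(v * f * v) * nn v u := by
  obtain ⟨a, b, c, d⟩ := h.symm.es hf
  simp [nn, mul_add, add_mul, mul_sub, sub_mul, mul_assoc, h.sm, a, c, d]

theorem Pp.nn_mul' (h : Pp Y v u) : nn v u * v = -u * nn v u := by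
  simp [nn, mul_add, add_mul, mul_sub, sub_mul, mul_assoc, h.sm]

theorem two_ne' (hp : 5 ≤ p) : (2 : ZMod p) ≠ 0 := fun e => by
  have := Nat.le_of_dvd two_pos ((ZMod.natCast_eq_zero_iff 2 p).1 e); omega

theorem card_ne (hp : 5 ≤ p) : Nat.card (ZMod p) ≠ 3 := by rw [Nat.card_zmod]; omega

theorem mem_of_smul (hx : x * x = 0) {c : ZMod p} (hc : c ≠ 0) (h : 1 + c • x ∈ gm H) (d : ZMod p) : 1 + d • x ∈ gm H := by
  have : ∀ n : ℕ, (1 + c • x) ^ n = 1 + (n * c) • x := fun n => by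
    induction n with
    | zero => simp
    | succ n ih => rw [pow_succ, ih]; simp [mul_add, add_mul, hx, add_smul, add_assoc, add_comm]
  have h1 := pow_mem h (d * c⁻¹).val
  rwa [this, ZMod.natCast_zmod_val, inv_mul_cancel_right₀ hc] at h1

variable (hQ : ∀ x, Q Y x → 1 + x ∈ gm H)
include hQ

theorem Pp.nn_mem (h : Pp Y v u) : nn v u ∈ gm H := by
  convert mul_mem (mul_mem (hQ _ h.l.q) (hQ _ h.r.q.neg)) (hQ _ h.l.q) using 1
  simp [nn, mul_add, add_mul, mul_assoc, h.sm]; abel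

theorem Pp.inv_mem (h : Pp Y v u) : 1 - 2 • (v * u + u * v) ∈ gm H := by
  convert mul_mem (h.nn_mem hQ) (h.nn_mem hQ) using 1
  simp [nn, two_mul, mul_add, add_mul, mul_sub, sub_mul, mul_assoc, h.sm]; abel

variable (hp : 5 ≤ p)
include hp

theorem Pp.cj_of_eq (h : Pp Y v u) (h' : Pp Y v u') (e : v * u + u * v = v * u' + u' * v) :
    ∃ g ∈ gm H, g * v = v * g ∧ g * u = u' * g := by
  obtain ⟨c, hc⟩ : ∃ c, c = v * u - v * u' := ⟨_, rfl⟩
  have hc' : c = u' * v - u * v := by rw [hc, sub_eq_sub_iff_add_eq_add, e, add_comm]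
  have c1 : c * v = 0 := by simp [hc', sub_mul, mul_assoc, h.sm]
  have c2 : v * c = 0 := by simp [hc, mul_sub, h.sm]
  have c3 : c * c = 0 := by nth_rw 2 [hc]; simp [mul_sub, ← mul_assoc, c1]
  have c4 : (1 + c) * u = u' * (1 + c) := by
    nth_rw 2 [hc]; rw [hc']; simp [mul_add, add_mul, mul_sub, sub_mul, mul_assoc, h.sm, h'.sm]
  have c5 : c * (u * v) = c := by rw [hc']; simp [sub_mul, mul_assoc, h.sm]
  have c6 : u' = (1 + c) * u * (1 - c) := by rw [c4]; simp [mul_add, add_mul, mul_sub, mul_assoc, c3]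
  have k : ∀ a : ZMod p, a ≠ 0 → (1 + c) * (1 + (a⁻¹ * a⁻¹) • (u * c * u)) ∈ gm H := fun a ha => by
    refine mem_of_mul ((h.smul ha).nn_mem hQ) (?_ : _ = nn (a • v) (a⁻¹ • u')) ((h'.smul ha).nn_mem hQ)
    simp only [nn, smul_mul_smul_comm, mul_inv_cancel₀ ha, inv_mul_cancel₀ ha, one_smul, ← e]
    rw [c6]
    simp [mul_add, add_mul, mul_sub, mul_assoc, h.sm, c1, c5, smul_smul, ha, show ∀ t, c * (v * t) = 0 from fun t => by
      rw [← mul_assoc, c1, zero_mul]]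
    module
  have b : u * c * u * (u * c * u) = 0 := by simp [mul_assoc, h.sm]
  have h2 := two_ne' hp
  have h3 : (1 + c) * (1 + u * c * u) ∈ gm H := by simpa using k 1 one_ne_zero
  have h4 := mem_of_smul b (c := (2 : ZMod p)⁻¹ * 2⁻¹ - 1) (fun e => by
    have : ((3 : ℕ) : ZMod p) = 0 := by field_simp at e; linear_combination -e
    have := Nat.le_of_dvd three_pos ((ZMod.natCast_eq_zero_iff 3 p).1 this); omega)
    (mem_of_mul' h3 (by rw [mul_assoc, add_mul 1 (u * c * u), one_mul, mul_add (u * c * u), mul_smul_comm, b]; simp [sub_smul, add_assoc]) (k 2 h2)) (-1)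
  refine ⟨1 + c, ?_, by simp [mul_add, add_mul, c1, c2], c4⟩
  convert mul_mem h3 h4 using 1
  rw [mul_assoc, add_mul 1 (u * c * u), one_mul, mul_add (u * c * u), mul_smul_comm, b]; simp

theorem Pp.cj_partner (h : Pp Y v u) (h' : Pp Y v u') (hH : H ≤ Y) : ∃ g ∈ gm H, g * v = v * g ∧ g * u = u' * g := by
  obtain ⟨d, hd⟩ : ∃ d, d = v * (u - u') + (u - u') * v := ⟨_, rfl⟩
  obtain ⟨z, hz⟩ : ∃ z, z = 1 - 2 • (v * u + u * v) := ⟨_, rfl⟩
  have d1 : v * d = 0 := by simp [hd, mul_add, mul_sub, sub_mul, h.sm, h'.sm]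
  have d2 : d * v = 0 := by simp [hd, add_mul, mul_sub, sub_mul, mul_assoc, h.sm, h'.sm]
  have z1 : z * v = -v := by simp [hz, two_mul, add_mul, sub_mul, mul_assoc, h.sm]
  have z2 : v * z = -v := by simp [hz, two_mul, mul_add, mul_sub, h.sm]
  have z3 : z * z = 1 := by simp [hz, two_mul, mul_add, add_mul, mul_sub, sub_mul, mul_assoc, h.sm]; abel
  obtain ⟨n, hn⟩ : ∃ n, n = z * (2 • d) := ⟨_, rfl⟩
  have n1 : v * n = 0 := by simp [hn, ← mul_assoc, z2, two_mul, mul_add, d1]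
  have n2 : n * v = 0 := by simp [hn, mul_assoc, d2]
  have n3 : n ^ 3 = 0 := by
    have : d * n = v * ((u - u') * n) := by nth_rw 1 [hd]; simp [add_mul, mul_assoc, n1]
    rw [pow_three, show n * n = z * (2 • (v * ((u - u') * n))) by rw [← this, ← smul_mul_assoc, ← mul_assoc, ← hn], mul_smul_comm,
      ← mul_assoc z, z1, mul_smul_comm, ← mul_assoc, mul_neg, n2]; simp
  have e : 1 - 2 • (v * u' + u' * v) = z * (1 + n) := by
    rw [hn, mul_add, ← mul_assoc, z3, hz, hd]; simp only [mul_sub, sub_mul, mul_one, one_mul]; abel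
  have m1 : 1 + n ∈ gm H := mem_of_mul' (hz ▸ h.inv_mem hQ) e.symm (h'.inv_mem hQ)
  have m2 : (1 + n) ^ p = 1 := by
    obtain ⟨r, hr⟩ := (Commute.one_left n).exists_add_pow_prime_eq (Fact.out : p.Prime)
    rw [hr, pow_eq_zero_of_le (by omega) n3, ← map_natCast (algebraMap (ZMod p) _), ZMod.natCast_self]; simp
  have m3 : (1 + n) * z * (1 + n) = z := by
    have : z * (1 + n) * (z * (1 + n)) = 1 := by
      rw [← e]; simp [two_mul, mul_add, add_mul, mul_sub, sub_mul, mul_assoc, h'.sm]; abel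
    have := congrArg (z * ·) this
    simpa only [← mul_assoc, z3, one_mul, mul_one] using this
  obtain ⟨m, hm⟩ : Odd p := (Fact.out : p.Prime).odd_of_ne_two (by omega)
  have m4 : ∀ j, (1 + n) ^ j * z * (1 + n) ^ j = z := fun j => by
    induction j with
    | zero => simp
    | succ j ih => nth_rw 1 [pow_succ']; rw [pow_succ, mul_assoc (1 + n), ← mul_assoc, mul_assoc (1 + n), ih, m3]
  have m5 : (1 + n) ^ m * z = z * (1 + n) * (1 + n) ^ m := by
    replace m2 : (1 + n) ^ m * ((1 + n) * (1 + n) ^ m) = 1 := by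
      rw [← pow_succ', ← pow_add, show m + (m + 1) = p by omega, m2]
    rw [mul_assoc z]; nth_rw 2 [← m4 m]; rw [mul_assoc _ ((1 + n) ^ m), m2, mul_one]
  have m6 : (1 + n) ^ m * v = v * (1 + n) ^ m :=
    (Commute.pow_left (by simp [Commute, SemiconjBy, mul_add, add_mul, n1, n2]) m).eq
  obtain ⟨s, -, s1, s2⟩ := exists_inv (pow_mem m1 m)
  have m7 : (1 + n) ^ m * u = (1 + n) ^ m * u * s * (1 + n) ^ m := by rw [mul_assoc, s1, mul_one]
  obtain ⟨g, a1, a2, a3⟩ := (h.cj (gm_mono hH (pow_mem m1 m)) m6 m7).cj_of_eq hQ hp h' (by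
    have := eq_conj m5 s2
    rw [← e, hz, mul_sub, sub_mul, mul_one, s2, sub_right_inj, mul_smul_comm, smul_mul_assoc, ← Nat.cast_smul_eq_nsmul (ZMod p),
      ← Nat.cast_smul_eq_nsmul (ZMod p)] at this
    rw [smul_right_injective _ (two_ne' hp) this, mul_add, add_mul, ← mul_assoc, ← mul_assoc, ← m6, mul_assoc _ s, inv_cj m6 s1 s2]
    simp only [mul_assoc])
  exact ⟨_, mul_mem a1 (pow_mem m1 m), mul_cj m6 a2, mul_cj m7 a3⟩

omit hQ hp

/-- conjugacy under `H` -/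
def CJ (H : Subgroup (End (ZMod p) M)ˣ) (x y : End (ZMod p) M) : Prop := ∃ g ∈ gm H, g * x = y * g

/-- conjugacy of root subgroups under `H` -/
def Rl (Y H : Subgroup (End (ZMod p) M)ˣ) (x y : End (ZMod p) M) : Prop := ∃ w ∈ Es Y y, CJ H x w

theorem CJ.symm (h : CJ H x y) : CJ H y x :=
  let ⟨_, a, b⟩ := h; let ⟨g, c, d, e⟩ := exists_inv a; ⟨g, c, inv_cj b d e⟩

theorem CJ.trans (h : CJ H x y) (h' : CJ H y z) : CJ H x z :=
  let ⟨_, a, b⟩ := h; let ⟨_, c, d⟩ := h'; ⟨_, mul_mem c a, mul_cj b d⟩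

theorem rl_of_mem (h : x ∈ Es Y y) : Rl Y H x y := ⟨x, h, 1, one_mem _, by simp⟩

/-- conjugation -/
def cx (a : (End (ZMod p) M)ˣ) (x : End (ZMod p) M) : End (ZMod p) M := a.1 * x * (a⁻¹).1

variable {a b : (End (ZMod p) M)ˣ}

theorem mul_cx : a.1 * x = cx a x * a.1 := by simp [cx]
theorem cx_mul : cx (a * b) x = cx a (cx b x) := by simp [cx, mul_assoc]
theorem cx_one : cx 1 x = x := by simp [cx]

theorem cx_eq : cx a x = y ↔ a.1 * x = y * a.1 := Units.mul_inv_eq_iff_eq_mul _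
theorem cx_inv : cx a⁻¹ y = x ↔ cx a x = y :=
  ⟨fun e => by rw [← e, ← cx_mul, mul_inv_cancel, cx_one], fun e => by rw [← e, ← cx_mul, inv_mul_cancel, cx_one]⟩

/-- the stabilizer of a pair -/
def fx (v u : End (ZMod p) M) : Subgroup (End (ZMod p) M)ˣ where
  carrier := {a | cx a v = v ∧ cx a u = u}
  one_mem' := ⟨cx_one, cx_one⟩
  mul_mem' h h' := ⟨by rw [cx_mul, h'.1, h.1], by rw [cx_mul, h'.2, h.2]⟩
  inv_mem' h := ⟨cx_inv.2 h.1, cx_inv.2 h.2⟩

theorem CJ.cx (h : CJ H x y) (ha : a ∈ Subgroup.normalizer (H : Set (End (ZMod p) M)ˣ)) : CJ H (cx a x) (cx a y) := by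
  obtain ⟨_, ⟨g, h1, rfl⟩, h2⟩ := h
  exact ⟨_, mem_gm.2 ((Subgroup.mem_normalizer_iff.1 ha g).1 h1), by
    simpa [QC.cx, mul_assoc] using congrArg (a.1 * · * (a⁻¹).1) h2⟩

theorem Rl.cx (h : Rl Y H x y) (hY : a ∈ Y) (ha : a ∈ Subgroup.normalizer (H : Set (End (ZMod p) M)ˣ)) :
    Rl Y H (cx a x) (cx a y) := let ⟨_, b, c⟩ := h; ⟨_, es_cj b (mem_gm.2 hY) mul_cx mul_cx, c.cx ha⟩

theorem Pp.two (h : Pp Y v u) (h2 : (2 : ZMod p) ≠ 0) (hw : w ∈ Es Y v) (hz : z ∈ Es Y v)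
    (hs : ∀ w ∈ Es Y v, w * u * w ∈ Es Y v) (e : w * u * w = z * u * z) : w = z ∨ w = -z := by
  have k : ∀ {w}, w ∈ Es Y v → w * u = 0 → w = 0 := fun hw e => by rw [← (h.es hw).2.2.2, ← mul_assoc, e, zero_mul]
  refine (jordan h2 ((Es Y v).map (mulRight _ u)) ?_ ?_ ⟨_, sub_mem hw hz, rfl⟩ ⟨_, add_mem hw hz, rfl⟩ ?_).imp
    (fun e => sub_eq_zero.1 (k (sub_mem hw hz) e)) fun e => eq_neg_of_add_eq_zero_left (k (add_mem hw hz) e)
  · rintro _ ⟨w, hw, rfl⟩; exact ⟨_, hs w hw, by simp [mul_assoc]⟩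
  · rintro _ ⟨w, hw, rfl⟩ _ ⟨z, hz, rfl⟩ e
    refine or_iff_not_imp_left.2 fun c => ?_
    have := Es_r (h.l.symm hw fun e => c (by simp [e])) (q := u * (z * u)) (by simpa [mul_assoc] using e)
    rwa [← mul_assoc u, ← mul_assoc, (h.es hz).2.2.1] at this
  · have := congrArg (· * u) e
    simp only [mulRight_apply, mul_add, add_mul, mul_sub, sub_mul, mul_assoc] at this ⊢
    rw [this]; abel

variable (hH : H ≤ Y)
include hH

theorem CJ.qd (h : CJ H x y) (hx : Qd Y x) : Qd Y y := let ⟨_, a, b⟩ := h; qd_cj hx (gm_mono hH a) b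

theorem Rl.trans (h : Rl Y H x y) (h' : Rl Y H y z) : Rl Y H x z := by
  obtain ⟨w, a, b⟩ := h
  obtain ⟨t, c, g, d, e⟩ := h'
  obtain ⟨g', -, e1, -⟩ := exists_inv d
  have : g * w = g * w * g' * g := by rw [mul_assoc, e1, mul_one]
  exact ⟨_, Es_le c (es_cj a (gm_mono hH d) e this), b.trans ⟨g, d, this⟩⟩

theorem Rl.symm (h : Rl Y H x y) (hx : Qd Y x) (hy : Qd Y y) : Rl Y H y x :=
  let ⟨_, a, b⟩ := h; (rl_of_mem (hy.symm a (b.qd hH hx).ne)).trans hH ⟨_, hx.q.mem_Es, b.symm⟩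

include hQ hp

omit hH hQ in
theorem exists_pp (hx : Qd Y x) (hy : Qd Y y) (h : x * y * x ≠ 0) (hv : v ∈ Es Y x) (h0 : v ≠ 0) : ∃ u ∈ Es Y y, Pp Y v u :=
  let ⟨u, a, b, c⟩ := hx.partner (two_ne' hp) (card_ne hp) hy h hv h0
  ⟨u, a, (hx.of_Es hv h0).1, (hy.of_Es a fun e => h0 (by rw [← b, e]; simp)).1, b, c⟩

omit hH in
theorem rl_of_opp (hx : Qd Y x) (hy : Qd Y y) (h : x * y * x ≠ 0) : Rl Y H x y :=
  let ⟨_, a, b⟩ := exists_pp hp hx hy h hx.q.mem_Es hx.ne; ⟨_, neg_mem a, _, b.nn_mem hQ, b.nn_mul'⟩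

variable (hI : IC Y)
include hI

theorem comm_of_not_rl (hx : Qd Y x) (hy : Qd Y y) (h : ¬ Rl Y H x y) : x * y = y * x := by
  have h2 := two_ne' hp
  have key : ∀ {x y}, NC Y x y → Rl Y H x (x * y - y * x) := fun {x y} h => by_contra fun c => by
    obtain ⟨z, z1, z2⟩ := hI.exists_opp h2 (h.qd h2)
    have k : ∀ {y'}, Q Y y' → y' * x * y' = 0 → (x - (x * y' - y' * x)) * z * (x - (x * y' - y' * x)) = 0 := fun {y'} a b => by
      have e : CJ H x (x - (x * y' - y' * x)) := ⟨_, hQ _ a, by simp [mul_add, add_mul, sub_mul, b, mul_assoc x, a.sq]; abel⟩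
      exact by_contra fun d => c (.trans hH ⟨_, (e.qd hH h.l).q.mem_Es, e⟩ ((rl_of_opp hQ hp (e.qd hH h.l) z1 d).trans hH
        ((rl_of_opp hQ hp (h.qd h2) z1 z2).symm hH (h.qd h2) z1)))
    have k0 := k .zero (by simp)
    have k1 := k h.r.q (h.symm h2).z
    have k2 := k h.r.q.neg (by simpa using (h.symm h2).z)
    refine z2 ((smul_eq_zero_iff_right h2).1 ?_)
    rw [two_smul]
    linear_combination (norm := noncomm_ring) k1 + k2 - k0 - k0
  by_contra e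
  have n : NC Y x y := ⟨hx, hy, by_contra fun c => h (rl_of_opp hQ hp hx hy c), sub_ne_zero.2 e⟩
  exact h ((key n).trans hH (.trans hH (rl_of_mem (neg_sub (y * x) (x * y) ▸ neg_mem ((n.symm h2).qd h2).q.mem_Es))
    ((key (n.symm h2)).symm hH hy ((n.symm h2).qd h2))))

theorem exists_big (hy : Qd Y y) (hx : Qd Y x) (h : Rl Y H x y) (s : Finset (End (ZMod p) M)) (hs : ∀ w, w ∈ s ↔ w ∈ Es Y y ∧ w ≠ 0) :
    ∃ t ⊆ s, #s ≤ 2 * #t ∧ ∀ w ∈ t, CJ H x w := by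
  classical
  obtain ⟨v, a, b⟩ := h
  obtain ⟨z, z1, z2⟩ := hI.exists_opp (two_ne' hp) hy
  obtain ⟨u, c, d⟩ := exists_pp hp hy z1 z2 a (b.qd hH hx).ne
  have k : ∀ w ∈ Es Y y, w ≠ 0 → CJ H v (w * u * w) ∧ w * u * w ∈ Es Y y := fun w hw h0 => by
    obtain ⟨t, t1, t2⟩ := exists_pp hp hy z1 z2 hw h0
    have e1 : -u ∈ Es Y t := z1.Es_eq t1 t2.r.ne ▸ neg_mem c
    have e2 : nn w t * -u = w * u * w * nn w t := by simpa using t2.nn_mul e1
    exact ⟨.trans ⟨_, d.nn_mem hQ, d.nn_mul'⟩ ⟨_, t2.nn_mem hQ, e2⟩, Es_le (neg_mem hw) (es_cj e1 (gm_mono hH (t2.nn_mem hQ))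
      (by simpa [t2.vuv] using t2.nn_mul t2.r.q.mem_Es) e2)⟩
  have e := hy.Es_eq a d.l.ne
  refine ⟨s.image fun w => w * u * w, image_subset_iff.2 fun w hw => ?_, card_le_twice s _ fun w hw z hz => d.two (two_ne' hp)
    (e ▸ ((hs w).1 hw).1) (e ▸ ((hs z).1 hz).1) fun w hw => ?_, fun _ hw => ?_⟩
  · obtain ⟨k1, k2⟩ := k w ((hs w).1 hw).1 ((hs w).1 hw).2
    exact (hs _).2 ⟨k2, (k1.qd hH d.l).ne⟩
  · by_cases h0 : w = 0
    · simp [h0]
    · exact e ▸ (k w (e ▸ hw) h0).2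
  · obtain ⟨w, hw', rfl⟩ := mem_image.1 hw
    exact b.trans (k w ((hs w).1 hw').1 ((hs w).1 hw').2).1

theorem cj_three (hx : Qd Y x) (hy : Qd Y y) (hz : Qd Y z) (h1 : Rl Y H y x) (h2 : Rl Y H z x) :
    CJ H x y ∨ CJ H y z ∨ CJ H x z := by
  classical
  have := Fintype.ofFinite (End (ZMod p) M)
  let s : Finset (End (ZMod p) M) := {w | w ∈ Es Y x ∧ w ≠ 0}
  have hs : ∀ w, w ∈ s ↔ w ∈ Es Y x ∧ w ≠ 0 := by simp [s]
  obtain ⟨t1, a1, b1, c1⟩ := exists_big hQ hp hH hI hx hx (rl_of_mem hx.q.mem_Es) s hs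
  obtain ⟨t2, a2, b2, c2⟩ := exists_big hQ hp hH hI hx hy h1 s hs
  obtain ⟨t3, a3, b3, c3⟩ := exists_big hQ hp hH hI hx hz h2 s hs
  by_contra! hc
  have d1 : Disjoint t1 t2 := disjoint_left.2 fun w i j => hc.1 ((c1 w i).trans (c2 w j).symm)
  have d2 : Disjoint (t1 ∪ t2) t3 := disjoint_union_left.2 ⟨disjoint_left.2 fun w i j => hc.2.2 ((c1 w i).trans (c3 w j).symm),
    disjoint_left.2 fun w i j => hc.2.1 ((c2 w i).trans (c3 w j).symm)⟩
  have := card_le_card (union_subset (union_subset a1 a2) a3)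
  rw [card_union_of_disjoint d2, card_union_of_disjoint d1] at this
  have := card_pos.2 ⟨x, (hs x).2 ⟨hx.q.mem_Es, hx.ne⟩⟩
  omega

variable {A : Subgroup (End (ZMod p) M)ˣ} (hA : A ≤ Y) (hN : A ≤ Subgroup.normalizer (H : Set (End (ZMod p) M)ˣ))
  (hc : (Nat.card A).Coprime (Nat.card H))
include hA hN

omit hQ hp hI in
/-- the stabilizer of a class of root subgroups -/
def stab (hx : Qd Y x) : Subgroup (End (ZMod p) M)ˣ where
  carrier := {a | a ∈ A ∧ Rl Y H (cx a x) x}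
  one_mem' := ⟨one_mem _, by rw [cx_one]; exact rl_of_mem hx.q.mem_Es⟩
  mul_mem' h h' := ⟨mul_mem h.1 h'.1, by rw [cx_mul]; exact (h'.2.cx (hA h.1) (hN h.1)).trans hH h.2⟩
  inv_mem' {a} h := ⟨inv_mem h.1, by
    have := h.2.cx (hA (inv_mem h.1)) (hN (inv_mem h.1))
    rw [← cx_mul, inv_mul_cancel, cx_one] at this
    exact this.symm hH hx (qd_cj hx (mem_gm.2 (hA (inv_mem h.1))) mul_cx)⟩

include hc

theorem exists_fixed (h : Pp Y v u) : ∃ v u, ∃ h : Pp Y v u, stab hH hA hN h.l ≤ fx v u := by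
  have hle : stab hH hA hN h.l ≤ A := fun _ h => h.1
  have o : Odd (Nat.card A) := by
    obtain ⟨z, z1, z2⟩ := h.inv_mem hQ
    replace z2 : z.1 = _ := z2
    have : orderOf (⟨z, z1⟩ : H) = 2 := orderOf_eq_prime (Subtype.ext (Units.ext (by
      simp [sq, z2, two_mul, mul_add, add_mul, mul_sub, sub_mul, mul_assoc, h.sm]; abel))) fun e => h.l.ne (by
        have := congrArg (fun z : H => z.1.1 * v) e
        simp only [z2, sub_mul, smul_mul_assoc, add_mul, mul_assoc, h.sm, OneMemClass.coe_one, Units.val_one, one_mul, mul_zero,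
          add_zero, sub_eq_self] at this
        rwa [← Nat.cast_smul_eq_nsmul (ZMod p), Nat.cast_ofNat, smul_eq_zero_iff_right (two_ne' hp)] at this)
    exact Nat.coprime_two_right.1 (hc.coprime_dvd_right (this ▸ orderOf_dvd_natCard _))
  have q : ∀ {a}, a ∈ A → Qd Y (cx a v) := fun ha => qd_cj h.l (mem_gm.2 (hA ha)) mul_cx
  obtain ⟨k, k1, k2⟩ := Coprime.exists_conj_mem_of_le_mul (hle.trans hN) (Coprime.coprime_card_of_le hc hle le_rfl)
    (Coprime.solvable_or_of_le (FT.solvable_or_of_coprime _ _ hc) hle le_rfl) (fx v u) fun a ha => by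
      obtain ⟨m, hm⟩ := o
      obtain ⟨b, hb, rfl⟩ : ∃ b ∈ stab hH hA hN h.l, b * b = a := ⟨a ^ (m + 1), pow_mem ha _, by
        rw [← pow_add, show m + 1 + (m + 1) = Nat.card A + 1 by omega, pow_succ]
        exact mul_eq_right.2 (congrArg Subtype.val (pow_card_eq_one' (x := (⟨a, ha.1⟩ : A))))⟩
      have i : CJ H v (cx b v) → CJ H v (cx (b * b) v) := fun e => by rw [cx_mul]; exact e.trans (e.cx (hN hb.1))
      obtain ⟨g, g1, g2⟩ : CJ H v (cx (b * b) v) := (cj_three hQ hp hH hI h.l (q hb.1) (q ha.1) hb.2 ha.2).elim i fun e =>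
        e.elim (fun e => i (by simpa only [← cx_mul, inv_mul_cancel, cx_one, inv_mul_cancel_left] using e.cx (hN (inv_mem hb.1)))) fun e => e
      obtain ⟨g', -, g3, g4⟩ := exists_inv g1
      have g5 : g * u = g * u * g' * g := by rw [mul_assoc, g3, mul_one]
      obtain ⟨f, f1, f2, f3⟩ := (h.cj (gm_mono hH g1) g2 g5).cj_partner hQ hp (h.cj (mem_gm.2 (hA ha.1)) mul_cx mul_cx) hH
      obtain ⟨k, k1, k2⟩ := mul_mem f1 g1
      replace k2 : k.1 = _ := k2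
      have e1 := mul_cj g2 f2
      have e2 := mul_cj g5 f3
      rw [← k2] at e1 e2
      exact ⟨k, k1, by rw [cx_mul, cx_inv, cx_eq, e1], by rw [cx_mul, cx_inv, cx_eq, e2]⟩
  have e : CJ H v (cx k v) := ⟨_, mem_gm.2 k1, mul_cx⟩
  refine ⟨_, _, h.cj (mem_gm.2 (hH k1)) mul_cx mul_cx, fun a ha => ?_⟩
  obtain ⟨e1, e2⟩ := k2 a ⟨ha.1, .trans hH (.trans hH ⟨_, (qd_cj (e.qd hH h.l) (mem_gm.2 (hA ha.1)) mul_cx).q.mem_Es, e.cx (hN ha.1)⟩ ha.2)
    ⟨_, h.l.q.mem_Es, e.symm⟩⟩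
  rw [mul_assoc, cx_mul, cx_inv, cx_mul] at e1 e2
  exact ⟨e1.symm, e2.symm⟩

theorem exists_hom {K : Type*} [Field K] (π : ZMod p ≃+* K) (hx : Q Y x) (h0 : x ≠ 0) :
    ∃ Φ : Matrix.SpecialLinearGroup (Fin 2) K →* (End (ZMod p) M)ˣ, Φ.range ≤ H ⊓ Subgroup.centralizer A ∧
      Φ.ker ≤ Subgroup.center _ := by
  classical
  obtain ⟨y, hy⟩ := exists_qd hx h0
  obtain ⟨z, z1, z2⟩ := hI.exists_opp (two_ne' hp) hy
  obtain ⟨u, -, h⟩ := exists_pp hp hy z1 z2 hy.q.mem_Es hy.ne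
  obtain ⟨v, u, h, h1⟩ := exists_fixed hQ hp hH hI hA hN hc h
  obtain ⟨φ, h4, h5⟩ := exists_sl2 π.toRingHom π.surjective h.l.q.sq h.r.q.sq h.vuv h.uvu (fun _ _ => mul_smul_comm _ _ _)
    (fun _ _ => mul_smul_comm _ _ _) fun r => by simp [h.l.ne]
  have ind : ∀ P : Subgroup (End (ZMod p) M)ˣ, (∀ g : (End (ZMod p) M)ˣ, ∀ w, w = v ∨ w = u → ∀ c : ZMod p, g.1 = 1 + c • w → g ∈ P) →
      ∀ g, φ g ∈ P := fun P hP g => (?_ : _ ≤ P.comap φ) (sl2_sup.ge (Subgroup.mem_top g))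
  swap
  · refine sup_le (fun g hg => ?_) fun g hg => ?_
    · obtain ⟨t, rfl⟩ := mem_upper.1 hg
      exact hP _ _ (.inl rfl) _ ((h5 (π.symm t) _).1 (by simp; rfl))
    · obtain ⟨t, rfl⟩ := mem_lower.1 hg
      exact hP _ _ (.inr rfl) _ ((h5 (π.symm t) _).2 (by simp; rfl))
  have q : ∀ {w}, w = v ∨ w = u → Qd Y w ∧ Rl Y H w v ∧ ∀ a ∈ stab hH hA hN h.l, cx a w = w := by
    rintro _ (rfl | rfl)
    · exact ⟨h.l, rl_of_mem h.l.q.mem_Es, fun a ha => (h1 ha).1⟩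
    · exact ⟨h.r, rl_of_opp hQ hp h.r h.l (h.uvu.symm ▸ h.r.ne), fun a ha => (h1 ha).2⟩
  have mH := ind H fun g w hw c e => mem_gm.1 (e ▸ hQ _ ((q hw).1.q.smul c))
  have m1 : ∀ a ∈ stab hH hA hN h.l, ∀ g, φ g * a = a * φ g := fun a ha g => Subgroup.mem_centralizer_singleton_iff.1
    (ind _ (fun g w hw c e => Subgroup.mem_centralizer_singleton_iff.2 (Units.ext (by
      simp [e, mul_add, add_mul, cx_eq.1 ((q hw).2.2 a ha)]))) g)
  have m2 : ∀ a ∈ A, a ∉ stab hH hA hN h.l → ∀ g g', φ g * (a * φ g' * a⁻¹) = a * φ g' * a⁻¹ * φ g := fun a ha hn g g' => by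
    refine Subgroup.mem_centralizer_singleton_iff.1 (ind _ (fun g w hw c e => Subgroup.mem_centralizer_singleton_iff.2 ?_) g)
    have := Subgroup.mem_centralizer_singleton_iff.1 (ind (Subgroup.centralizer {a⁻¹ * g * a}) (fun g' w' hw' c' e' =>
      Subgroup.mem_centralizer_singleton_iff.2 (Units.ext ?_)) g')
    · simpa [mul_assoc] using congrArg (a * · * a⁻¹) this.symm
    have q' := qd_cj (q hw').1 (mem_gm.2 (hA ha)) mul_cx
    have := comm_of_not_rl hQ hp hH hI q' (q hw).1 fun r => hn ⟨ha, ((((q hw').2.1.symm hH (q hw').1 h.l).cx (hA ha) (hN ha)).trans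
      hH r).trans hH (q hw).2.1⟩
    have := congrArg ((a⁻¹).1 * · * a.1) this
    simp only [cx, mul_assoc, Units.inv_mul_cancel_left, Units.inv_mul, mul_one] at this
    simp [e, e', mul_add, add_mul, mul_assoc, this, smul_add, add_add_add_comm, smul_comm c c']
  let B := (stab hH hA hN h.l).subgroupOf A
  have := Fintype.ofFinite (A ⧸ B)
  let ψ : A ⧸ B → _ →* (End (ZMod p) M)ˣ := fun c => (MulAut.conj (c.out : (End (ZMod p) M)ˣ)).toMonoidHom.comp φ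
  have e1 : ∀ (a : A) g, ψ a g = a * φ g * a⁻¹ := fun a g => by
    obtain ⟨b, hb⟩ := QuotientGroup.mk_out_eq_mul B a
    simp [ψ, hb, mul_assoc]; rw [← mul_assoc, ← m1 b.1.1 b.2 g, mul_assoc, mul_inv_cancel_left]
  have e2 : Pairwise fun c d => ∀ g g', Commute (ψ c g) (ψ d g') := fun c d hne g g' => by
    obtain ⟨a, rfl⟩ := QuotientGroup.mk_surjective c
    obtain ⟨b, rfl⟩ := QuotientGroup.mk_surjective d
    simpa [Commute, SemiconjBy, e1, mul_assoc] using congrArg (a.1 * · * a.1⁻¹)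
      (m2 _ (a⁻¹ * b).2 (fun e => hne (QuotientGroup.eq.2 e)) g g')
  let Φ := (MonoidHom.noncommPiCoprod ψ e2).comp (MonoidHom.pi fun _ => MonoidHom.id _)
  have e3 : ∀ g, Φ g = univ.noncommProd (fun c => ψ c g) fun c _ d _ hne => e2 hne g g := fun g => rfl
  refine ⟨Φ, ?_, fun g hg => Subgroup.mem_center_iff.2 fun g' => h4 ?_⟩
  · rintro _ ⟨g, rfl⟩
    refine ⟨e3 g ▸ Subgroup.noncommProd_mem _ _ fun c _ => (Subgroup.mem_normalizer_iff.1 (hN c.out.2) _).1 (mH g), fun a ha => ?_⟩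
    rw [← mul_inv_eq_iff_eq_mul, e3]
    refine (map_noncommProd _ _ _ (MulAut.conj a)).trans ?_
    have e4 : ∀ c, MulAut.conj a (ψ c g) = ψ ((⟨a, ha⟩ : A) • c) g := fun c => by
      obtain ⟨b, rfl⟩ := QuotientGroup.mk_surjective c
      rw [MulAction.Quotient.smul_mk, e1, e1]; simp [mul_assoc]
    simp only [e4, Finset.noncommProd]
    congr 1
    rw [show (fun c => ψ ((⟨a, ha⟩ : A) • c) g) = (fun c => ψ c g) ∘ MulAction.toPerm (⟨a, ha⟩ : A) from rfl, ← Multiset.map_map,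
      Multiset.map_univ_val_equiv]
  · replace hg := mul_eq_one_iff_eq_inv.1 ((mul_noncommProd_erase _ (mem_univ ((1 : A) : A ⧸ B)) (fun c => ψ c g)
      fun c _ d _ hne => e2 hne g g).trans ((e3 g).symm.trans hg))
    have : Commute (ψ (1 : A) g') (ψ (1 : A) g) :=
      hg ▸ (noncommProd_commute _ _ _ _ fun c hc => e2 (ne_of_mem_erase hc).symm g' g).inv_right
    simpa [e1] using this.eq

end Cfsg.Lib.Glaub.QC
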