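import Cfsg.Agent.Lib.Core.Subnormal
import Cfsg.Agent.Lib.Amalg.Conj

/-!
# Flavell's theorem: subnormal in all but one of the maximal overgroups
-/

set_option autoImplicit false

namespace Cfsg.Lib.Glaub.SubMax

open Subgroup Cfsg.Lib.Core Cfsg.Lib.Amalg

variable {G : Type*} [Group G]

/-- half of the ping-pong data -/
def Hf (M : Set (Subgroup G)) (E F : Subgroup G) (s : G) : Prop :=
  (∀ B ∈ M, B ≠ E → cj s B ∈ M ∧ cj s B ≠ E) ∧ ¬ E ≤ 𝐍 (cj s F)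

theorem le_norm_cj {E F : Subgroup G} {g : G} (h : cj g⁻¹ E ≤ 𝐍 F) : E ≤ 𝐍 (cj g F) := by
  rw [← cj_normalizer, le_cj_iff]; exact h

theorem pp_aux {M : Set (Subgroup G)} (n : ℕ) : ∀ {E F : Subgroup G} {s t : G}, E ∈ M → F ∈ M → E ≠ F →
    (∀ B ∈ M, B ≤ 𝐍 E) → (∀ B ∈ M, B ≤ 𝐍 F) → Hf M E F s → Hf M E F s⁻¹ → Hf M F E t → Hf M F E t⁻¹ →
    (cj (s * (t * s) ^ n) F ∈ M ∧ cj (s * (t * s) ^ n) F ≠ E ∧ cj (s * (t * s) ^ n) F ≠ F) := by
  induction n with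
  | zero =>
    intro E F s t hE hF hne h1 h2 a a' b b'
    simp only [pow_zero, mul_one]
    exact ⟨(a.1 F hF hne.symm).1, (a.1 F hF hne.symm).2, fun e => a.2 (e.symm ▸ h2 E hE)⟩
  | succ n ih =>
    have key : ∀ {E F : Subgroup G} {s t : G}, E ∈ M → F ∈ M → E ≠ F →
        (∀ B ∈ M, B ≤ 𝐍 E) → (∀ B ∈ M, B ≤ 𝐍 F) → Hf M E F s → Hf M E F s⁻¹ → Hf M F E t → Hf M F E t⁻¹ →
        (cj ((t * s) ^ (n + 1)) F ∈ M ∧ cj ((t * s) ^ (n + 1)) F ≠ E ∧ cj ((t * s) ^ (n + 1)) F ≠ F) := by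
      intro E F s t hE hF hne h1 h2 a a' b b'
      obtain ⟨c1, c2, c3⟩ := ih hE hF hne h1 h2 a a' b b'
      obtain ⟨d1, -, -⟩ := ih hE hF hne h1 h2 a' (by rwa [inv_inv]) b' (by rwa [inv_inv])
      have e : (t * s) ^ (n + 1) = t * (s * (t * s) ^ n) := by rw [pow_succ']; group
      rw [e, cj_mul]
      refine ⟨(b.1 _ c1 c3).1, fun h => b'.2 ?_, (b.1 _ c1 c3).2⟩
      rw [← h, cj_inv_cj]
      refine le_norm_cj ?_
      have e2 : (s * (t * s) ^ n)⁻¹ = s⁻¹ * (t⁻¹ * s⁻¹) ^ n := by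
        rw [mul_inv_rev, ← inv_pow, mul_inv_rev, ← mul_pow_mul]
      rw [e2]
      exact h2 _ d1
    intro E F s t hE hF hne h1 h2 a a' b b'
    obtain ⟨c1, c2, c3⟩ := key hE hF hne h1 h2 a a' b b'
    obtain ⟨d1, -, -⟩ := key hF hE hne.symm h2 h1 b' (by rwa [inv_inv]) a' (by rwa [inv_inv])
    rw [cj_mul]
    refine ⟨(a.1 _ c1 c2).1, (a.1 _ c1 c2).2, fun h => a'.2 ?_⟩
    rw [← h, cj_inv_cj]
    refine le_norm_cj ?_
    rw [← inv_pow, mul_inv_rev]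
    exact h2 _ d1

theorem pp [Finite G] {M : Set (Subgroup G)} {E F : Subgroup G} {s t : G} (hE : E ∈ M) (hF : F ∈ M) (hne : E ≠ F)
    (h1 : ∀ B ∈ M, B ≤ 𝐍 E) (h2 : ∀ B ∈ M, B ≤ 𝐍 F) (a : Hf M E F s) (a' : Hf M E F s⁻¹) (b : Hf M F E t)
    (b' : Hf M F E t⁻¹) : False := by
  obtain ⟨n, hn⟩ : ∃ n, orderOf (t * s) = n + 1 := ⟨_, (Nat.succ_pred_eq_of_pos (orderOf_pos _)).symm⟩
  obtain ⟨c1, -, c3⟩ := pp_aux n hE hF hne h1 h2 a a' b b'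
  have e : t * (s * (t * s) ^ n) = 1 := by rw [← mul_assoc, ← pow_succ', ← hn, pow_orderOf_eq_one]
  exact (b.1 _ c1 c3).2 (by rw [← cj_mul, e, cj_one])

theorem chain {L Y K : Subgroup G} (h : SubnormalIn L Y) (h1 : Y ≤ K) (h2 : ¬ L ≤ K) :
    ∃ Z, Y ≤ Z ∧ Z ≤ L ⊓ K ∧ ∃ x ∈ L, x ∉ K ∧ x ∈ 𝐍 Z := by
  induction h with
  | refl => exact absurd h1 h2
  | step A B a b c ih =>
    by_cases h : B ≤ K
    · obtain ⟨Z, z1, z2⟩ := ih h
      exact ⟨Z, a.trans z1, z2⟩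
    · obtain ⟨x, hx, hx'⟩ := SetLike.not_le_iff_exists.1 h
      exact ⟨A, le_rfl, le_inf (a.trans c.le) h1, x, c.le hx, hx', b hx⟩

/-- `K` is a maximal subgroup in which `B` is not subnormal -/
structure Ex (B K : Subgroup G) : Prop where
  co : IsCoatom K
  le : B ≤ K
  ns : ¬ SubnormalIn K B

theorem Ex.conj {B K : Subgroup G} (h : Ex B K) (g : G) : Ex (cj g B) (cj g K) :=
  ⟨isCoatom_cj h.co, cj_mono g h.le, fun e => h.ns (by simpa only [cj_inv_cj] using e.map (MulAut.conj g⁻¹).toMonoidHom)⟩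

/-- the join of the conjugates of `A` in `X` satisfying `P` -/
def wc (A X : Subgroup G) (P : Subgroup G → Prop) : Subgroup G := sSup {B | (∃ g, B = cj g A) ∧ B ≤ X ∧ P B}

variable {A X Y B : Subgroup G} {P : Subgroup G → Prop}

theorem wc_le : wc A X P ≤ X := sSup_le fun _ h => h.2.1

theorem le_wc (h : ∃ g, B = cj g A) (h1 : B ≤ X) (h2 : P B) : B ≤ wc A X P := le_sSup ⟨h, h1, h2⟩

theorem wc_le_of (h : ∀ B, (∃ g, B = cj g A) → B ≤ X → P B → B ≤ Y) : wc A X P ≤ Y := sSup_le fun B hB => h B hB.1 hB.2.1 hB.2.2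

theorem mem_cj_cj (h : ∃ g, B = cj g A) (x : G) : ∃ g, cj x B = cj g A := let ⟨g, e⟩ := h; ⟨x * g, by rw [e, cj_mul]⟩

theorem norm_wc [Finite G] {x : G} (hx : x ∈ 𝐍 X) : x ∈ 𝐍 (wc A X fun _ => True) :=
  mem_normalizer_of_cj_le (cj_le_iff.2 (wc_le_of fun _ h1 h2 _ => cj_le_iff.1
    (le_wc (mem_cj_cj h1 x) (cj_le_of_le_of_mem_normalizer h2 hx) trivial)))

/-- the working hypotheses -/
structure Hy (A : Subgroup G) : Prop where
  nc : normalClosure (A : Set G) = ⊤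
  ex : ∃ M, Ex A M
  un : ∀ K L, Ex A K → Ex A L → K = L
  f2 : ∀ B C K L : Subgroup G, (∃ g, B = cj g A) → (∃ g, C = cj g A) → Ex B K → Ex C K → IsCoatom L → L ≠ K → B ≤ L → C ≤ L → B = C

theorem norm_coatom (nc : normalClosure (A : Set G) = ⊤) {K : Subgroup G} (hB : ∃ g, B = cj g A) (hK : IsCoatom K) (h : B ≤ K) :
    𝐍 K ≤ K := by
  by_contra e
  have h1 : 𝐍 K = ⊤ := hK.2 _ (lt_of_le_of_ne le_normalizer fun e' => e e'.ge)
  have := normalizer_eq_top_iff.1 h1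
  obtain ⟨g, rfl⟩ := hB
  exact hK.1 (top_le_iff.1 (nc ▸ normalClosure_le_normal ((cj_le_iff.1 h).trans (cj_normal _ K).le)))

namespace Hy

theorem uniq (h : Hy A) (hB : ∃ g, B = cj g A) {K L : Subgroup G} (h1 : Ex B K) (h2 : Ex B L) : K = L := by
  obtain ⟨g, rfl⟩ := hB
  have a := h1.conj g⁻¹
  have b := h2.conj g⁻¹
  rw [cj_inv_cj] at a b
  exact cj_inj.1 (h.un _ _ a b)

theorem sn (h : Hy A) (hB : ∃ g, B = cj g A) {K L : Subgroup G} (h1 : Ex B K) (hL : IsCoatom L) (hne : L ≠ K) (hle : B ≤ L) :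
    SubnormalIn L B := by
  by_contra e
  exact hne (h.uniq hB ⟨hL, hle, e⟩ h1)

theorem norm_le (h : Hy A) (hB : ∃ g, B = cj g A) {K : Subgroup G} (h1 : Ex B K) : 𝐍 B ≤ K := fun g hg => by
  have := h1.conj g
  rw [cj_of_mem_normalizer hg] at this
  exact norm_coatom h.nc hB h1.co h1.le (cj_eq_self_iff.1 (h.uniq hB this h1))

variable [Finite G]

theorem sn_wc (h : Hy A) {E K L W : Subgroup G} (hE : ∃ g, E = cj g A) (h1 : Ex E K) (hL : IsCoatom L) (hne : L ≠ K) (hEL : E ≤ L)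
    (hW : W ≤ K ⊓ L) : SubnormalIn K (wc A W (· ≠ E)) :=
  subnormalIn_sSup _ fun B hB => by
    by_contra e
    exact hB.2.2 (h.f2 B E K L hB.1 hE ⟨h1.co, hB.2.1.trans (hW.trans inf_le_left), e⟩ h1 hL hne (hB.2.1.trans (hW.trans inf_le_right)) hEL)

theorem find (h : Hy A) {E K L W : Subgroup G} (hE : ∃ g, E = cj g A) (h1 : Ex E K) (hL : IsCoatom L) (hne : L ≠ K) (hEL : E ≤ L)
    (hW : W = wc A (K ⊓ L) fun _ => True) (hN : 𝐍 W ≤ L) : ∃ s ∈ K, s ∉ 𝐍 E ∧ s ∈ 𝐍 (wc A W (· ≠ E)) := by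
  have hW' : W ≤ K ⊓ L := hW ▸ wc_le
  obtain ⟨Z, z1, z2, s, s1, s2, s3⟩ := chain (h.sn_wc hE h1 hL hne hEL hW') (wc_le.trans (hW'.trans inf_le_right))
    fun e => hne (((h1.co.le_iff.1 e).resolve_left hL.1))
  have h2 : W ≤ wc A W (· ≠ E) ⊔ E := hW.le.trans (wc_le_of fun B b1 b2 _ => by
    by_cases e : B = E
    · exact e ▸ le_sup_right
    · exact (le_wc b1 (hW ▸ le_wc b1 b2 trivial) e).trans le_sup_left)
  have h3 : wc A Z (fun _ => True) ≤ W := wc_le_of fun B b1 b2 _ => hW ▸ le_wc b1 (b2.trans z2) trivial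
  have h4 : wc A W (· ≠ E) ≤ wc A Z (fun _ => True) := wc_le_of fun B b1 b2 b3 => le_wc b1 ((le_wc b1 b2 b3).trans z1) trivial
  have h5 : ¬ E ≤ Z := fun e => s2 (hN (le_antisymm h3 (h2.trans (sup_le h4 (le_wc hE e trivial))) ▸ norm_wc s3))
  have h6 : wc A Z (fun _ => True) = wc A W (· ≠ E) := le_antisymm (wc_le_of fun B b1 b2 _ =>
    le_wc b1 ((le_wc b1 b2 trivial).trans h3) fun e => h5 (e ▸ b2)) h4
  have h7 : s ∈ 𝐍 (wc A W (· ≠ E)) := h6 ▸ norm_wc s3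
  refine ⟨s, s1, fun e => s2 (hN ?_), h7⟩
  have h8 : W = wc A W (· ≠ E) ⊔ E := le_antisymm h2 (sup_le wc_le (hW ▸ le_wc hE (le_inf h1.le hEL) trivial))
  rw [← cj_eq_self_iff]
  conv_lhs => rw [h8, cj_sup, cj_of_mem_normalizer h7, cj_of_mem_normalizer e]
  exact h8.symm

theorem hf (h : Hy A) {E F K L W : Subgroup G} (hE : ∃ g, E = cj g A) (hF : ∃ g, F = cj g A) (h1 : Ex E K) (h2 : Ex F L)
    (hne : L ≠ K) (hEW : E ≤ W) (hW : W ≤ K ⊓ L) {s : G} (s1 : s ∈ K) (s2 : s ∉ 𝐍 E)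
    (s3 : s ∈ 𝐍 (wc A W (· ≠ E))) : Hf {B | (∃ g, B = cj g A) ∧ B ≤ W} E F s := by
  have hEL := hEW.trans (hW.trans inf_le_right)
  have a := h.sn_wc hE h1 h2.co hne hEL hW
  refine ⟨fun B hB e => ?_, fun e => s2 ?_⟩
  · have b : cj s B ≤ wc A W (· ≠ E) := cj_le_of_le_of_mem_normalizer (le_wc hB.1 hB.2 e) s3
    refine ⟨⟨mem_cj_cj hB.1 s, b.trans wc_le⟩, fun e' => h1.ns ?_⟩
    rw [e'] at b
    exact ((h.sn hE h1 h2.co hne hEL).mono b (wc_le.trans (hW.trans inf_le_right))).trans a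
  · have b := h1.conj s
    rw [cj_of_mem s1] at b
    refine cj_eq_self_iff.1 (h.f2 _ _ K (cj s L) (mem_cj_cj hE s) hE b h1 (isCoatom_cj h2.co) (fun e' => hne ?_) (cj_mono s hEL)
      (e.trans (h.norm_le (mem_cj_cj hF s) (h2.conj s))))
    rw [cj_eq_iff.1 e', cj_of_mem (inv_mem s1)]

theorem fin (h : Hy A) {E F K L W : Subgroup G} (hE : ∃ g, E = cj g A) (hF : ∃ g, F = cj g A) (h1 : Ex E K) (h2 : Ex F L)
    (hne : L ≠ K) (hEW : E ≤ W) (hFW : F ≤ W) (hW : W ≤ K ⊓ L) (hs : ∃ s ∈ K, s ∉ 𝐍 E ∧ s ∈ 𝐍 (wc A W (· ≠ E)))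
    (ht : ∃ s ∈ L, s ∉ 𝐍 F ∧ s ∈ 𝐍 (wc A W (· ≠ F))) : False := by
  obtain ⟨s, s1, s2, s3⟩ := hs
  obtain ⟨t, t1, t2, t3⟩ := ht
  have hW' : W ≤ L ⊓ K := inf_comm K L ▸ hW
  have key : ∀ {E K L : Subgroup G}, (∃ g, E = cj g A) → Ex E K → IsCoatom L → L ≠ K → E ≤ W → W ≤ K ⊓ L → W ≤ 𝐍 E :=
    fun {E K L} hE h1 hL hne hEW hW y hy => by
      have b := h1.conj y
      rw [cj_of_mem (hW hy).1] at b
      exact cj_eq_self_iff.1 (h.f2 _ _ K L (mem_cj_cj hE y) hE b h1 hL hne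
        (cj_le_of_le_of_mem (hEW.trans (hW.trans inf_le_right)) (hW hy).2) (hEW.trans (hW.trans inf_le_right)))
  exact pp (M := {B | (∃ g, B = cj g A) ∧ B ≤ W}) ⟨hE, hEW⟩ ⟨hF, hFW⟩ (fun e => hne (h.uniq hE (e ▸ h2) h1))
    (fun B hB => hB.2.trans (key hE h1 h2.co hne hEW hW)) (fun B hB => hB.2.trans (key hF h2 h1.co hne.symm hFW hW'))
    (h.hf hE hF h1 h2 hne hEW hW s1 s2 s3) (h.hf hE hF h1 h2 hne hEW hW (inv_mem s1) (by rwa [inv_mem_iff]) (inv_mem s3))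
    (h.hf hF hE h2 h1 hne.symm hFW hW' t1 t2 t3) (h.hf hF hE h2 h1 hne.symm hFW hW' (inv_mem t1) (by rwa [inv_mem_iff]) (inv_mem t3))

theorem c1 (h : Hy A) {W : Subgroup G} (hm : ∀ E K L : Subgroup G, (∃ g, E = cj g A) → Ex E K → IsCoatom L → L ≠ K → E ≤ L →
      W ≤ K ⊓ L → W = wc A (K ⊓ L) fun _ => True) {E K L : Subgroup G} (a1 : ∃ g, E = cj g A) (a2 : Ex E K) (a3 : IsCoatom L)
    (a6 : E ≤ W) (a7 : W ≤ K ⊓ L) : 𝐍 W ≤ K := by
  by_contra e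
  obtain ⟨x, hx, hx'⟩ := SetLike.not_le_iff_exists.1 e
  have b1 : 𝐍 W ≠ ⊤ := fun e => by
    have := normalizer_eq_top_iff.1 e
    obtain ⟨g, rfl⟩ := a1
    exact a3.1 (top_le_iff.1 (h.nc ▸ (normalClosure_le_normal ((cj_le_iff.1 a6).trans (cj_normal _ W).le)).trans
      (a7.trans inf_le_right)))
  obtain ⟨J, hJ, b2⟩ := (eq_top_or_exists_le_coatom (𝐍 W)).resolve_left b1
  have b3 : W ≤ J := le_normalizer.trans b2
  have b4 : J ≠ K := fun e => hx' (e ▸ b2 hx)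
  have b5 : J ≠ cj x K := fun e => hx' (by simpa using mem_cj.1 (e ▸ b2 hx : x ∈ cj x K))
  have b6 : cj x E ≤ W := cj_le_of_le_of_mem_normalizer a6 hx
  have b7 : W ≤ cj x K := (cj_of_mem_normalizer hx).ge.trans (cj_mono x (a7.trans inf_le_left))
  have b8 : cj x K ≠ K := fun e => hx' (norm_coatom h.nc a1 a2.co a2.le (cj_eq_self_iff.1 e))
  exact h.fin a1 (mem_cj_cj a1 x) a2 (a2.conj x) b8 a6 b6 (le_inf (a7.trans inf_le_left) b7)
    (h.find a1 a2 hJ b4 (a6.trans b3) (hm E K J a1 a2 hJ b4 (a6.trans b3) (le_inf (a7.trans inf_le_left) b3)) b2)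
    (h.find (mem_cj_cj a1 x) (a2.conj x) hJ b5 (b6.trans b3)
      (hm _ _ J (mem_cj_cj a1 x) (a2.conj x) hJ b5 (b6.trans b3) (le_inf b7 b3)) b2)

theorem false (h : Hy A) {L₀ M₀ : Subgroup G} (hL₀ : IsCoatom L₀) (hM₀ : IsCoatom M₀) (hne₀ : L₀ ≠ M₀) (h1 : A ≤ L₀) (h2 : A ≤ M₀) :
    False := by
  have hT : {W | ∃ E K L : Subgroup G, (∃ g, E = cj g A) ∧ Ex E K ∧ IsCoatom L ∧ L ≠ K ∧ E ≤ L ∧
      W = wc A (K ⊓ L) fun _ => True}.Nonempty := by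
    obtain ⟨M, hM⟩ := h.ex
    by_cases e : L₀ = M
    · exact ⟨_, A, M, M₀, ⟨1, (cj_one A).symm⟩, hM, hM₀, fun e' => hne₀ (e.trans e'.symm), h2, rfl⟩
    · exact ⟨_, A, M, L₀, ⟨1, (cj_one A).symm⟩, hM, hL₀, e, h1, rfl⟩
  obtain ⟨W, ⟨E, K, L, a1, a2, a3, a4, a5, hW⟩, hmax⟩ := (wellFounded_gt (α := Subgroup G)).has_min _ hT
  have w1 : ∀ {B}, (∃ g, B = cj g A) → B ≤ K ⊓ L → B ≤ W := fun b1 b2 => (le_wc b1 b2 trivial).trans hW.ge
  have w2 : ∀ {Z}, W ≤ Z → W ≤ wc A Z fun _ => True := fun b =>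
    hW.le.trans (wc_le_of fun B b1 b2 _ => le_wc b1 ((w1 b1 b2).trans b) trivial)
  have hm : ∀ E K L : Subgroup G, (∃ g, E = cj g A) → Ex E K → IsCoatom L → L ≠ K → E ≤ L →
      W ≤ K ⊓ L → W = wc A (K ⊓ L) fun _ => True := fun E' K' L' b1 b2 b3 b4 b5 b6 =>
    eq_of_le_of_not_lt (w2 b6) (hmax _ ⟨E', K', L', b1, b2, b3, b4, b5, rfl⟩)
  have a6 : E ≤ W := w1 a1 (le_inf a2.le a5)
  have a7 : W ≤ K ⊓ L := hW.le.trans wc_le
  have d1 := h.c1 hm a1 a2 a3 a6 a7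
  obtain ⟨F, f1, f2, f3⟩ : ∃ F, (∃ g, F = cj g A) ∧ F ≤ W ∧ ¬ SubnormalIn L F := by
    by_contra e
    push Not at e
    have b : SubnormalIn L W := by
      rw [hW]; exact subnormalIn_sSup _ fun B hB => e B hB.1 (w1 hB.1 hB.2.1)
    obtain ⟨Z, z1, z2, s, -, s2, s3⟩ := chain b (a7.trans inf_le_left) fun e => a4 (((a3.le_iff.1 e).resolve_left a2.co.1).symm)
    have b2 : wc A Z (fun _ => True) = W := le_antisymm (wc_le_of fun B b1 b2 _ => w1 b1 (b2.trans (z2.trans (inf_comm L K).le))) (w2 z1)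
    exact s2 (d1 (b2 ▸ norm_wc s3))
  have f4 : Ex F L := ⟨a3, f2.trans (a7.trans inf_le_right), f3⟩
  have a8 : W ≤ L ⊓ K := a7.trans (inf_comm K L).le
  have f5 : F ≤ K := f2.trans (a7.trans inf_le_left)
  have d2 := h.c1 hm f1 f4 a2.co f2 a8
  exact h.fin a1 f1 a2 f4 a4 a6 f2 a7 (h.find a1 a2 a3 a4 a5 hW d2) (h.find f1 f4 a2.co a4.symm f5 (by rw [inf_comm]; exact hW) d1)

end Hy

/-- **Flavell**: a subgroup lying in two maximal subgroups and subnormal in all but at most one of its maximal overgroups lies in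
a proper normal subgroup. -/
theorem flavell [Finite G] (A : Subgroup G) {L M : Subgroup G} (hL : IsCoatom L) (hM : IsCoatom M) (hne : L ≠ M) (h1 : A ≤ L)
    (h2 : A ≤ M) (un : ∀ K L, Ex A K → Ex A L → K = L) : normalClosure (A : Set G) ≠ ⊤ := by
  induction A using WellFoundedGT.induction generalizing L M with
  | ind A ih =>
  intro nc
  have hc : ∀ {B : Subgroup G}, (∃ g, B = cj g A) → Nat.card B = Nat.card A := fun ⟨g, e⟩ => e ▸ card_cj g A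
  have un' : ∀ {B K L : Subgroup G}, (∃ g, B = cj g A) → Ex B K → Ex B L → K = L := by
    rintro _ K L ⟨g, rfl⟩ h1 h2
    have a := h1.conj g⁻¹
    have b := h2.conj g⁻¹
    rw [cj_inv_cj] at a b
    exact cj_inj.1 (un _ _ a b)
  refine Hy.false ⟨nc, ?_, un, ?_⟩ hL hM hne h1 h2
  · by_contra e
    push Not at e
    obtain ⟨N, n1, n2⟩ := zipper (A := A) (L := ⊤) le_top (fun H a b => by
      obtain ⟨K, hK, c⟩ := (eq_top_or_exists_le_coatom H).resolve_left b.ne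
      by_contra d
      exact e K ⟨hK, a.trans c, fun d' => d (d'.mono a c)⟩) fun d => by
        obtain ⟨N, n1, n2, n3⟩ := d.exists_lt fun e => hL.1 (top_le_iff.1 (e ▸ h1))
        have := normalizer_eq_top_iff.1 (top_le_iff.1 n2)
        exact n1.ne (top_le_iff.1 (nc ▸ normalClosure_le_normal n3.le))
    exact hne (((hL.le_iff.1 (n2 L h1 hL.lt_top)).resolve_left n1.ne).symm.trans ((hM.le_iff.1 (n2 M h2 hM.lt_top)).resolve_left n1.ne))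
  · rintro _ C K L' ⟨g, rfl⟩ hC b1 b2 b3 b4 b5 b6
    by_contra e
    have c1 := b1.conj g⁻¹
    have c2 := b2.conj g⁻¹
    have hC' := mem_cj_cj hC g⁻¹
    rw [cj_inv_cj] at c1
    have c3 : A < A ⊔ cj g⁻¹ C := lt_of_le_of_ne le_sup_left fun e' => e (by
      rw [← eq_of_le_of_card_ge (le_sup_right.trans e'.ge) (hc hC').ge, cj_cj_inv])
    have c4 : ∀ J, Ex (A ⊔ cj g⁻¹ C) J → J = cj g⁻¹ K := fun J hJ => by
      by_contra e'
      refine hJ.ns (SubnormalIn.sup ?_ ?_) <;> by_contra d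
      · exact e' (un _ _ ⟨hJ.co, le_sup_left.trans hJ.le, d⟩ c1)
      · exact e' (un' hC' ⟨hJ.co, le_sup_right.trans hJ.le, d⟩ c2)
    exact ih _ c3 (isCoatom_cj b3 (g := g⁻¹)) c1.co (fun e' => b4 (cj_inj.1 e')) (sup_le (cj_le_iff.1 b5) (cj_mono _ b6))
      (sup_le c1.le c2.le) (fun J J' a b => (c4 J a).trans (c4 J' b).symm)
      (top_le_iff.1 (nc ▸ normalClosure_mono fun _ hx => c3.le hx))

theorem exists_hull [Finite G] {A L : Subgroup G} (h : A ≤ L) : ∃ H, A ≤ H ∧ SubnormalIn L H ∧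
    normalClosure ((A.subgroupOf H : Subgroup H) : Set H) = ⊤ ∧
    ∀ H', A ≤ H' → H' ≤ L → normalClosure ((A.subgroupOf H' : Subgroup H') : Set H') = ⊤ → H' ≤ H := by
  obtain ⟨H, ⟨h1, h2⟩, hmin⟩ := (wellFounded_lt (α := Subgroup G)).has_min {H | A ≤ H ∧ SubnormalIn L H} ⟨L, h, .refl⟩
  have key : ∀ {H' N : Subgroup G}, A ≤ N → N ≤ H' → H' ≤ 𝐍 N → normalClosure ((A.subgroupOf H' : Subgroup H') : Set H') = ⊤ → H' ≤ N :=
    fun {H' N} a b c d => by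
      have := (normal_subgroupOf_iff_le_normalizer b).2 c
      exact subgroupOf_eq_top.1 (top_le_iff.1 (d ▸ normalClosure_le_normal (subgroupOf_mono H' a : A.subgroupOf H' ≤ N.subgroupOf H')))
  refine ⟨H, h1, h2, ?_, fun H' a b c => ?_⟩
  · by_contra e
    refine hmin ((normalClosure ((A.subgroupOf H : Subgroup H) : Set H)).map H.subtype) ⟨?_, ?_⟩ ?_
    · exact (map_subgroupOf_eq_of_le h1).ge.trans (map_mono le_normalClosure)
    · exact (subnormalIn_map_subtype_iff.2 (Subgroup.Normal.isSubnormal inferInstance)).trans h2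
    · exact lt_of_le_of_ne (map_subtype_le _) fun e' => e (map_injective H.subtype_injective (e'.trans (by simp [← MonoidHom.range_eq_map])))
  · by_contra e
    have h3 := h2.inf_right H'
    rw [inf_eq_right.2 b] at h3
    obtain ⟨N, n1, n2, n3⟩ := h3.exists_lt fun e' => e (e'.ge.trans inf_le_left)
    exact n1.not_ge (key ((le_inf h1 a).trans n3.le) n1.le n2 c)

theorem join_or_unique [Finite G] (A : Subgroup G) (hA : normalClosure (A : Set G) = ⊤) (hAG : A ≠ ⊤) :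
    sSup {H : Subgroup G | A ≤ H ∧ H ≠ ⊤ ∧ normalClosure ((A.subgroupOf H : Subgroup H) : Set H) = ⊤} = ⊤ ∨
      ∃! M : Subgroup G, IsCoatom M ∧ A ≤ M := by
  by_contra e
  push Not at e
  obtain ⟨M, hM, h1⟩ := (eq_top_or_exists_le_coatom _).resolve_left e.1
  have h2 : A ≤ M := le_trans (le_sSup (by exact ⟨le_rfl, hAG, by rw [subgroupOf_self]; exact top_le_iff.1 le_normalClosure⟩)) h1
  obtain ⟨L₀, a1, a2, a3⟩ : ∃ L, IsCoatom L ∧ A ≤ L ∧ L ≠ M := by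
    by_contra e'
    push Not at e'
    exact e.2 ⟨M, ⟨hM, h2⟩, fun L hL => e' L hL.1 hL.2⟩
  obtain ⟨H₀, b1, b2, b3, -⟩ := exists_hull a2
  obtain ⟨H, ⟨c1, c2, L, c3, c4, c5⟩, hmax⟩ := (wellFounded_gt (α := Subgroup G)).has_min
    {H | A ≤ H ∧ normalClosure ((A.subgroupOf H : Subgroup H) : Set H) = ⊤ ∧ ∃ L, IsCoatom L ∧ L ≠ M ∧ SubnormalIn L H}
    ⟨H₀, b1, b3, L₀, a1, a3, b2⟩
  have key : ∀ J, Ex H J → J = M := fun J hJ => by
    by_contra e'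
    obtain ⟨H', d1, d2, d3, d4⟩ := exists_hull (c1.trans hJ.le)
    exact hJ.ns ((eq_of_le_of_not_lt (d4 H c1 hJ.le c2) (hmax H' ⟨d1, d3, J, hJ.co, e', d2⟩)) ▸ d2)
  exact flavell H c3 hM c4 c5.le (le_trans (le_sSup (by exact ⟨c1, fun e' => c3.1 (top_le_iff.1 (e' ▸ c5.le)), c2⟩)) h1)
    (fun J J' a b => (key J a).trans (key J' b).symm) (top_le_iff.1 (hA ▸ normalClosure_mono fun _ hx => c1 hx))

end Cfsg.Lib.Glaub.SubMax
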