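import Cfsg.Agent.Lib.Glaub.SubMax
import Cfsg.Agent.Lib.Char.Classes
import Cfsg.Agent.Lib.Coprime.Action
import Mathlib.GroupTheory.Schreier

/-!
# Iterated commutators with an element whose class generates; order bounds from odd inverted elements
-/

set_option autoImplicit false

namespace Cfsg.Lib.Glaub.SubMax

open Subgroup Cfsg.Lib.Core Cfsg.Lib.Amalg

universe u

theorem gen_aux (k n : ℕ) : ∀ (G : Type u) [Group G] [Finite G], Nat.card G = n → ∀ a : G,
    normalClosure (zpowers a : Set G) = ⊤ → closure (insert a (Set.range (fun c : G => c * a * c⁻¹ * a⁻¹)^[k])) = ⊤ := by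
  induction n using Nat.strong_induction_on with
  | _ n ih =>
  intro G _ _ hn a ha
  obtain ⟨T, hT⟩ : ∃ T, T = closure (insert a (Set.range (fun c : G => c * a * c⁻¹ * a⁻¹)^[k])) := ⟨_, rfl⟩
  have h1 : a ∈ T := hT ▸ subset_closure (Set.mem_insert _ _)
  have h2 : ∀ c, (fun c : G => c * a * c⁻¹ * a⁻¹)^[k] c ∈ T := fun c => hT ▸ subset_closure (Set.mem_insert_of_mem _ ⟨c, rfl⟩)
  rw [← hT]
  by_cases e : zpowers a = ⊤
  · exact top_le_iff.1 (e ▸ zpowers_le.2 h1)
  rcases join_or_unique _ ha e with h | ⟨M, ⟨hM, h3⟩, h4⟩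
  · refine top_le_iff.1 (h ▸ sSup_le fun H ⟨b1, b2, b3⟩ => ?_)
    have b4 : a ∈ H := b1 (mem_zpowers a)
    have b5 : (zpowers a).subgroupOf H = zpowers (⟨a, b4⟩ : H) := map_injective H.subtype_injective (by
      rw [map_subgroupOf_eq_of_le b1, MonoidHom.map_zpowers]; rfl)
    have b6 := ih _ (hn ▸ card_top (G := G) ▸ Core.card_lt_of_lt b2.lt_top) H rfl ⟨a, b4⟩ (b5 ▸ b3)
    have b7 : Function.Semiconj H.subtype (fun c : H => c * ⟨a, b4⟩ * c⁻¹ * (⟨a, b4⟩ : H)⁻¹) (fun c : G => c * a * c⁻¹ * a⁻¹) :=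
      fun _ => rfl
    rw [← subgroupOf_eq_top, ← top_le_iff, ← b6, closure_le]
    rintro _ (rfl | ⟨c, rfl⟩)
    · exact h1
    · exact (show H.subtype _ ∈ T from (b7.iterate_right k c).symm ▸ h2 _)
  · by_contra e'
    obtain ⟨L, hL, b1⟩ := exists_coatom_ge e'
    obtain rfl := h4 L ⟨hL, zpowers_le.2 (b1 h1)⟩
    obtain ⟨x, hx⟩ : ∃ x, x ∉ L := by
      by_contra h
      push Not at h
      exact hL.1 ((eq_top_iff' L).2 h)
    have key : ∀ j, (fun c : G => c * a * c⁻¹ * a⁻¹)^[j] x ∉ L := fun j => by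
      induction j with
      | zero => exact hx
      | succ j ih =>
        rw [Function.iterate_succ_apply']
        generalize (fun c : G => c * a * c⁻¹ * a⁻¹)^[j] x = y at ih
        intro h
        have b2 : a ∈ cj y⁻¹ L := mem_cj.2 (by simpa using mul_mem h (b1 h1))
        exact ih (inv_mem_iff.1 (norm_coatom ha ⟨1, (cj_one _).symm⟩ hL h3 (cj_eq_self_iff.1 (h4 _ ⟨isCoatom_cj hL, zpowers_le.2 b2⟩))))
    exact key k (b1 (h2 x))

variable {G : Type*} [Group G] [Finite G]

theorem gen {a : G} (ha : normalClosure (zpowers a : Set G) = ⊤) (k : ℕ) :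
    closure (insert a (Set.range (fun c : G => c * a * c⁻¹ * a⁻¹)^[k])) = ⊤ := gen_aux k _ G rfl a ha

theorem gen' {a : G} (ha : normalClosure (zpowers a : Set G) = ⊤) (k : ℕ) {K : Subgroup G} (h1 : a ∈ K)
    (h2 : ∀ c, (fun c : G => c * a * c⁻¹ * a⁻¹)^[k] (c * a * c⁻¹ * a⁻¹) ∈ K) : K = ⊤ :=
  top_le_iff.1 ((gen ha (k + 1)).ge.trans ((closure_le _).2 (by
    rintro _ (rfl | ⟨c, rfl⟩)
    · exact h1
    · exact h2 c)))

theorem index_cent_le {S : Finset G} {B : ℕ} (h : ∀ x ∈ S, (centralizer ({x} : Set G)).index ≤ B) :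
    (centralizer (S : Set G)).index ≤ B ^ S.card := by
  classical
  induction S using Finset.induction_on with
  | empty => rw [Finset.coe_empty, show centralizer (∅ : Set G) = ⊤ from (eq_top_iff' _).2 fun _ _ h => h.elim, index_top]; simp
  | insert a S ha ih =>
    have e : centralizer ((insert a S : Finset G) : Set G) = centralizer {a} ⊓ centralizer (S : Set G) := by
      ext x; simp [mem_centralizer_iff]
    rw [e, Finset.card_insert_of_notMem ha, pow_succ']
    exact index_inf_le.trans (Nat.mul_le_mul (h a (Finset.mem_insert_self _ _)) (ih fun x hx => h x (Finset.mem_insert_of_mem hx)))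

theorem card_le_gen {S : Set G} {n i r : ℕ} (hS : closure S = ⊤) (hn : 0 < n) (h : ∀ x ∈ S, x ^ n = 1) (h1 : Group.rank G ≤ r)
    (h2 : (center G).index ≤ i) : Nat.card G ≤ i * (i * n) ^ (i * r) := by
  letI : CommGroup (center G) := { (inferInstance : Group (center G)) with
    mul_comm := fun a b => Subtype.ext (mem_center_iff.1 b.2 a) }
  have h3 : ∀ y : G, MonoidHom.transferCenterPow G y ^ n = 1 := fun y => by
    have hy : y ∈ closure S := hS ▸ mem_top y
    induction hy using closure_induction with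
    | mem x hx => rw [← map_pow, h x hx, map_one]
    | one => rw [map_one, one_pow]
    | mul x y hx hy a b => rw [map_mul, mul_pow, a, b, one_mul]
    | inv x hx a => rw [map_inv, inv_pow, a, inv_one]
  have h4 := card_dvd_exponent_pow_rank' (center G) (n := (center G).index * n) fun z => by
    have := congrArg Subtype.val (h3 z)
    exact Subtype.ext (by rw [coe_pow, pow_mul]; exact this)
  have h5 : 0 < (center G).index := Nat.pos_of_ne_zero FiniteIndex.index_ne_zero
  rw [← (center G).index_mul_card]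
  exact Nat.mul_le_mul h2 ((Nat.le_of_dvd (by positivity) h4).trans ((Nat.pow_le_pow_left (Nat.mul_le_mul_right n h2) _).trans
    (Nat.pow_le_pow_right (Nat.mul_pos (h5.trans_le h2) hn) ((rank_le_index_mul_rank _).trans (Nat.mul_le_mul h2 h1)))))

theorem card_closure_le {S : Finset G} {n i : ℕ} (hn : 0 < n) (h : ∀ x ∈ S, x ^ n = 1) (hi : (centralizer (S : Set G)).index ≤ i) :
    Nat.card (closure (S : Set G)) ≤ i * (i * n) ^ (i * S.card) := by
  refine card_le_gen (closure_closure_coe_preimage (k := (S : Set G))) hn (fun x hx => Subtype.ext (h x hx))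
    (rank_closure_finset_le_card S) ?_
  refine le_trans (index_antitone (H := (centralizer (S : Set G)).subgroupOf _) fun x hx => mem_center_iff.2 fun y => ?_) ?_
  · exact Subtype.ext ((centralizer_closure (S : Set G) ▸ hx : (x : G) ∈ centralizer (closure (S : Set G) : Set G)) y y.2)
  · exact (relIndex_le_of_le_right le_top (by rw [relIndex_top_right]; exact FiniteIndex.index_ne_zero)).trans
      (by rwa [relIndex_top_right])

theorem card_le_small {t : G} (ht : t * t = 1) {c : ℕ} (hc : Nat.card (centralizer ({t} : Set G)) ≤ c) :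
    Nat.card G ≤ 2 * c ^ 2 * {x : G | (centralizer ({x} : Set G)).index ≤ 2 * c ^ 2}.ncard := by
  classical
  have := Fintype.ofFinite G
  obtain ⟨T, hT⟩ : ∃ T : Finset G, T = Finset.univ.filter (IsConj t) := ⟨_, rfl⟩
  have h1 : Nat.card G ≤ T.card * c := by
    rw [← (centralizer ({t} : Set G)).index_mul_card, ← Char.card_isConj, Nat.subtype_card T (by simp [hT])]
    exact Nat.mul_le_mul_left _ hc
  have h2 : ∀ a ∈ T, a * a = 1 := fun a ha => by
    obtain ⟨g, rfl⟩ := isConj_iff.1 (Finset.mem_filter.1 (hT ▸ ha)).2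
    rw [show g * t * g⁻¹ * (g * t * g⁻¹) = g * (t * t) * g⁻¹ by group, ht]; group
  have h3 : ∀ g : G, ((T ×ˢ T).filter fun p => p.1 * p.2 = g).card ≤ Nat.card (centralizer ({g} : Set G)) := fun g => by
    rcases ((T ×ˢ T).filter fun p => p.1 * p.2 = g).eq_empty_or_nonempty with e | ⟨q, hq⟩
    · simp [e]
    have k : ∀ p ∈ (T ×ˢ T).filter fun p => p.1 * p.2 = g, p.1 * g = g⁻¹ * p.1 := fun p hp => by
      obtain ⟨b1, rfl⟩ := Finset.mem_filter.1 hp
      have c1 := h2 _ (Finset.mem_product.1 b1).1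
      have c2 := h2 _ (Finset.mem_product.1 b1).2
      rw [← mul_assoc, c1, one_mul, mul_inv_rev, inv_eq_of_mul_eq_one_right c1, inv_eq_of_mul_eq_one_right c2, mul_assoc, c1, mul_one]
    rw [← Nat.card_eq_finsetCard]
    refine Nat.card_le_card_of_injective (fun p => ⟨q.1⁻¹ * p.1.1, mem_centralizer_singleton_iff.2 ?_⟩) fun p p' e => ?_
    · rw [mul_assoc, k _ p.2, ← mul_assoc, ← mul_inv_rev, show g * q.1 = q.1 * g⁻¹ by
        rw [eq_mul_inv_iff_mul_eq, mul_assoc, k _ hq]; group]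
      group
    · have e1 : p.1.1 = p'.1.1 := mul_left_cancel (congrArg Subtype.val e)
      exact Subtype.ext (Prod.ext e1 (mul_left_cancel (((Finset.mem_filter.1 p.2).2.trans (Finset.mem_filter.1 p'.2).2.symm).trans
        (by rw [e1]))))
  have h4 : T.card * T.card ≤ ∑ g : G, Nat.card (centralizer ({g} : Set G)) := by
    rw [← Finset.card_product, Finset.card_eq_sum_card_fiberwise (f := fun p : G × G => p.1 * p.2) (t := Finset.univ) (by simp)]
    exact Finset.sum_le_sum fun g _ => h3 g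
  have h5 : ∀ g : G, 2 * c ^ 2 * Nat.card (centralizer ({g} : Set G)) ≤
      (if (centralizer ({g} : Set G)).index ≤ 2 * c ^ 2 then 2 * c ^ 2 * Nat.card G else 0) + Nat.card G := fun g => by
    split_ifs with h
    · exact (Nat.mul_le_mul_left _ (card_le_card_group _)).trans (Nat.le_add_right _ _)
    · rw [zero_add, ← (centralizer ({g} : Set G)).index_mul_card]
      exact Nat.mul_le_mul_right _ (not_le.1 h).le
  have h6 := Finset.sum_le_sum fun g (_ : g ∈ Finset.univ) => h5 g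
  rw [← Finset.mul_sum, Finset.sum_add_distrib, ← Finset.sum_filter, Finset.sum_const, Finset.sum_const, Finset.card_univ,
    ← Nat.card_eq_fintype_card, smul_eq_mul, smul_eq_mul] at h6
  rw [Set.ncard_eq_toFinset_card', Set.toFinset_setOf]
  generalize (Finset.univ.filter fun g : G => (centralizer ({g} : Set G)).index ≤ 2 * c ^ 2).card = k at h6 ⊢
  have h7 : 0 < Nat.card G := Nat.card_pos
  have h8 := Nat.mul_le_mul h1 h1
  have h9 := Nat.mul_le_mul_left (2 * c ^ 2) h4
  refine Nat.le_of_mul_le_mul_right ?_ h7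
  nlinarith

theorem cl_mul (x y : G) : (centralizer ({x * y} : Set G)).index ≤ (centralizer ({x} : Set G)).index * (centralizer ({y} : Set G)).index :=
  (index_antitone fun g hg => mem_centralizer_singleton_iff.2 (by
    rw [← mul_assoc, mem_centralizer_singleton_iff.1 hg.1, mul_assoc, mem_centralizer_singleton_iff.1 hg.2, mul_assoc])).trans index_inf_le

theorem cl_inv (x : G) : (centralizer ({x⁻¹} : Set G)).index = (centralizer ({x} : Set G)).index := by
  congr 1; ext g; simp only [mem_centralizer_singleton_iff]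
  exact Commute.inv_right_iff

omit [Finite G] in
theorem cl_one : (centralizer ({1} : Set G)).index = 1 := by
  rw [show centralizer ({1} : Set G) = ⊤ from (eq_top_iff' _).2 fun _ => mem_centralizer_singleton_iff.2 (by simp), index_top]

theorem bfc {b r : ℕ} (hb : 1 ≤ b) (h : Nat.card G ≤ r * {x : G | (centralizer ({x} : Set G)).index ≤ b}.ncard) :
    ∀ x ∈ closure {x : G | (centralizer ({x} : Set G)).index ≤ b}, (centralizer ({x} : Set G)).index ≤ b ^ (3 * r) := by
  obtain ⟨K, hK⟩ : ∃ K, K = {x : G | (centralizer ({x} : Set G)).index ≤ b} := ⟨_, rfl⟩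
  rw [← hK] at h ⊢
  let L : ℕ → Set G := fun i => {x | x ∈ closure K ∧ (centralizer ({x} : Set G)).index ≤ b ^ i}
  have l1 : ∀ {i j}, i ≤ j → L i ⊆ L j := fun e x hx => ⟨hx.1, hx.2.trans (Nat.pow_le_pow_right hb e)⟩
  have l2 : ∀ {i x k}, x ∈ L i → k ∈ K → x * k ∈ L (i + 1) := fun hx hk =>
    ⟨mul_mem hx.1 (subset_closure hk), (cl_mul _ _).trans (pow_succ b _ ▸ Nat.mul_le_mul hx.2 (by rwa [hK] at hk))⟩
  have l3 : ∀ {k}, k ∈ K → k⁻¹ ∈ K := fun hk => by rw [hK] at hk ⊢; exact (cl_inv _).trans_le hk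
  have l0 : ∀ i, (1 : G) ∈ L i := fun i => ⟨one_mem _, cl_one.trans_le (Nat.one_le_pow _ _ hb)⟩
  have l4 : ∀ i, L (i + 1) ⊆ L i → ∀ x ∈ closure K, x ∈ L i := fun i e x hx => by
    induction hx using closure_induction_right with
    | one => exact l0 i
    | mul_right x _ k hk a => exact e (l2 a hk)
    | mul_inv_cancel x _ k hk a => exact e (l2 a (l3 hk))
  have l5 : ∀ j, (¬ ∀ x ∈ closure K, x ∈ L (3 * j)) → (j + 1) * K.ncard ≤ (L (3 * j + 2)).ncard := fun j => by
    induction j with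
    | zero => exact fun _ => by simpa using Set.ncard_le_ncard fun k hk => l1 one_le_two (by simpa using l2 (l0 0) hk)
    | succ j ih =>
      intro e
      obtain ⟨x, x1, x2⟩ := Set.not_subset.1 fun e' => e (l4 _ e')
      have b1 := ih fun e' => e fun x hx => l1 (by omega) (e' x hx)
      have b2 : Disjoint (L (3 * j + 2)) ((x * ·) '' K) := Set.disjoint_right.2 (by
        rintro _ ⟨k, hk, rfl⟩ e'
        exact x2 (l1 (by omega) (by simpa using l2 e' (l3 hk) : x ∈ L (3 * j + 2 + 1))))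
      have b3 : L (3 * j + 2) ∪ (x * ·) '' K ⊆ L (3 * (j + 1) + 2) := Set.union_subset (l1 (by omega)) (by
        rintro _ ⟨k, hk, rfl⟩; exact l2 x1 hk)
      have b4 := Set.ncard_le_ncard b3
      rw [Set.ncard_union_eq b2, Set.ncard_image_of_injective _ (mul_right_injective x)] at b4
      nlinarith
  by_contra e
  have b1 := l5 r fun e' => e fun x hx => (e' x hx).2
  have b2 : (L (3 * r + 2)).ncard ≤ Nat.card G := Set.ncard_univ G ▸ Set.ncard_le_ncard (Set.subset_univ _)
  have b3 : 0 < K.ncard := (Set.ncard_pos (Set.toFinite _)).2 ⟨1, hK ▸ cl_one.trans_le hb⟩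
  nlinarith

theorem exists_ab {t : G} (ht : t * t = 1) {c d : ℕ} (hc : Nat.card (centralizer ({t} : Set G)) ≤ c) (hd : Group.rank G ≤ d) :
    ∃ A : Subgroup G, A.Normal ∧ A ≤ 𝐂 A ∧ A.index ≤ 2 * c ^ 2 * ((2 * c ^ 2) ^ (3 * (2 * c ^ 2))) ^ (2 * c ^ 2 * d) := by
  have h0 : 1 ≤ 2 * c ^ 2 := by have := Nat.card_pos.trans_le hc; nlinarith
  have h1 := card_le_small ht hc
  have h2 := bfc h0 h1
  obtain ⟨H, hH⟩ : ∃ H, H = closure {x : G | (centralizer ({x} : Set G)).index ≤ 2 * c ^ 2} := ⟨_, rfl⟩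
  have h3 : H.Normal := normal_of_cj_le fun g => by
    rw [hH, cj_closure]
    refine closure_mono ?_
    rintro _ ⟨x, hx, rfl⟩
    have := index_cj g (centralizer ({x} : Set G))
    rw [cj_centralizer_singleton] at this
    exact this.trans_le hx
  have h4 : H.index ≤ 2 * c ^ 2 := by
    refine Nat.le_of_mul_le_mul_right (H.index_mul_card.trans_le (h1.trans (Nat.mul_le_mul_left _ ?_))) Nat.card_pos
    exact (Set.ncard_le_ncard (hH ▸ subset_closure)).trans_eq (Nat.card_coe_set_eq (H : Set G)).symm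
  obtain ⟨S, s1, s2⟩ := Group.rank_spec H
  classical
  have h5 := index_cent_le (S := S.image H.subtype) (B := (2 * c ^ 2) ^ (3 * (2 * c ^ 2))) fun x hx => by
    obtain ⟨y, -, rfl⟩ := Finset.mem_image.1 hx
    exact h2 _ (hH ▸ y.2)
  rw [← centralizer_closure, Finset.coe_image, ← MonoidHom.map_closure, s2, ← MonoidHom.range_eq_map, range_subtype] at h5
  refine ⟨H ⊓ 𝐂 H, inferInstance, inf_le_right.trans (centralizer_le inf_le_left), index_inf_le.trans (Nat.mul_le_mul h4 (h5.trans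
    (Nat.pow_le_pow_right (Nat.one_le_pow _ _ h0) (Finset.card_image_le.trans (s1.trans_le ((rank_le_index_mul_rank H).trans
      (Nat.mul_le_mul h4 hd)))))))⟩

theorem cl_le {A : Subgroup G} [hA : A.Normal] (h : A ≤ 𝐂 A) {t s : G} (ht : t * t = 1) (hs : s * s = 1) :
    (centralizer ({s * t} : Set G)).index ≤ A.index * (Nat.card (centralizer ({s} : Set G)) * Nat.card (centralizer ({t} : Set G))) := by
  have key : ∀ t : G, t * t = 1 → ∃ φ : A →* centralizer ({t} : Set G), ∀ a, (φ a : G) = a * (t * a * t⁻¹) := fun t ht =>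
    ⟨MonoidHom.mk' (fun a => ⟨a * (t * a * t⁻¹), mem_centralizer_singleton_iff.2 (by
      have e : (t * a * t⁻¹) * a = a * (t * a * t⁻¹) := h a.2 _ (hA.conj_mem _ a.2 t)
      rw [← e, show t * (t * a * t⁻¹ * a) = t * t * a * t⁻¹ * a by group, ht, e, inv_eq_of_mul_eq_one_right ht,
        show a * (t * a * t) * t = a * t * a * (t * t) by group, ht]
      group)⟩) fun a b => Subtype.ext (by
        have := h b.2 _ (hA.conj_mem _ a.2 t)
        simp only [coe_mul]
        calc _ = a * (b * (t * a * t⁻¹)) * (t * b * t⁻¹) := by group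
          _ = _ := by rw [← this]; group), fun _ => rfl⟩
  obtain ⟨φ, hφ⟩ := key s hs
  obtain ⟨ψ, hψ⟩ := key t ht
  refine le_trans (index_antitone (H := (φ.prod ψ).ker.map A.subtype) ?_) ?_
  · rintro _ ⟨a, ha, rfl⟩
    have b1 := (hφ a).symm.trans (congrArg (fun p => (p.1 : G)) ha)
    have b2 := (hψ a).symm.trans (congrArg (fun p => (p.2 : G)) ha)
    have b3 : s * a * s⁻¹ = (a : G)⁻¹ := eq_inv_of_mul_eq_one_right b1
    have b4 : t * a * t⁻¹ = (a : G)⁻¹ := eq_inv_of_mul_eq_one_right b2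
    rw [mem_centralizer_singleton_iff]
    calc (a : G) * (s * t) = (s * a * s⁻¹)⁻¹ ⁻¹ ⁻¹ * (s * t) := by rw [b3]; group
      _ = s * (t * a * t⁻¹) * t := by rw [b4]; group
      _ = s * t * a := by group
  · rw [index_map_subtype, mul_comm, index_ker, ← Nat.card_prod]
    exact Nat.mul_le_mul_left _ (card_le_card_group _)

theorem index_le_two {S : Set G} {t : G} (ht : t * t = 1) (h : closure (insert t S) = ⊤) (h1 : ∀ x ∈ S, t * x * t⁻¹ = x⁻¹) :
    (closure S).Normal ∧ (closure S).index ≤ 2 := by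
  have h2 : closure S ⊔ zpowers t = ⊤ := by rw [← h, Set.insert_eq, Subgroup.closure_union, sup_comm, zpowers_eq_closure]
  have h3 : (closure S).Normal := normalizer_eq_top_iff.1 (top_le_iff.1 (h2 ▸ sup_le le_normalizer (zpowers_le.2
    (mem_normalizer_of_cj_le (cj_le_iff.2 ((closure_le _).2 fun x hx => mem_cj.2 (by
      simpa [h1 x hx] using subset_closure hx)))))))
  refine ⟨h3, ?_⟩
  rw [← relIndex_top_right, ← h2, relIndex_sup_left]
  refine (Nat.le_of_dvd Nat.card_pos (relIndex_dvd_card _ _)).trans ?_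
  rw [Nat.card_zpowers]
  exact Nat.le_of_dvd two_pos (orderOf_dvd_of_pow_eq_one (by rwa [sq]))

theorem bound (m : ℕ) : ∃ F : ℕ, ∀ (G : Type u) [Group G] [Finite G] (t : G), t * t = 1 → normalClosure (zpowers t : Set G) = ⊤ →
    {x : G | Odd (orderOf x) ∧ t * x * t⁻¹ = x⁻¹}.ncard ≤ m → Nat.card G ≤ F := by
  obtain ⟨c, hc⟩ : ∃ c, c = m.factorial := ⟨_, rfl⟩
  obtain ⟨B, hB⟩ : ∃ B, B = (2 * c ^ 2 * ((2 * c ^ 2) ^ (3 * (2 * c ^ 2))) ^ (2 * c ^ 2 * (m + 1)) * (c * c)) ^ m := ⟨_, rfl⟩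
  obtain ⟨i, hi⟩ : ∃ i, i = 2 * (B * (B * c) ^ (B * m)) := ⟨_, rfl⟩
  have c0 : 0 < c := hc ▸ m.factorial_pos
  have B0 : 0 < B := by rw [hB]; positivity
  have i0 : 0 < i := by rw [hi]; positivity
  refine ⟨2 * (i * (i * c) ^ (i * m)), fun G _ _ t ht hn hm => ?_⟩
  classical
  obtain ⟨J, hJ⟩ : ∃ J : Finset G, ∀ x, x ∈ J ↔ Odd (orderOf x) ∧ t * x * t⁻¹ = x⁻¹ :=
    ⟨(Set.toFinite {x : G | Odd (orderOf x) ∧ t * x * t⁻¹ = x⁻¹}).toFinset, fun x => by simp⟩
  have j1 : J.card ≤ m := by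
    rw [← Set.ncard_coe_finset]; exact le_trans (le_of_eq (congrArg _ (Set.ext hJ))) hm
  have j2 : ∀ x ∈ J, x ^ c = 1 := fun x hx => by
    rw [hc, ← orderOf_dvd_iff_pow_eq_one]
    refine Nat.dvd_factorial (orderOf_pos x) (le_trans ?_ j1)
    rw [← Nat.card_zpowers, ← Nat.card_eq_finsetCard]
    suffices h : (zpowers x : Set G) ⊆ (J : Set G) from Nat.card_le_card_of_injective _ (Set.inclusion_injective h)
    rintro _ ⟨k, rfl⟩
    exact (hJ _).2 ⟨((hJ x).1 hx).1.of_dvd_nat (orderOf_dvd_of_mem_zpowers ⟨k, rfl⟩), by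
      simp only [← conj_zpow, ((hJ x).1 hx).2, inv_zpow]⟩
  have j3 : closure (insert t (J : Set G)) = ⊤ := by
    refine top_le_iff.1 (gen hn (Nat.card G + 1) ▸ closure_mono (Set.insert_subset_insert ?_))
    rintro _ ⟨u, rfl⟩
    have key : ∀ (k : ℕ) (g : G), t * g * t⁻¹ = g⁻¹ → (fun c : G => c * t * c⁻¹ * t⁻¹)^[k] g = g ^ 2 ^ k := fun k => by
      induction k with
      | zero => simp
      | succ k ih =>
        intro g hg
        have e : g * t * g⁻¹ * t⁻¹ = g ^ 2 := by rw [mul_assoc g, mul_assoc g, ← conj_inv, hg, inv_inv, sq]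
        rw [Function.iterate_succ_apply, e, ih _ (by rw [← conj_pow, hg, inv_pow]), ← pow_mul, pow_succ']
    obtain ⟨v, hv⟩ : ∃ v, v = u * t * u⁻¹ * t⁻¹ := ⟨_, rfl⟩
    have h3 : t * v * t⁻¹ = v⁻¹ := by
      rw [hv, show t * (u * t * u⁻¹ * t⁻¹) * t⁻¹ = t * u * (t * t) * t⁻¹ * u⁻¹ * (t * t)⁻¹ by group, ht]; group
    rw [Function.iterate_succ_apply, ← hv, key _ _ h3]
    obtain ⟨k, n, hn, e⟩ := Nat.exists_eq_two_pow_mul_odd (orderOf_pos v).ne'
    refine (hJ _).2 ⟨hn.of_dvd_nat (orderOf_dvd_of_pow_eq_one ?_), by rw [← conj_pow, h3, inv_pow]⟩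
    rw [← pow_mul, ← orderOf_dvd_iff_pow_eq_one, e]
    exact Nat.mul_dvd_mul_right (pow_dvd_pow 2 ((Nat.lt_two_pow_self.le.trans (Nat.le_of_dvd (orderOf_pos v) ⟨n, e⟩)).trans
      orderOf_le_card)) n
  obtain ⟨j4, j5⟩ := index_le_two ht j3 fun x hx => ((hJ x).1 hx).2
  have j6 : (centralizer (J : Set G)).Normal := centralizer_closure (J : Set G) ▸ inferInstance
  obtain ⟨φ, hφ⟩ : ∃ φ, φ = QuotientGroup.mk' (centralizer (J : Set G)) := ⟨_, rfl⟩
  have f1 : Function.Surjective φ := hφ ▸ QuotientGroup.mk'_surjective _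
  have f2 : φ.ker = centralizer (J : Set G) := hφ ▸ QuotientGroup.ker_mk' _
  have f2' : ∀ g, φ g = 1 ↔ g ∈ centralizer (J : Set G) := fun g => by rw [← MonoidHom.mem_ker, f2]
  have f3 : φ t * φ t = 1 := by rw [← map_mul, ht, map_one]
  have f4 : Nat.card (centralizer ({φ t} : Set (G ⧸ centralizer (J : Set G)))) ≤ c := by
    have k : ∀ d : (centralizer ({φ t} : Set (G ⧸ centralizer (J : Set G)))).comap φ, ∀ x ∈ J, d * x * (d : G)⁻¹ ∈ J := fun d x hx => by
      have b1 : (d : G)⁻¹ * t * d * t⁻¹ ∈ centralizer (J : Set G) := by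
        rw [← f2', map_mul, map_mul, map_mul, mul_assoc _ (φ t), ← mem_centralizer_singleton_iff.1 d.2]; simp
      have b2 := (Commute.inv_left (b1 x hx : Commute _ _)).eq
      refine (hJ _).2 ⟨by rw [← MulAut.conj_apply, MulEquiv.orderOf_eq]; exact ((hJ x).1 hx).1, ?_⟩
      calc _ = d * ((d : G)⁻¹ * t * d * t⁻¹ * (t * x * t⁻¹)) * ((d : G)⁻¹ * t * d * t⁻¹)⁻¹ * (d : G)⁻¹ := by group
        _ = _ := by rw [((hJ x).1 hx).2, ← b2]; group
    let ψ : (centralizer ({φ t} : Set (G ⧸ centralizer (J : Set G)))).comap φ →* Equiv.Perm J := MonoidHom.mk'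
      (fun d => ⟨fun x => ⟨_, k d x x.2⟩, fun x => ⟨_, k d⁻¹ x x.2⟩, fun x => Subtype.ext (by simp [mul_assoc]),
        fun x => Subtype.ext (by simp [mul_assoc])⟩) fun a b => Equiv.ext fun x => Subtype.ext (by simp [mul_assoc])
    have b1 : ψ.ker ≤ φ.ker.subgroupOf _ := fun d hd => mem_subgroupOf.2 ((f2' _).2 fun x hx => by
      have := congrArg Subtype.val (Equiv.ext_iff.1 hd ⟨x, hx⟩)
      exact (mul_inv_eq_iff_eq_mul.1 this).symm)
    have b2 := index_antitone b1
    rw [index_ker] at b2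
    have b3 : (φ.ker.subgroupOf ((centralizer ({φ t} : Set (G ⧸ centralizer (J : Set G)))).comap φ)).index =
        Nat.card (centralizer ({φ t} : Set (G ⧸ centralizer (J : Set G)))) := by
      rw [← relIndex, relIndex_ker, map_comap_eq_self_of_surjective f1]
    refine b3.ge.trans (b2.trans ((card_le_card_group _).trans ?_))
    rw [Nat.card_perm, Nat.card_eq_finsetCard, hc]
    exact Nat.factorial_le j1
  have f5 : closure (insert (φ t) ((J.image φ : Finset _) : Set (G ⧸ centralizer (J : Set G)))) = ⊤ := by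
    rw [Finset.coe_image, ← Set.image_insert_eq, ← MonoidHom.map_closure, j3, map_top_of_surjective φ f1]
  have f6 : ∀ y ∈ J.image φ, φ t * y * (φ t)⁻¹ = y⁻¹ := fun y hy => by
    obtain ⟨x, hx, rfl⟩ := Finset.mem_image.1 hy
    rw [← map_inv, ← map_mul, ← map_mul, ((hJ x).1 hx).2, map_inv]
  have f7 : (J.image φ).card ≤ m := Finset.card_image_le.trans j1
  obtain ⟨A, a1, a2, a3⟩ := exists_ab f3 f4 (d := m + 1) ((Group.rank_le (S := insert (φ t) (J.image φ)) (by
    rw [Finset.coe_insert, f5])).trans ((Finset.card_insert_le _ _).trans (Nat.succ_le_succ f7)))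
  have f8 : (centralizer ((J.image φ : Finset _) : Set (G ⧸ centralizer (J : Set G)))).index ≤ B := by
    refine (index_cent_le fun y hy => ?_).trans (hB ▸ Nat.pow_le_pow_right (by positivity) f7)
    obtain ⟨x, hx, rfl⟩ := Finset.mem_image.1 hy
    obtain ⟨r, hr⟩ := exists_pow_eq_self_of_coprime (x := x) (n := 2) ((hJ x).1 hx).1.coprime_two_left
    have b1 : x ^ r * t * (x ^ r)⁻¹ * t = x := by
      nth_rewrite 2 [← inv_eq_of_mul_eq_one_right ht]
      rw [mul_assoc (x ^ r), mul_assoc (x ^ r), ← inv_pow, ← conj_pow, ← conj_inv, ((hJ x).1 hx).2, inv_inv, ← sq, ← pow_mul, mul_comm,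
        pow_mul, hr]
    have b2 := cl_le a2 f3 (s := φ (x ^ r) * φ t * (φ (x ^ r))⁻¹) (by
      rw [show ∀ a b : G ⧸ centralizer (J : Set G), a * b * a⁻¹ * (a * b * a⁻¹) = a * (b * b) * a⁻¹ from fun a b => by group, f3]; group)
    rw [← cj_centralizer_singleton, card_cj, ← map_inv, ← map_mul, ← map_mul, ← map_mul, b1] at b2
    exact b2.trans (Nat.mul_le_mul a3 (Nat.mul_le_mul f4 f4))
  have f9 : (centralizer (J : Set G)).index ≤ i := by
    rw [index_eq_card, ← (closure ((J.image φ : Finset _) : Set (G ⧸ centralizer (J : Set G)))).index_mul_card, hi]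
    refine Nat.mul_le_mul (index_le_two f3 f5 f6).2 ((card_closure_le c0 (fun y hy => ?_) f8).trans
      (Nat.mul_le_mul_left _ (Nat.pow_le_pow_right (by positivity) (Nat.mul_le_mul_left _ f7))))
    obtain ⟨x, hx, rfl⟩ := Finset.mem_image.1 hy
    rw [← map_pow, j2 x hx, map_one]
  rw [← (closure (J : Set G)).index_mul_card]
  exact Nat.mul_le_mul j5 ((card_closure_le c0 j2 f9).trans
    (Nat.mul_le_mul_left _ (Nat.pow_le_pow_right (by positivity) (Nat.mul_le_mul_left _ j1))))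

open SemidirectProduct in
theorem nc_semi {G : Type*} [Group G] (α : MulAut G) (hG : closure (Set.range (fun c : G => c * (α c)⁻¹)) = ⊤) :
    normalClosure (zpowers (inr ⟨α, mem_zpowers α⟩ : G ⋊[(zpowers α).subtype] zpowers α) : Set (G ⋊[(zpowers α).subtype] zpowers α)) = ⊤ := by
  obtain ⟨N, hN⟩ : ∃ N, N = normalClosure (zpowers (inr ⟨α, mem_zpowers α⟩ : G ⋊[(zpowers α).subtype] zpowers α) :
    Set (G ⋊[(zpowers α).subtype] zpowers α)) := ⟨_, rfl⟩
  have h0 : N.Normal := hN ▸ inferInstance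
  have h1 : inr ⟨α, mem_zpowers α⟩ ∈ N := hN ▸ le_normalClosure (mem_zpowers _)
  have h2 : ∀ g : G, inl g ∈ N := fun g => by
    have : closure (Set.range (fun c : G => c * (α c)⁻¹)) ≤ N.comap inl := (closure_le _).2 (by
      rintro _ ⟨c, rfl⟩
      have := mul_mem (h0.conj_mem _ h1 (inl c)) (inv_mem h1)
      rw [mul_assoc (inl c), mul_assoc (inl c), ← map_inv inl, ← map_inv inr, ← inl_aut, ← map_mul] at this
      simpa using this)
    exact this (hG ▸ mem_top g)
  rw [← hN, eq_top_iff']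
  intro x
  obtain ⟨k, hk⟩ := x.right.2
  rw [← inl_left_mul_inr_right x, show x.right = ⟨α, mem_zpowers α⟩ ^ k from Subtype.ext hk.symm, map_zpow]
  exact mul_mem (h2 _) (zpow_mem h1 k)

omit [Finite G] in
theorem comm_mem_of {N : Subgroup G} (hN : N.Normal) {a : G} (g0 : ∀ K : Subgroup G, a ∈ K → N ≤ K → K = ⊤) (c : G) :
    c * a * c⁻¹ * a⁻¹ ∈ N := by
  have b := g0 ((centralizer {QuotientGroup.mk' N a}).comap (QuotientGroup.mk' N))
    (mem_centralizer_singleton_iff.2 rfl) fun x hx => mem_centralizer_singleton_iff.2 (by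
      rw [show QuotientGroup.mk' N x = 1 from (QuotientGroup.eq_one_iff x).2 hx, one_mul, mul_one])
  have b' := mem_centralizer_singleton_iff.1 (mem_comap.1 ((eq_top_iff' _).1 b c))
  rw [← QuotientGroup.eq_one_iff, ← QuotientGroup.mk'_apply, map_mul, map_mul, map_mul, b', map_inv, map_inv]
  group

open SemidirectProduct in
theorem gen_aut (α : MulAut G) (hG : closure (Set.range (fun c : G => c * (α c)⁻¹)) = ⊤) (k : ℕ) :
    closure (Set.range ((fun c : G => c * (α c)⁻¹)^[k + 1])) = ⊤ := by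
  have := Coprime.finite_semidirect (zpowers α).subtype
  obtain ⟨a, ha⟩ : ∃ a : G ⋊[(zpowers α).subtype] zpowers α, a = inr ⟨α, mem_zpowers α⟩ := ⟨_, rfl⟩
  obtain ⟨E, hE⟩ : ∃ E, E = closure (Set.range ((fun c : G => c * (α c)⁻¹)^[k + 1])) := ⟨_, rfl⟩
  have h1 : ∀ g : G, a * inl g * a⁻¹ = inl (α g) := fun g => by rw [ha, ← map_inv inr, ← inl_aut]; rfl
  have h2 : Function.Semiconj (inl : G → G ⋊[(zpowers α).subtype] zpowers α) (fun c : G => c * (α c)⁻¹) (fun c => c * a * c⁻¹ * a⁻¹) :=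
    fun c => by simp only [map_mul, map_inv, ← h1]; group
  have h3 : ∀ c, c * a * c⁻¹ * a⁻¹ = inl (c.left * (α c.left)⁻¹) := fun c => by
    obtain ⟨j, hj⟩ := c.right.2
    have e : inr c.right * a * (inr c.right)⁻¹ = a := by
      rw [show c.right = ⟨α, mem_zpowers α⟩ ^ j from Subtype.ext hj.symm, map_zpow, ← ha]; group
    rw [h2 c.left]
    nth_rewrite 1 2 [← inl_left_mul_inr_right c]
    nth_rewrite 3 [← e]
    group
  have h4 : Function.Semiconj α (fun c : G => c * (α c)⁻¹) (fun c : G => c * (α c)⁻¹) := fun c => by simp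
  have h5 : a ∈ normalizer ((E.map inl : Subgroup (G ⋊[(zpowers α).subtype] zpowers α)) : Set (G ⋊[(zpowers α).subtype] zpowers α)) := mem_normalizer_of_cj_le (show cj a (E.map inl) ≤ E.map inl by
    rw [hE, MonoidHom.map_closure, cj_closure]
    refine closure_mono ?_
    rintro _ ⟨_, ⟨_, ⟨c, rfl⟩, rfl⟩, rfl⟩
    exact ⟨_, ⟨α c, rfl⟩, by rw [← h4.iterate_right (k + 1) c, ← h1]; rfl⟩)
  have g0 : ∀ K : Subgroup (G ⋊[(zpowers α).subtype] zpowers α), a ∈ K → E.map inl ≤ K → K = ⊤ := fun K k1 k2 =>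
    gen' (ha ▸ nc_semi α hG) (k + 1) k1 fun c => by
      rw [h3, ← h2.iterate_right]
      exact k2 ⟨_, hE ▸ subset_closure ⟨_, rfl⟩, rfl⟩
  have h6 := normalizer_eq_top_iff.1 (g0 _ h5 le_normalizer)
  have h7 := comm_mem_of h6 g0
  rw [← hE, ← top_le_iff, ← hG, closure_le]
  rintro _ ⟨c, rfl⟩
  obtain ⟨y, b1, b2⟩ := h7 (inl c)
  rw [h3] at b2
  exact show c * (α c)⁻¹ ∈ E from (inl_injective b2 : y = c * (α c)⁻¹) ▸ b1

open SemidirectProduct in
theorem bound_aut : ∃ f : ℕ → ℕ, ∀ (G : Type u) [Group G] [Finite G] (α : MulAut G), α * α = 1 →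
    closure (Set.range (fun c : G => c * (α c)⁻¹)) = ⊤ → Nat.card G ≤ f (Nat.card {g : G // Odd (orderOf g) ∧ α g = g⁻¹}) := by
  choose F hF using bound.{u}
  refine ⟨F, fun G _ _ α h1 h2 => ?_⟩
  have := Coprime.finite_semidirect (zpowers α).subtype
  have h3 : (⟨α, mem_zpowers α⟩ : zpowers α) ^ 2 = 1 := Subtype.ext (by rw [sq]; exact h1)
  refine (Nat.card_le_card_of_injective _ inl_injective).trans (hF _ (G ⋊[(zpowers α).subtype] zpowers α) _
    (by rw [← map_mul, ← sq, h3, map_one]) (nc_semi α h2) ?_)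
  refine le_trans (Set.ncard_le_ncard (t := inl '' {g : G | Odd (orderOf g) ∧ α g = g⁻¹}) fun x ⟨x1, x2⟩ => ?_)
    ((Set.ncard_image_le (Set.toFinite _)).trans (Nat.card_coe_set_eq _).ge)
  have e : x.right = 1 := by
    obtain ⟨j, hj⟩ := x.right.2
    have b1 : x.right ^ 2 = 1 := by
      rw [show x.right = ⟨α, mem_zpowers α⟩ ^ j from Subtype.ext hj.symm, ← zpow_natCast, ← zpow_mul, mul_comm, zpow_mul, zpow_natCast, h3,
        one_zpow]
    exact orderOf_eq_one_iff.1 (Nat.eq_one_of_dvd_coprimes x1.coprime_two_right (orderOf_map_dvd rightHom x) (orderOf_dvd_of_pow_eq_one b1))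
  obtain ⟨g, rfl⟩ : ∃ g, inl g = x := ⟨x.left, by rw [← inl_left_mul_inr_right x, e]; simp⟩
  rw [← map_inv inr, ← inl_aut, ← map_inv] at x2
  exact ⟨g, ⟨by rwa [orderOf_injective _ inl_injective] at x1, inl_injective x2⟩, rfl⟩

end Cfsg.Lib.Glaub.SubMax
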